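import Mathlib
import Cfsg.Agent.Base
import Cfsg.Agent.Lib.Block.D2p
import Cfsg.Agent.Lib.Ord.M11A
import Cfsg.Agent.Lib.Stein.SLn
import Cfsg.Agent.Lib.Char.GoingDown
import Cfsg.Agent.Lib.Char.ExtDet

/-! Groups with a Sylow subgroup of order `p` and a faithful character of degree `p - 2`. -/

set_option autoImplicit false
set_option linter.unusedSectionVars false
set_option linter.style.haveILetI false

open Cfsg H17.Ord
open H86 (Cen Nor)
open H35 (pPart pReg IsPElt)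
open scoped ComplexConjugate MatrixGroups

namespace H84

variable {G : Type*} [Group G] {p : ℕ} [hp : Fact p.Prime] {P : Subgroup G}

theorem DefOne.fourier [Fintype G] [Fintype P] [Fintype (Nor P)] {L : Log p P}
    {B : Set (IrrCharacter G)} {θ : IrrCharacter (Cen P)} (D : DefOne L B θ) (h : PKer P θ)
    (i : (ZMod p)ˣ) (k : ZMod p) {y : Cen P} (hy : ¬ p ∣ orderOf y) :
    (Nat.card (Cen P) : ℂ) * ∑ x : P, (D.ψ i : G → ℂ) (x * y) * conj (eps p (k * L.l x)) =
      Nat.card (Cen P) * (D.ψ i : G → ℂ) y - D.ε * ∑ n : Nor P, (θ : Cen P → ℂ) (cE n y) +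
        D.ε * p * ∑ n : Nor P, if i * L.r n = k then (θ : Cen P → ℂ) (cE n y) else 0 := by
  have hy' : ¬ p ∣ orderOf (y : G) := by rwa [Subgroup.orderOf_coe]
  rw [Finset.mul_sum, sum_P_of_val L (φ := fun x => (Nat.card (Cen P) : ℂ) *
    ((D.ψ i : G → ℂ) (x * y) * conj (eps p (k * L.l x)))) (F := fun a => D.ε * ∑ n : Nor P,
      (θ : Cen P → ℂ) (cE n y) * eps p (a * (i * L.r n - k))) fun x hx h1 => ?_]
  · simp only [one_mul, L.l_one, mul_zero, zero_mul, eps_zero, map_one, mul_one]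
    rw [← Finset.mul_sum, Finset.sum_comm, mul_assoc, Finset.mul_sum _ _ (p : ℂ)]
    congr 2
    refine Finset.sum_congr rfl fun n _ => ?_
    simp only [← Finset.mul_sum, sum_eps, sub_eq_zero]
    split_ifs <;> ring
  · have hs := H35.dvd_orderOf_mul (H35.isPElt_of_mem L.pgrp hx) h1 hy'
      (commute_of_mem_Cen hx y.2)
    have h2 := L.indc_sing θ i (c := ⟨x, L.le_Cen hx⟩ * y) (by rwa [← Subgroup.orderOf_coe])
    rw [D.sing_ψ i _ hs, ← mul_assoc, mul_left_comm,
      show (Nat.card (Cen P) : ℂ) * L.indc θ i (x * y) = _ from h2, mul_assoc, Finset.sum_mul]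
    congr 1
    refine Finset.sum_congr rfl fun n _ => ?_
    rw [L.cjc_th, L.th_apply, cjc_apply, map_mul, H6.char_mul_of_eq_one (irr_chr θ)
      (h _ (conj_mem_of_Nor n.2 hx)), Subgroup.coe_mul, L.l_mul _ (L.le_Cen hx) _ y.2,
      (L.l_eq_zero _ y.2).2 hy', conj_eps, mul_assoc, ← eps_add]
    congr 2
    ring

variable [Finite G]

theorem const_false (L : Log p P) {ζ : G → ℂ} (hζ : IsCharacter G ζ) (hd : ζ 1 = p - 2)
    (hf : ∀ g, ζ g = ζ 1 → g = 1) {c : ℤ} (h : ∀ x ∈ P, x ≠ 1 → ζ x = c) (h2 : 2 < p) : False := by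
  haveI := Fintype.ofFinite P
  have h1 := card_mul_fd P hζ
  rw [sum_P_of_val L (F := fun _ => c) h, L.card, hd, Finset.sum_const, Finset.card_univ,
    ZMod.card, nsmul_eq_mul] at h1
  have h3 : (p : ℤ) * fd P ζ = p - 2 - c + p * c := by exact_mod_cast h1
  obtain ⟨x, hx, hx1⟩ := L.exists_l 1
  have hx2 : x ≠ 1 := by rintro rfl; exact zero_ne_one (L.l_one.symm.trans hx1)
  have h4 := H6.char_norm_le hζ x
  rw [h x hx hx2, hd, ← Nat.cast_ofNat (R := ℂ), ← Nat.cast_sub h2.le, Complex.norm_intCast,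
    Complex.norm_natCast] at h4
  have h5 : |c| ≤ (p - 2 : ℕ) := by exact_mod_cast h4
  have h6 : (p : ℤ) ∣ c + 2 := ⟨1 + c - fd P ζ, by linarith⟩
  have h7 : 0 ≤ c := by
    by_contra h7
    nlinarith [Nat.cast_nonneg (α := ℤ) (fd P ζ)]
  have h8 := Int.le_of_dvd (by omega) h6
  rw [abs_of_nonneg h7] at h5
  refine hx2 (hf x ?_)
  rw [h x hx hx2, hd, show c = p - 2 by omega]
  push_cast; rfl

theorem struct_of_deg (L : Log p P) (h2 : 2 < p) (ζ : IrrCharacter G)
    (hd : (ζ : G → ℂ) 1 = p - 2) (hf : ∀ g, (ζ : G → ℂ) g = (ζ : G → ℂ) 1 → g = 1)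
    (hn : ¬ P.Normal) : (Cen P).relIndex (Nor P) = 2 ∧
      (∃ i ≠ 0, ∀ x ∈ P, x ≠ 1 → (ζ : G → ℂ) x = -eta2 p (i * L.l x)) ∧
      ∀ y ∈ Cen P, ¬ p ∣ orderOf y → y ∈ Subgroup.center G := by
  classical
  haveI := Fintype.ofFinite G
  have hd' : (ζ : G → ℂ) 1 = (p - 2 : ℕ) := by rw [hd, Nat.cast_sub h2.le]; rfl
  have hc := irr_chr ζ
  have hζ := ζ.2
  have hker : H6.charKer (ζ : G → ℂ) = ⊥ := eq_bot_iff.2 fun g hg => hf g ((H6.mem_charKer hc).1 hg)
  obtain ⟨M, hM⟩ := H33.exists_isPModular p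
  haveI := H33.isMaximal_of hM
  obtain ⟨B, hB, hζB⟩ : ∃ B, IsPBlock M B ∧ ζ ∈ B :=
    ⟨_, isPBlock_blockOf (M := M) ζ, mem_blockOf_self _⟩
  have hD : IsDefectGroup p M _ P := (H33.sylow_isDefectGroup_iff hM hB
    (L.pgrp.toSylow L.ind)).2 ((H33.blockDefect_eq_card_iff hB).2 ⟨_, hζB, fun h => by
      have := Nat.le_of_dvd (by omega) (H87.deg_of_eq hd' ▸ h)
      omega⟩)
  obtain ⟨b, θ, hb, hθ, hk⟩ := L.exists_root hM hB hD
  obtain ⟨D⟩ := L.nonempty_defOne hM hD hb hθ hk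
  obtain hX | ⟨i, rfl⟩ := (D.mem_iff _).1 hζB
  · exact (const_false L hc hd hf (c := D.εX ζ * ((inert θ).index * dg θ))
      (fun x hx h1 => (D.X_of_mem hk hX hx h1).trans (by rw [dg_cast]; push_cast; rfl)) h2).elim
  have hval : ∀ x ∈ P, x ≠ 1 → (D.ψ i : G → ℂ) x = D.ε * (dg θ * L.eta (i * L.l x)) :=
    fun x hx h1 => by
      have hs := L.dvd_orderOf_of_mem hx h1
      rw [D.sing_ψ i x hs, L.indc_of_inv i (c := ⟨x, L.le_Cen hx⟩) (fun n =>
        (hk _ (conj_mem_of_Nor n.2 hx)).trans (hk _ hx).symm) (by rwa [← Subgroup.orderOf_coe]),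
        hk _ hx, dg_cast]
  have hA := fun k => H17.Ord.isCharacter_avg hc P (Cen P) le_rfl (lam := fun x => eps p (k * L.l x))
    (H6.isCharacter_comp (Subgroup.inclusion L.le_Cen) (H6.isCharacter_hom (L.hom k)))
  have hC0 := H6.card_ne_zero (G := Cen P)
  have hp0 : (p : ℂ) ≠ 0 := Nat.cast_ne_zero.2 hp.out.ne_zero
  have hF : ∀ y : Cen P, ¬ p ∣ orderOf y → (Nat.card (Cen P) : ℂ) *
      ∑ x : P, (D.ψ i : G → ℂ) (x * y) * conj (eps p (i * L.l x)) =
      Nat.card (Cen P) * (D.ψ i : G → ℂ) y - D.ε * ∑ n : Nor P, (θ : Cen P → ℂ) (cE n y) +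
        D.ε * p * (Nat.card (Cen P) * (θ : Cen P → ℂ) y) := fun y hy => by
    rw [D.fourier hk i i hy, Finset.sum_congr (f := fun n => ite _ _ _) rfl (g := fun n =>
      if n ∈ L.r.ker then (θ : Cen P → ℂ) y else 0) fun n _ => ?_, sum_ite_mem, L.card_ker_r, mul_zero, add_zero]
    by_cases h1 : n ∈ L.r.ker
    · rw [if_pos h1, if_pos (by rw [MonoidHom.mem_ker.1 h1]; simp), ← cjc_apply,
        cjc_of_mem ((L.r_eq_one n).1 h1)]
    · rw [if_neg h1, if_neg fun h3 => h1 (Units.ext (mul_left_cancel₀ i.ne_zero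
        (h3.trans (mul_one _).symm)))]
  have hN := Log.card_Nor (P := P)
  have he := L.card_H_dvd (irrOne _)
  have he0 := L.card_H_pos (irrOne _)
  rw [L.card_H_one] at he he0
  have hHs := L.card_Hs
  have hη := L.eta_eq
  generalize (Cen P).relIndex (Nor P) = e at hN he he0 hHs hη
  obtain ⟨a, ha⟩ := H6.char_one_nat (hA 0)
  obtain ⟨a', ha'⟩ := H6.char_one_nat (hA i)
  have h1 : (p : ℤ) * a = p - 2 - D.ε * (e * dg θ) := by
    have h3 := D.fourier hk i 0 (y := 1) PB.reg_one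
    rw [L.card, inv_mul_eq_iff_eq_mul₀ hp0] at ha
    rw [ha] at h3
    simp only [map_one, Finset.sum_const, Finset.card_univ, ← Nat.card_eq_fintype_card, hN,
      if_neg (mul_ne_zero i.ne_zero (Units.ne_zero _)), Subgroup.coe_one, hd, dg_cast] at h3
    have : (((p : ℤ) * a : ℤ) : ℂ) = (p - 2 - D.ε * (e * dg θ) : ℤ) := mul_left_cancel₀ hC0 (by
      simp only [nsmul_eq_mul] at h3
      push_cast at h3 ⊢
      linear_combination h3)
    exact_mod_cast this
  have h3 : (p : ℤ) * a' = p - 2 - D.ε * (e * dg θ) + D.ε * (p * dg θ) := by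
    have h3 := hF 1 PB.reg_one
    rw [L.card, inv_mul_eq_iff_eq_mul₀ hp0] at ha'
    rw [ha'] at h3
    simp only [map_one, Finset.sum_const, Finset.card_univ, ← Nat.card_eq_fintype_card, hN,
      Subgroup.coe_one, hd, dg_cast] at h3
    have : (((p : ℤ) * a' : ℤ) : ℂ) = (p - 2 - D.ε * (e * dg θ) + D.ε * (p * dg θ) : ℤ) :=
      mul_left_cancel₀ hC0 (by
        simp only [nsmul_eq_mul] at h3
        push_cast at h3 ⊢
        linear_combination h3)
    exact_mod_cast this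
  have hβ := dg_pos θ
  have heβ : 0 < e * dg θ := Nat.mul_pos he0 hβ
  obtain ⟨x, hx, hx1⟩ := L.exists_l 1
  have hx2 : x ≠ 1 := by rintro rfl; exact zero_ne_one (L.l_one.symm.trans hx1)
  rcases D.sign with hε | hε
  · exfalso
    rw [hε, one_mul] at h1
    have h4 : a = 0 := by
      by_contra h4
      have : (1 : ℤ) ≤ a := by omega
      nlinarith
    have h5 : e * dg θ + 2 = p := by subst h4; zify; push_cast at h1; linarith
    have h6 : e = 1 := Nat.dvd_one.1 ((Nat.dvd_add_right (dvd_mul_right e (dg θ))).1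
      (by rwa [show e * dg θ + 1 = p - 1 by omega]))
    have h7 : L.Hs = {1} := by
      obtain ⟨c, h7⟩ := Finset.card_eq_one.1 (hHs.trans h6)
      rw [h7, Finset.mem_singleton.1 (h7 ▸ L.mem_Hs.2 (one_mem _) : 1 ∈ ({c} : Finset _))]
    have h8 := H87.mem_center_of_norm_eq hζ hker (z := x) (by
      rw [hval x hx hx2, hε, Log.eta, h7, Finset.sum_singleton, hd', norm_mul, norm_mul,
        Complex.norm_eq_one_of_pow_eq_one (eps_pow_p _) hp.out.ne_zero,
        show p - 2 = dg θ by rw [h6] at h5; omega]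
      simp)
    refine hn ⟨fun y hy g => ?_⟩
    rwa [Subgroup.mem_center_iff.1 ((eq_zpowers_of_card L.card hx hx2).le.trans
      (Subgroup.zpowers_le.2 h8) hy) g, mul_inv_cancel_right]
  rw [hε] at h1 h3
  have h4 : e ≠ p - 1 := fun h4 => const_false L hc hd hf (c := dg θ) (fun x hx h5 => by
    have h6 := Log.sum_zmod_eq fun k : ZMod p => eps p (k * (i * L.l x))
    rw [sum_eps, if_neg (mul_ne_zero i.ne_zero (L.l_ne_zero (L.le_Cen hx)
      (L.dvd_orderOf_of_mem hx h5))), zero_mul, eps_zero] at h6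
    rw [hval x hx h5, hε, Log.eta, Finset.eq_univ_of_card L.Hs (by rw [hHs, h4, ZMod.card_units])]
    push_cast
    linear_combination (dg θ : ℂ) * h6) h2
  have h5 : 2 * e + 1 ≤ p := by
    obtain ⟨c, hc⟩ := he
    have : 2 ≤ c := by
      by_contra h5
      obtain rfl | rfl : c = 0 ∨ c = 1 := by omega
      all_goals omega
    have := Nat.mul_le_mul_left e this
    omega
  have h6 : (a : ℤ) = a' + dg θ :=
    mul_left_cancel₀ (show (p : ℤ) ≠ 0 by omega) (by linear_combination h1 - h3)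
  have h7 : a = 1 := by
    by_contra h7
    have h8 : (2 : ℤ) ≤ a := by omega
    have h9 : (e : ℤ) * dg θ ≤ e * a := by gcongr; omega
    have h10 : (2 * e + 1 : ℤ) ≤ p := by exact_mod_cast h5
    nlinarith
  have h8 : dg θ = 1 := by omega
  obtain rfl : e = 2 := by rw [h7, h8] at h1; omega
  refine ⟨rfl, ⟨i, i.ne_zero, fun x hx h9 => by
    rw [hval x hx h9, hε, h8, hη rfl]; simp⟩, fun y hy h9 => ?_⟩
  have h10 := hF ⟨y, hy⟩ (by rwa [← Subgroup.orderOf_coe])
  have h11 := H6.char_norm_le (hA i) ⟨y, hy⟩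
  rw [ha', show a' = 0 by omega, Nat.cast_zero, norm_zero, norm_le_zero_iff, mul_eq_zero] at h11
  rw [h11.resolve_left (inv_ne_zero (H6.card_ne_zero)), hε] at h10
  have h12 : ∀ c, ‖(θ : Cen P → ℂ) c‖ = 1 :=
    norm_eq_one_of_linear (irr_chr θ) (by rw [dg_cast, h8, Nat.cast_one])
  refine H87.mem_center_of_norm_eq hζ hker (le_antisymm (H6.char_norm_le hc y) ?_)
  have h13 := norm_sum_le Finset.univ fun n : Nor P => (θ : Cen P → ℂ) (cE n ⟨y, hy⟩)
  have h14 := norm_add_le ((Nat.card (Cen P) : ℂ) * (D.ψ i : G → ℂ) y)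
    (∑ n : Nor P, (θ : Cen P → ℂ) (cE n ⟨y, hy⟩))
  rw [show (Nat.card (Cen P) : ℂ) * (D.ψ i : G → ℂ) y + ∑ n : Nor P, (θ : Cen P → ℂ) (cE n ⟨y, hy⟩) =
    p * (Nat.card (Cen P) * (θ : Cen P → ℂ) ⟨y, hy⟩) by push_cast at h10; linear_combination -h10]
    at h14
  simp only [h12, Finset.sum_const, Finset.card_univ, ← Nat.card_eq_fintype_card, hN, norm_mul,
    Complex.norm_natCast, nsmul_eq_mul, Nat.cast_mul] at h13 h14
  rw [hd', Complex.norm_natCast, Nat.cast_sub h2.le]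
  refine le_of_mul_le_mul_left ?_ (show (0 : ℝ) < Nat.card (Cen P) from Nat.cast_pos.2 Nat.card_pos)
  push_cast at h13 ⊢
  linarith

theorem lift_comm {u y : G} (h : ∀ c ∈ Subgroup.center G, (orderOf c).Coprime (orderOf u))
    (hc : (y : G ⧸ Subgroup.center G) * u = u * y) : y * u = u * y := by
  have h1 : y * u * y⁻¹ * u⁻¹ ∈ Subgroup.center G := by
    rw [← QuotientGroup.eq_one_iff]
    simp [hc]
  have h2 : Commute (y * u * y⁻¹ * u⁻¹) u := (Subgroup.mem_center_iff.1 h1 u).symm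
  have h3 := h2.mul_pow (orderOf u)
  rw [inv_mul_cancel_right, conj_pow, pow_orderOf_eq_one, mul_one, mul_one, mul_inv_cancel] at h3
  have h4 := orderOf_eq_one_iff.1 ((h _ h1).eq_one_of_dvd (orderOf_dvd_of_pow_eq_one h3.symm))
  rwa [mul_inv_eq_one, mul_inv_eq_iff_eq_mul] at h4

theorem not_isCyclic_of_perfect (hperf : commutator G = ⊤) (h2 : 2 ∣ Nat.card G) (T : Sylow 2 G) :
    ¬ IsCyclic (T : Subgroup G) := fun h => by
  have h1 := h.normalizer_le_centralizer ((Nat.minFac_eq_two_iff _).2 h2)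
  refine MonoidHom.not_dvd_card_ker_transferSylow T h1 ?_
  letI : CommGroup (T : Subgroup G) := IsCyclic.commGroup
  rwa [eq_top_iff.2 (hperf.ge.trans
    (Abelianization.commutator_subset_ker (MonoidHom.transferSylow T h1))), Subgroup.card_top]

theorem LS.sl2 {L : Log p P} {ζ : G → ℂ} {i : ZMod p} (h : LS L ζ i) (h5 : 5 < p)
    (hperf : commutator G = ⊤) (he : (Cen P).relIndex (Nor P) = 2) :
    Subgroup.center G = ⊥ ∧ ∃ (a : ℕ) (F : Type) (_ : Field F) (_ : Fintype F), p = 2 ^ a + 1 ∧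
      Fintype.card F = 2 ^ a ∧ Nonempty (G ≃* SL(2, F)) := by
  obtain ⟨B⟩ := nonempty_PB L.card L.ind he
  obtain ⟨x, hx, hxo⟩ := B.exists_sing
  have hx1 : x ≠ 1 := by rintro rfl; exact PB.reg_one hxo.symm.dvd
  have hZp : ∀ c ∈ Subgroup.center G, ¬ p ∣ orderOf c := fun c hc h1 => by
    have h2 := pPart_mem_of_mem_Cen L.card L.ind (Subgroup.center_le_centralizer _ hc)
    rw [Subgroup.relIndex_eq_one.2 fun g _ => (isCen_of_card L.card h2
      ((H35.pPart_ne_one_iff p).2 h1) g).2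
      (Subgroup.mem_center_iff.1 (H35.pPart_mem p hc) g).symm] at he
    omega
  have hlift : ∀ {u : G}, IsPElt 2 u → u * u ∈ Subgroup.center G → u * u = 1 := fun hu h1 =>
    (hu.mul hu (Commute.refl _)).eq_one_of_not_dvd (h.odd _ h1)
  have hsf := QuotientGroup.mk'_surjective (Subgroup.center G)
  obtain ⟨T⟩ := (inferInstance : Nonempty (Sylow 2 G))
  have hT : ∀ t ∈ (T : Subgroup G), t * t = 1 := fun t ht => by
    have h1 := H35.isPElt_of_mem T.isPGroup' ht
    by_cases h2 : t = 1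
    · rw [h2, mul_one]
    · exact hlift h1 (h.sq_mem_center h5 (orderOf_pow_orderOf_div (orderOf_pos t).ne'
        (h1.dvd_orderOf h2)) (Commute.pow_self t _))
  have hperf' : commutator (G ⧸ Subgroup.center G) = ⊤ := by
    rw [commutator_def, ← Subgroup.map_top_of_surjective _ hsf, ← Subgroup.map_commutator,
      ← commutator_def, hperf]
  have hZ : (Nat.card (Subgroup.center G)).Coprime 2 :=
    ((Nat.Prime.coprime_iff_not_dvd Nat.prime_two).2 fun h1 => by
      obtain ⟨c, hc⟩ := exists_prime_orderOf_dvd_card' 2 h1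
      exact h.odd c c.2 (by rw [Subgroup.orderOf_coe, hc])).symm
  have key := sl2_final (p := p) (x := (x : G ⧸ Subgroup.center G))
    ⟨orderOf_eq_prime (by rw [← QuotientGroup.mk_pow, ← hxo, pow_orderOf_eq_one]; rfl)
      fun h1 => hZp x ((QuotientGroup.eq_one_iff x).1 h1) hxo.symm.dvd,
      le_antisymm (fun g hg => ?_) (Subgroup.zpowers_le.2
        (Subgroup.mem_centralizer_singleton_iff.2 rfl))⟩ (T.mapSurjective hsf)
    (not_isCyclic_of_perfect hperf' (hZ.symm.dvd_of_dvd_mul_right (by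
      rw [← Subgroup.card_eq_card_quotient_mul_card_subgroup]
      exact (Dvd.intro_left _ (card_Nor_eq B).symm).trans (Subgroup.card_subgroup_dvd_card _))) _)
    ((Nat.le_of_dvd Nat.card_pos (Subgroup.card_map_dvd _ _)).trans_lt (h.card_lt hT))
    fun z hz y hy => ?_
  · obtain ⟨a, F, _, _, h1, h2, ⟨f⟩⟩ := key
    haveI : CharP F 2 := by
      have := FiniteField.cast_card_eq_zero F
      rw [h2, Nat.cast_pow] at this
      exact (CharP.charP_iff_prime_eq_zero Nat.prime_two).2 (pow_eq_zero_iff'.1 this).1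
    have h3 : (f.toMonoidHom.comp (QuotientGroup.mk' _)).ker = Subgroup.center G := by
      ext g; simp
    have h4 := H63.St.SL.ker_eq_bot (m := 1) (p := 2) ⟨f.surjective.comp hsf, h3.le⟩
      ⟨_, hZ, fun z hz => congrArg Subtype.val
        (pow_card_eq_one' (x := (⟨z, h3.le hz⟩ : Subgroup.center G)))⟩ (hperf ▸ le_top)
    exact ⟨h3 ▸ h4, a, F, inferInstance, inferInstance, h1, h2,
      ⟨MulEquiv.ofBijective _ ⟨(MonoidHom.ker_eq_bot_iff _).1 h4, f.surjective.comp hsf⟩⟩⟩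
  · obtain ⟨g, rfl⟩ := QuotientGroup.mk_surjective g
    have h1 := (isCen_of_card L.card hx hx1 g).2 (lift_comm (fun c hc => hxo ▸
      ((Nat.Prime.coprime_iff_not_dvd hp.out).2 (hZp c hc)).symm)
      (Subgroup.mem_centralizer_singleton_iff.1 hg)).symm
    rw [← H35.pPart_mul_pReg p g, QuotientGroup.mk_mul, (QuotientGroup.eq_one_iff _).2
      (h.reg _ (H35.pReg_mem p h1) (H35.not_dvd_orderOf_pReg p g)), mul_one]
    obtain ⟨k, hk⟩ := (eq_zpowers_of_card L.card hx hx1).le (pPart_mem_of_mem_Cen L.card L.ind h1)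
    exact ⟨k, by rw [← hk]; rfl⟩
  · obtain ⟨y, rfl⟩ := QuotientGroup.mk_surjective y
    obtain ⟨u, hu, rfl⟩ := H35.exists_isPElt_mk_eq 2 _ (q := z) ⟨1, hz⟩
    have h1 : orderOf u = 2 := orderOf_eq_prime ((sq u).trans (hlift hu (by
      rw [← QuotientGroup.eq_one_iff, ← sq, QuotientGroup.mk_pow, ← hz, pow_orderOf_eq_one])))
      (by rintro rfl; simp at hz)
    exact (QuotientGroup.eq_one_iff _).2 (h.sq_mem_center h5 h1 (lift_comm (fun c hc => h1 ▸
      ((Nat.Prime.coprime_iff_not_dvd Nat.prime_two).2 (h.odd c hc)).symm) hy).symm)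

theorem char_pow_of_central {ζ : G → ℂ} (hζ : IsCharacter G ζ) {d : ℕ} (hd : ζ 1 = d) {z : G}
    (h1 : ‖ζ z‖ = ‖ζ 1‖) (h2 : z ∈ commutator G) : ζ (z ^ d) = ζ 1 := by
  obtain ⟨n, ρ, rfl⟩ := hζ
  rw [Representation.char_one, Nat.cast_inj] at hd
  rw [Representation.char_one, Complex.norm_natCast, H6.norm_character_eq_iff] at h1
  obtain ⟨ω, hω⟩ := h1
  have h3 := H31.repDet_apply ρ z
  rw [MonoidHom.mem_ker.1 (Abelianization.commutator_subset_ker (H31.repDet ρ) h2), hω,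
    LinearMap.det_smul, LinearMap.det_id, mul_one, hd, Units.val_one] at h3
  rw [Representation.char_one, H6.character_eq_finrank_iff, map_pow, hω, smul_pow, ← h3, one_smul]
  exact one_pow d

theorem brauer_sub_two (h5 : 5 < p) (hP : Nat.card P = p) (hi : ¬ p ∣ P.index) (hn : ¬ P.Normal)
    (ζ : IrrCharacter G) (hd : dg ζ = p - 2) (hf : ∀ g, (ζ : G → ℂ) g = (ζ : G → ℂ) 1 → g = 1) :
    ∃ (a : ℕ) (F : Type) (_ : Field F) (_ : Fintype F), p = 2 ^ a + 1 ∧ Fintype.card F = 2 ^ a ∧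
      Nonempty (G ≃* SL(2, F) × Subgroup.center G) := by
  obtain ⟨L⟩ := nonempty_log hP hi
  have hd1 : (ζ : G → ℂ) 1 = (p - 2 : ℕ) := by rw [dg_cast, hd]
  have hd2 : (ζ : G → ℂ) 1 = p - 2 := by rw [hd1, Nat.cast_sub (by omega)]; rfl
  have hodd : Odd (p - 2) := by
    obtain ⟨k, hk⟩ := hp.out.odd_of_ne_two (by omega)
    exact ⟨k - 1, by omega⟩
  obtain ⟨he, -, hreg⟩ := struct_of_deg L (by omega) ζ hd2 hf hn
  have hPH : P ≤ commutator G := le_commutator_of_relIndex hP (by omega)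
  have hsup := Nor_sup_eq_top hP hi hPH
  have hCK : ∀ K : Subgroup G, commutator G ≤ K → Subgroup.center G ≤ K → Cen P ≤ K :=
    fun K h1 h2 c hc => H35.pPart_mul_pReg p c ▸ mul_mem (h1 (hPH (pPart_mem_of_mem_Cen hP hi hc)))
      (h2 (hreg _ (H35.pReg_mem p hc) (H35.not_dvd_orderOf_pReg p c)))
  have hirr := H31.isIrr_res_of_forall_hom (commutator G) le_rfl ζ.2 fun lam h1 h2 => by
    have h3 := hCK lam.ker h1 fun z hz => Units.ext (mul_left_cancel₀ (fun h4 => by
      have := H87.norm_eq_of_mem_center ζ.2 hz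
      rw [h4, norm_zero, eq_comm, norm_eq_zero] at this
      exact H6.irr_one_ne_zero ζ.2 this) ((h2 z).trans (mul_one _).symm))
    have h4 : ⊤ ≤ (lam ^ 2).ker := hsup.ge.trans (sup_le (fun n hn => by
      have := h3 (Subgroup.mul_self_mem_of_index_two he ⟨n, hn⟩)
      rwa [MonoidHom.mem_ker, MonoidHom.pow_apply, sq, ← map_mul]) fun n hn => by
        rw [MonoidHom.mem_ker, MonoidHom.pow_apply, h1 n hn, one_pow])
    ext g
    have h6 := H31.detHom_hom_mul (irr_chr ζ) hd1 lam g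
    obtain ⟨k, hk⟩ := hodd
    rw [show (fun g => (lam g : ℂ) * (ζ : G → ℂ) g) = ζ from funext fun g => by rw [mul_comm, h2],
      hk, pow_succ, pow_mul, show lam g ^ 2 = 1 from h4 (Subgroup.mem_top g), one_pow, one_mul,
      right_eq_mul] at h6
    rw [h6]; rfl
  obtain ⟨L'⟩ := nonempty_log (P := P.subgroupOf (commutator G))
    ((Nat.card_congr (Subgroup.subgroupOfEquivOfLe hPH).toEquiv).trans hP)
    fun h => hi (h.trans (Subgroup.relIndex_dvd_index_of_le hPH))
  obtain ⟨he', ⟨i, hi0, hval⟩, hreg'⟩ := struct_of_deg L' (by omega) ⟨_, hirr⟩ hd2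
    (fun g hg => Subtype.ext (hf g hg)) fun h => hn (Subgroup.normalizer_eq_top_iff.1 (by
      rwa [sup_eq_left.2 ((Subgroup.normal_subgroupOf_iff_le_normalizer hPH).1 h)] at hsup))
  obtain ⟨n, hn1, hn2⟩ := SetLike.not_le_iff_exists.1
    (mt Subgroup.relIndex_eq_one.2 (he'.trans_ne (by norm_num)))
  rw [Nor, ← Subgroup.subgroupOf_normalizer_eq hPH] at hn1
  have hn3 : (⟨n, hn1⟩ : Nor P) ∉ (Cen P).subgroupOf (Nor P) := fun h =>
    hn2 (H86.mem_Cen.2 fun q hq => Subtype.ext (H86.mem_Cen.1 h q hq))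
  have hHZ : commutator G ⊔ Subgroup.center G = ⊤ := by
    refine eq_top_iff.2 (hsup.ge.trans (sup_le (fun m hm => ?_) le_sup_left))
    have h1 := hCK _ (le_sup_left (b := Subgroup.center G)) le_sup_right
    by_cases h2 : (⟨m, hm⟩ : Nor P) ∈ (Cen P).subgroupOf (Nor P)
    · exact h1 h2
    · exact (Subgroup.mul_mem_cancel_right _ (Subgroup.mem_sup_left n.2)).1
        (h1 ((Subgroup.mul_mem_iff_of_index_two he).2 (iff_of_false h2 hn3)))
  have hdec : ∀ g : G, ∃ h ∈ commutator G, ∃ z ∈ Subgroup.center G, h * z = g := fun g =>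
    Subgroup.mem_sup_of_normal_right.1 (hHZ ▸ Subgroup.mem_top g)
  have hcen : ∀ z ∈ Subgroup.center (commutator G), (z : G) ∈ Subgroup.center G := fun z hz =>
    Subgroup.mem_center_iff.2 fun g => by
      obtain ⟨h, hh, c, hc, rfl⟩ := hdec g
      rw [mul_assoc, ← Subgroup.mem_center_iff.1 hc, ← mul_assoc, ← mul_assoc,
        show h * z = z * h from congrArg Subtype.val (Subgroup.mem_center_iff.1 hz ⟨h, hh⟩)]
  have hperf : commutator (commutator G) = ⊤ := by
    refine Subgroup.map_injective (commutator G).subtype_injective ?_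
    rw [Subgroup.map_subtype_commutator, ← MonoidHom.range_eq_map, Subgroup.range_subtype]
    refine le_antisymm (Subgroup.commutator_mono le_top le_top)
      (Subgroup.commutator_le.2 fun a _ b _ => ?_)
    obtain ⟨a, ha, c, hc, rfl⟩ := hdec a
    obtain ⟨b, hb, d, hd, rfl⟩ := hdec b
    convert Subgroup.commutator_mem_commutator ha hb using 1
    have h1 := Subgroup.mem_center_iff.1 hc
    have h2 := Subgroup.mem_center_iff.1 hd
    calc _ = a * (c * (b * d) * c⁻¹) * a⁻¹ * d⁻¹ * b⁻¹ := by rw [commutatorElement_def]; group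
      _ = a * b * (d * a⁻¹ * d⁻¹) * b⁻¹ := by rw [← h1, mul_inv_cancel_right]; group
      _ = _ := by rw [← h2, mul_inv_cancel_right, commutatorElement_def]
  obtain ⟨hZ, a, F, _, _, h1, h2, ⟨f⟩⟩ := LS.sl2 (L := L') ⟨hirr, hd2,
    fun g hg => Subtype.ext (hf g hg), hi0, hval, hreg', fun z hz h1 => hodd.not_two_dvd_nat
      (h1.trans (orderOf_dvd_of_pow_eq_one (Subtype.ext (hf _ (char_pow_of_central (irr_chr ζ) hd1
        (H87.norm_eq_of_mem_center ζ.2 (hcen z hz)) z.2))))), h5.le⟩ h5 hperf he'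
  refine ⟨a, F, inferInstance, inferInstance, h1, h2, ⟨(MulEquiv.ofBijective
    ((commutator G).subtype.noncommCoprod (Subgroup.center G).subtype fun h z =>
      Subgroup.mem_center_iff.1 z.2 h) ⟨(injective_iff_map_eq_one _).2 ?_, fun g => ?_⟩).symm.trans
        (f.prodCongr (MulEquiv.refl _))⟩⟩
  · rintro ⟨h, z⟩ e
    have h3 : (h : G) * z = 1 := e
    have h6 : (h : G) ∈ Subgroup.center G := eq_inv_of_mul_eq_one_left h3 ▸ inv_mem z.2
    have h4 : h = 1 := Subgroup.mem_bot.1 (hZ ▸ Subgroup.mem_center_iff.2 fun g => Subtype.ext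
      (Subgroup.mem_center_iff.1 h6 g))
    rw [h4, Subgroup.coe_one, one_mul] at h3
    rw [h4, show z = 1 from Subtype.ext h3]; rfl
  · obtain ⟨h, hh, z, hz, rfl⟩ := hdec g
    exact ⟨(⟨h, hh⟩, ⟨z, hz⟩), rfl⟩

end H84
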