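import Mathlib
import Cfsg.Agent.Base
import Cfsg.Agent.Lib.Block.D2p
import Cfsg.Agent.Lib.Block.PBX
import Cfsg.Agent.Lib.H4.B0
import Cfsg.Agent.S0910

/-! Exceptional characters of degree `p - e`: the exterior square, and degree bounds. -/

set_option autoImplicit false
set_option linter.unusedSectionVars false
set_option linter.style.haveILetI false

open Cfsg H17.Ord
open H86 (Cen Nor)
open scoped ComplexConjugate

namespace H84

variable {G : Type*} [Group G] [Finite G] {p : ℕ} [hp : Fact p.Prime] {P : Subgroup G} {e : ℕ}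

/-- in a perfect group `χ(j) ≡ χ(1) (mod 4)` for an involution `j` -/
theorem invol_four (hperf : commutator G = ⊤) {χ : G → ℂ} (hχ : IsCharacter G χ) {j : G}
    (hj : j * j = 1) : ∃ k : ℕ, χ 1 - χ j = 4 * k := by
  classical
  obtain ⟨n, ω, h1, hω, hs⟩ := H6.char_pow_eq_sum hχ two_ne_zero (g := j) (by rwa [pow_two])
  let ι : ℤˣ →* G := MonoidHom.mk' (fun u => if u = 1 then 1 else j) fun a b => by
    rcases Int.units_eq_one_or a with rfl | rfl <;> rcases Int.units_eq_one_or b with rfl | rfl <;>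
      simp [hj]
  let s : ℤˣ →* ℂˣ := Units.map (Int.castRingHom ℂ).toMonoidHom
  have hs1 : s (-1) = -1 := Units.ext (by simp [s])
  have hι : ι (-1) = j := by simp [ι]
  let l : Fin n → ℤˣ →* ℂˣ := fun i => if ω i = 1 then 1 else s
  have hl : ∀ i, (l i (-1) : ℂ) = ω i := fun i => by
    simp only [l]
    split_ifs with h
    · simp [h]
    · rw [hs1, (sq_eq_one_iff.1 (hω i)).resolve_left h]; simp
  have e1 : (fun v => χ (ι v)) = ∑ i, fun v => ((l i v : ℂˣ) : ℂ) := by
    funext v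
    rcases Int.units_eq_one_or v with rfl | rfl
    · simp [h1]
    · rw [hι, Finset.sum_apply, ← pow_one j, hs]; simp [hl]
  have h2 := DFunLike.congr_fun (H31.detHom_comp ι hχ) (-1)
  rw [MonoidHom.comp_apply, hι, e1, H31.detHom_sum _ fun i _ => H6.isCharacter_hom _,
    Abelianization.commutator_subset_ker (H31.detHom χ) (hperf ▸ Subgroup.mem_top j)] at h2
  simp only [H31.detHom_hom] at h2
  have h3 : ∏ i, l i (-1) = (-1) ^ (Finset.univ.filter fun i => ¬ ω i = 1).card := by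
    rw [← Finset.prod_const, Finset.prod_filter]
    refine Finset.prod_congr rfl fun i _ => ?_
    simp only [l]
    split_ifs <;> simp [hs1]
  rw [h3, neg_one_pow_eq_one_iff_even (fun h => by have := congrArg Units.val h; norm_num at this)]
    at h2
  obtain ⟨k, hk⟩ := h2
  refine ⟨k, ?_⟩
  have h4 : χ 1 - χ j = ∑ i, (1 - ω i) := by
    rw [← pow_one j, hs, h1, Finset.sum_sub_distrib]; simp
  have h5 : ∀ i, 1 - ω i = if ¬ ω i = 1 then 2 else 0 := fun i => by
    split_ifs with h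
    · simp [h]
    · rw [(sq_eq_one_iff.1 (hω i)).resolve_left h]; norm_num
  rw [h4, Finset.sum_congr rfl fun i _ => h5 i, ← Finset.sum_filter, Finset.sum_const, hk]
  simp; ring

theorem Log.sum_eta_conj (L : Log p P) {i : ZMod p} (hi : i ≠ 0) :
    ∑ a, L.eta (i * a) * conj (L.eta (i * a)) = p * (Cen P).relIndex (Nor P) := by
  classical
  have h1 : ∀ a, L.eta (i * a) * conj (L.eta (i * a)) =
      ∑ h ∈ L.Hs, ∑ k ∈ L.Hs, eps p (a * ((h - k) * i)) := fun a => by
    rw [L.conj_eta, Log.eta, Log.eta, Finset.sum_mul_sum]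
    refine Finset.sum_congr rfl fun h _ => Finset.sum_congr rfl fun k _ => ?_
    rw [← eps_add]; congr 1; ring
  simp only [h1]
  rw [Finset.sum_comm, Finset.sum_congr rfl (g := fun _ => (p : ℂ)), Finset.sum_const, L.card_Hs,
    nsmul_eq_mul, mul_comm]
  intro h hh
  rw [Finset.sum_comm, Finset.sum_eq_single_of_mem h hh]
  · simp
  · intro k _ hk
    rw [sum_eps, if_neg (mul_ne_zero (sub_ne_zero.2 fun e => hk (Units.ext e.symm)) hi)]

theorem fpf_of_selfcent (hP : Nat.card P = p) (hC : Cen P = P) {y : G} (hy : y ∉ P) :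
    ∀ k ∈ P, k * y = y * k → k = 1 := fun k hk h => by
  by_contra h1
  refine hy (hC.le (H86.mem_Cen.2 fun u hu => ?_))
  rw [eq_zpowers_of_card hP hk h1] at hu
  obtain ⟨n, rfl⟩ := hu
  exact ((show Commute k y from h).zpow_left n).eq

/-- an exceptional degree `p - e` with `4 ∣ e` forces `t ∣ e` -/
theorem dvd_of_delta_neg (B : PB G p P e) (hC : Cen P = P) (hperf : commutator G = ⊤)
    (hδ : B.δ = -1) {θ : IrrCharacter G} (h : θ ∈ B.Y) (hd : dg θ + e = p) (h4 : 4 ∣ e) {t : ℕ}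
    (ht : t * e + 1 = p) (h2 : 2 ≤ t) : t ∣ e := by
  classical
  haveI := Fintype.ofFinite P
  obtain ⟨L⟩ := PB_log B
  have he0 := B.e_pos
  obtain ⟨E⟩ := nonempty_exc B L (by have := Nat.mul_le_mul_right e h2; omega)
  obtain ⟨i, rfl⟩ := (E.memY θ).1 h
  have hp0 : (p : ℂ) ≠ 0 := Nat.cast_ne_zero.2 hp.out.ne_zero
  have hp2 : p ≠ 2 := by have := Nat.le_of_dvd he0 h4; nlinarith
  obtain ⟨j, hj⟩ := exists_prime_orderOf_dvd_card' (G := Nor P) 2 (by
    rw [card_Nor_eq B]; exact ((show 2 ∣ 4 by norm_num).trans h4).mul_left _)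
  have hj2 : (j : G) * j = 1 := by
    rw [← pow_two, ← hj, ← Subgroup.coe_pow, pow_orderOf_eq_one, Subgroup.coe_one]
  have hjr : ¬ p ∣ orderOf (j : G) := by
    rw [Subgroup.orderOf_coe, hj]
    exact fun h => hp2 ((Nat.prime_dvd_prime_iff_eq hp.out Nat.prime_two).1 h)
  have hjP : (j : G) ∉ P := fun h => hjr (PB_sing B h fun e => by
    rw [show j = 1 from Subtype.ext e, orderOf_one] at hj; omega)
  have hf := fpf_of_selfcent B.card hC hjP
  have hb : ∀ {φ : G → ℂ}, IsCharacter G φ → ‖φ j‖ ≤ fd P φ := fun hφ => by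
    rw [← avg_of_fpf j.2 hf (H6.char_isClassFunction hφ)]
    exact norm_avg_le j.2 hφ
  have hY : ∀ θ ∈ B.Y, fd P θ = 1 := fun θ hθ => by
    have h1 := fdY B hθ
    rw [hδ, B.dgY hθ h] at h1
    have h3 : (p : ℤ) * fd P θ = p * 1 := by rw [h1]; zify at hd; linear_combination hd
    exact_mod_cast mul_left_cancel₀ (by exact_mod_cast hp.out.ne_zero) h3
  have hj1 : (E.ψ i : G → ℂ) j = 1 := by
    obtain ⟨k, hk⟩ := invol_four hperf (irr_chr (E.ψ i)) hj2
    have h1 := hb (irr_chr (E.ψ i))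
    have h3 : (E.ψ i : G → ℂ) j = ((dg (E.ψ i) : ℤ) - 4 * k : ℤ) := by
      rw [dg_cast] at hk; push_cast; linear_combination -hk
    rw [hY _ h, h3, Complex.norm_intCast, Nat.cast_one] at h1
    have h5 : |(dg (E.ψ i) : ℤ) - 4 * k| ≤ 1 := by exact_mod_cast h1
    obtain ⟨c, rfl⟩ := h4
    rw [h3, show (dg (E.ψ i) : ℤ) - 4 * k = 1 by
      rw [abs_le] at h5
      have h6 : (dg (E.ψ i) : ℤ) = 4 * (t * c - c) + 1 := by
        rw [← hd] at ht; zify at ht; linear_combination -ht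
      omega, Int.cast_one]
  have hinv : ∀ x ∈ P, (j : G) * x * (j : G)⁻¹ = x⁻¹ := fun x hx => by
    have h1 := conj_mem_of_Nor j.2 hx
    have h3 := comm_P B _ hx _ h1
    refine eq_inv_of_mul_eq_one_right (hf _ (mul_mem hx h1) ?_)
    rw [inv_eq_of_mul_eq_one_right hj2] at h3 ⊢
    calc x * (j * x * j) * j = x * j * x * (j * j) := by group
      _ = (j * j) * x * j * x := by rw [hj2]; group
      _ = j * (j * x * j * x) := by group
      _ = _ := by rw [← h3]
  have hA := isCharacter_alt (irr_chr (E.ψ i))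
  have h2p : (2 : ZMod p) ≠ 0 := fun h => hp2 ((Nat.prime_dvd_prime_iff_eq hp.out
    Nat.prime_two).1 ((ZMod.natCast_eq_zero_iff 2 p).1 h))
  have hv : ∀ x ∈ P, x ≠ 1 → (E.ψ i : G → ℂ) x = -L.eta (i * L.l x) := fun x hx h1 => by
    rw [E.val i x (L.le_Cen hx) (PB_sing B hx h1), hδ]; simp
  have hdc : (dg (E.ψ i) : ℂ) = p - e := eq_sub_of_add_eq (by exact_mod_cast hd)
  have hfA : 2 * (fd P (alt (E.ψ i)) : ℂ) + 1 = dg (E.ψ i) := by
    have h1 := card_mul_fd P hA
    rw [B.card, sum_P_of_val L (F := fun a =>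
      (L.eta (i * a) * conj (L.eta (i * a)) + L.eta ((i * 2) * a)) / 2), ← Finset.sum_div,
      Finset.sum_add_distrib, L.sum_eta_conj i.ne_zero, L.sum_eta (mul_ne_zero i.ne_zero h2p)] at h1
    · simp only [alt, mul_one, mul_zero, L.eta_zero, B.he, map_natCast, dg_cast, hdc] at h1
      rw [hdc]
      exact mul_left_cancel₀ hp0 (by linear_combination 2 * h1)
    · intro x hx h1
      have h3 : x * x ≠ 1 := fun e => hjr (by
        have := (PB_sing B hx h1).trans (orderOf_dvd_of_pow_eq_one (n := 2) (by rwa [pow_two]))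
        rwa [Subgroup.orderOf_coe, hj])
      have h5 : (E.ψ i : G → ℂ) x = conj ((E.ψ i : G → ℂ) x) := by
        rw [← H6.char_inv (irr_chr _), ← hinv x hx, irr_cls]
      rw [alt, hv _ (mul_mem hx hx) h3, ← pow_two x, L.l_pow (L.le_Cen hx)]
      nth_rewrite 2 [h5]
      rw [hv x hx h1, map_neg, neg_mul_neg, sub_neg_eq_add, mul_assoc (i : ZMod p)]
      rfl
  obtain ⟨m, hm⟩ := H6.char_eq_sum_irr hA
  have hm0 : ∀ θ ∈ B.Y, m θ = 0 := by
    have h1 : ∑ χ : IrrCharacter G, (m χ : ℝ) * (((χ : G → ℂ) j).re + fd P χ) = 0 := by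
      have h3 := congrFun hm j
      have h5 : (fd P (alt (E.ψ i)) : ℂ) = ∑ χ : IrrCharacter G, (m χ : ℂ) * fd P χ := by
        exact_mod_cast fd_sum P hm
      rw [alt, hj1, hj2, dg_cast, ← hfA, h5, Finset.sum_apply] at h3
      have h6 : ∑ χ : IrrCharacter G, (m χ : ℂ) * ((χ : G → ℂ) j + fd P χ) = 0 := by
        simp only [mul_add, Finset.sum_add_distrib]
        simp only [Pi.smul_apply, smul_eq_mul] at h3
        linear_combination -h3
      simpa using congrArg Complex.re h6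
    intro θ hθ
    have h3 := (Finset.sum_eq_zero_iff_of_nonneg fun χ _ => mul_nonneg (Nat.cast_nonneg (m χ))
      (by have := (Complex.abs_re_le_norm _).trans (hb (irr_chr χ))
          linarith [(abs_le.1 this).1])).1 h1 θ (Finset.mem_univ _)
    rw [B.regY θ hθ _ h _ hjr, hj1, hY θ hθ] at h3
    norm_num at h3
    exact h3
  have h1 := mul_fd_of_const B hA (c := (∑ χ ∈ B.X, m χ * B.ε χ : ℤ)) fun x hx h1 => by
    have hs := PB_sing B hx h1
    rw [hm, Finset.sum_apply, sum_split B, Finset.sum_eq_zero (s := B.Y) fun θ hθ => by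
      simp [hm0 θ hθ], Finset.sum_eq_zero (s := (B.X ∪ B.Y)ᶜ) fun χ hχ => by
        rw [Finset.mem_compl, Finset.mem_union, not_or] at hχ
        simp [B.van hC χ hχ.1 hχ.2 x hs], add_zero, add_zero]
    push_cast
    exact Finset.sum_congr rfl fun χ hχ => by simp [B.valX χ hχ x hs]
  set w := ∑ χ ∈ B.X, m χ * B.ε χ
  have htc : (p : ℂ) = t * e + 1 := by exact_mod_cast ht.symm
  have h3 : ((t : ℂ) - 1) * e = t * (2 * w) := by
    refine mul_left_cancel₀ (Nat.cast_ne_zero.2 he0.ne' : (e : ℂ) ≠ 0) ?_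
    simp only [alt, mul_one, dg_cast] at h1
    rw [hdc] at h1 hfA
    rw [htc] at h1 hfA
    linear_combination 2 * h1 - (t * e + 1) * hfA
  have h5 : ((t : ℤ) - 1) * e = t * (2 * w) := by exact_mod_cast h3
  exact Int.natCast_dvd_natCast.1 ⟨e - 2 * w, by linear_combination -h5⟩

end H84
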