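import Mathlib
import Cfsg.Agent.Base
import Cfsg.Agent.Lib.Block.BT1a
import Cfsg.Agent.Lib.Block.Br43d
import Cfsg.Agent.Lib.Ord.CharAux

/-! Self-centralizing Sylow subgroup of prime order with normalizer of order `2p`: one class of
involutions and the order formula. -/

set_option autoImplicit false
set_option linter.unusedSectionVars false
set_option linter.style.haveILetI false

open Cfsg H17.Ord
open H86 (Cen Nor)
open scoped ComplexConjugate

namespace H84.E2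

variable {G : Type*} [Group G] [Finite G] {p : ℕ} [hp : Fact p.Prime] {P : Subgroup G}

theorem mem_of_not (B : PB G p P 2) (hC : Cen P = P) {u v : G} (hu : u ∈ Nor P) (hv : v ∈ Nor P)
    (hu' : u ∉ P) (hv' : v ∉ P) : u * v ∈ P := by
  have h := B.he
  rw [show Subgroup.centralizer (P : Set G) = P from hC] at h
  exact (Subgroup.mul_mem_iff_of_index_two h (a := ⟨u, hu⟩) (b := ⟨v, hv⟩)).2
    (iff_of_false hu' hv')

theorem isConj_of_not (B : PB G p P 2) (hC : Cen P = P) {u v : G} (hu : u ∈ Nor P)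
    (hv : v ∈ Nor P) (hu' : u ∉ P) (hv' : v ∉ P) : IsConj u v := by
  obtain ⟨k, -, hk⟩ := isConj_mul_of_fpf hu (fpf_of_selfcent B.card hC hu')
    (mem_of_not B hC (inv_mem hu) hv (fun h => hu' (inv_mem_iff.1 h)) hv')
  exact isConj_iff.2 ⟨k, by rw [hk, mul_inv_cancel_left]⟩

theorem not_mem_of_invol (B : PB G p P 2) (h2 : p ≠ 2) {u : G} (hu : orderOf u = 2) : u ∉ P :=
  fun h => h2 ((Nat.prime_dvd_prime_iff_eq Nat.prime_two hp.out).1
    (hu ▸ B.card ▸ P.orderOf_dvd_natCard h)).symm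

theorem classCoeff_two (B : PB G p P 2) (hC : Cen P = P) (h2 : p ≠ 2) {x : G} (hx : x ∈ P)
    (h1 : x ≠ 1) {t : G} (ht : orderOf t = 2) : H31.classCoeff t t x = 0 ∨
      (H31.classCoeff t t x = p ∧ ∃ u ∈ Nor P, IsConj t u) := by
  have tt : t * t = 1 := by rw [← sq, ← ht, pow_orderOf_eq_one]
  have key : ∀ u v, IsConj t u → IsConj t v → u * v = x → u ∈ Nor P := fun u v hu hv e => by
    have k1 := H33.mul_self_of_isConj tt hu
    have k2 := H33.mul_self_of_isConj tt hv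
    have : u * x * u⁻¹ = x⁻¹ := by
      rw [← e, mul_inv_rev, inv_eq_of_mul_eq_one_right k1, inv_eq_of_mul_eq_one_right k2,
        ← mul_assoc, k1, one_mul]
    rw [eq_zpowers_of_card B.card hx h1]
    refine Subgroup.mem_normalizer_fintype ?_
    rintro _ ⟨n, rfl⟩
    exact ⟨-n, by simp only []; rw [← conj_zpow, this, inv_zpow']⟩
  by_cases h : ∃ u ∈ Nor P, IsConj t u
  · refine Or.inr ⟨?_, h⟩
    obtain ⟨u, hu, hc⟩ := h
    have nm : ∀ {v}, IsConj t v → v ∉ P := fun hv =>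
      not_mem_of_invol B h2 ((H35.orderOf_eq_of_isConj hv).symm.trans ht)
    have m1 : ∀ k ∈ P, u * k ∉ P := fun k hk h => nm hc ((P.mul_mem_cancel_right hk).1 h)
    have m2 : ∀ k ∈ P, u * k ∈ Nor P := fun k hk => mul_mem hu (Subgroup.le_normalizer hk)
    rw [H31.classCoeff, ← B.card]
    symm
    refine Nat.card_eq_of_bijective (fun k : P => ⟨(u * k, (u * k)⁻¹ * x),
      hc.trans (isConj_of_not B hC hu (m2 k k.2) (nm hc) (m1 k k.2)),
      hc.trans (isConj_of_not B hC hu (mul_mem (inv_mem (m2 k k.2)) (Subgroup.le_normalizer hx))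
        (nm hc) fun h => m1 k k.2 (inv_mem_iff.1 ((P.mul_mem_cancel_right hx).1 h))),
      by simp only [mul_inv_cancel_left]⟩) ⟨fun k k' e => ?_, fun ⟨⟨v, w⟩, hv, hw, e⟩ => ?_⟩
    · exact Subtype.ext (mul_left_cancel (congrArg (fun z => z.1.1) e))
    · refine ⟨⟨u⁻¹ * v, mem_of_not B hC (inv_mem hu) (key v w hv hw e)
        (fun h => nm hc (inv_mem_iff.1 h)) (nm hv)⟩, Subtype.ext (Prod.ext ?_ ?_)⟩
      · simp
      · simp only [mul_inv_cancel_left]
        rw [← e, inv_mul_cancel_left]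
  · left
    rw [H31.classCoeff, Nat.card_eq_zero]
    exact Or.inl ⟨fun ⟨⟨v, w⟩, hv, hw, e⟩ => h ⟨v, key v w hv hw e, hv⟩⟩

variable [IsSimpleGroup G]

theorem X_eq (hna : ∃ a b : G, a * b ≠ b * a) (B : PB G p P 2) (h3 : 3 < p) {χ : IrrCharacter G}
    (hχ : χ ∈ B.X) (h1 : χ ≠ triv G) {A : Type*} [AddCommMonoid A] (f : IrrCharacter G → A) :
    ∑ ψ ∈ B.X, f ψ = f (triv G) + f χ := by
  classical
  have h0 := B.triv_mem_X (by have := hp.out.eq_two_or_odd; omega) hna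
  rw [← Finset.sum_pair h1.symm]
  congr 1
  refine (Finset.eq_of_subset_of_card_le (fun ψ hψ => ?_) ?_).symm
  · rcases Finset.mem_insert.mp hψ with h | h
    · exact h ▸ h0
    · exact Finset.mem_singleton.mp h ▸ hχ
  · rw [B.cardX, Finset.card_pair h1.symm]

theorem rel_two (hna : ∃ a b : G, a * b ≠ b * a) (B : PB G p P 2) (h3 : 3 < p)
    {χ θ : IrrCharacter G} (hχ : χ ∈ B.X) (h1 : χ ≠ triv G) (hθ : θ ∈ B.Y) :
    B.δ = B.ε χ ∧ (dg θ : ℤ) = dg χ + B.ε χ ∧
      ∀ g, ¬ p ∣ orderOf g → (θ : G → ℂ) g = (χ : G → ℂ) g + B.ε χ := by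
  have h0 := B.triv_mem_X (by have := hp.out.eq_two_or_odd; omega) hna
  have h4 := B.deg_eq hθ
  rw [X_eq hna B h3 hχ h1, B.ε_triv h0, dg_triv] at h4
  have h5 := dg_pos θ
  have h6 : dg χ ≠ 1 := fun h => h1 (eq_triv_of_dg hna h)
  have h7 := dg_pos χ
  have e : B.δ = B.ε χ := by
    rcases B.sgn χ hχ with h7 | h7 <;> rcases B.dsgn with h9 | h9 <;> rw [h7, h9] at h4 ⊢ <;> omega
  refine ⟨e, ?_, fun g hg => ?_⟩
  · rcases B.sgn χ hχ with h7 | h7 <;> rw [e, h7] at h4 <;> omega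
  · have := B.rel θ hθ g hg
    rw [X_eq hna B h3 hχ h1, B.ε_triv h0, e, triv_apply] at this
    rcases B.sgn χ hχ with h7 | h7 <;> rw [h7] at this ⊢ <;> push_cast at this ⊢
    · linear_combination this
    · linear_combination -this

/-- the order formula -/
theorem two_order (hna : ∃ a b : G, a * b ≠ b * a) (B : PB G p P 2) (hC : Cen P = P) (h3 : 3 < p)
    {χ : IrrCharacter G} (hχ : χ ∈ B.X) (h1 : χ ≠ triv G) {t : G} (ht : orderOf t = 2) {c : ℤ}
    (hc : (χ : G → ℂ) t = c) : (∃ u ∈ Nor P, IsConj t u) ∧ (Nat.card G : ℤ) * (dg χ - c) ^ 2 =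
      p * (Nat.card (Subgroup.centralizer ({t} : Set G)) : ℤ) ^ 2 * (dg χ * (dg χ + B.ε χ)) := by
  classical
  obtain ⟨x, hx, ox⟩ := B.exists_sing
  have x1 : x ≠ 1 := fun h => hp.out.ne_one (by rw [← ox, h, orderOf_one])
  have px : p ∣ orderOf x := ox ▸ dvd_rfl
  have pt : ¬ p ∣ orderOf t := fun h => by have := Nat.le_of_dvd (by omega) (ht ▸ h); omega
  have h0 := B.triv_mem_X (by have := hp.out.eq_two_or_odd; omega) hna
  obtain ⟨θ, hθ⟩ := B.Y_nonempty
  obtain ⟨e1, e2, e3⟩ := rel_two hna B h3 hχ h1 hθ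
  have f := H31.classCoeff_eq t t x
  have sY : ∑ η ∈ B.Y, (η : G → ℂ) t * (η : G → ℂ) t * conj ((η : G → ℂ) x) / (η : G → ℂ) 1 =
      (c + B.ε χ) ^ 2 / (dg χ + B.ε χ) * (-B.ε χ) := by
    have := congrArg conj (B.sumY x px)
    rw [map_sum, map_neg, map_intCast, e1] at this
    rw [← this, Finset.mul_sum]
    refine Finset.sum_congr rfl fun η hη => ?_
    rw [B.regY η hη θ hθ t pt, B.regY η hη θ hθ 1 PB.reg_one, e3 t pt, e3 1 PB.reg_one, hc, dg_cast]
    ring
  rw [sum_split B, X_eq hna B h3 hχ h1, sY, Finset.sum_eq_zero (s := (B.X ∪ B.Y)ᶜ) (fun η hη => by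
    rw [Finset.mem_compl, Finset.mem_union, not_or] at hη
    rw [B.van hC η hη.1 hη.2 x px]; simp), B.valX χ hχ x px, hc, dg_cast χ] at f
  simp only [triv_apply, map_one, map_intCast, mul_one, div_one, add_zero] at f
  have d0 : (dg χ : ℂ) ≠ 0 := Nat.cast_ne_zero.2 (dg_pos χ).ne'
  have d1 : (dg χ : ℂ) + B.ε χ ≠ 0 := by
    have : ((dg θ : ℤ) : ℂ) ≠ 0 := by exact_mod_cast (dg_pos θ).ne'
    rw [e2] at this; exact_mod_cast this
  have g0 : (Nat.card G : ℂ) ≠ 0 := H6.card_ne_zero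
  have ee : (B.ε χ : ℂ) * B.ε χ = 1 := by rcases B.sgn χ hχ with h | h <;> simp [h]
  have ci := Subgroup.card_mul_index (Subgroup.centralizer ({t} : Set G))
  set C := Nat.card (Subgroup.centralizer ({t} : Set G))
  have ci' : (C : ℂ) * (Subgroup.centralizer ({t} : Set G)).index = Nat.card G := by exact_mod_cast ci
  have main : (Nat.card G : ℂ) * (dg χ - c) ^ 2 =
      H31.classCoeff t t x * (C : ℂ) ^ 2 * (dg χ * (dg χ + B.ε χ)) := by
    rw [f]
    field_simp
    rw [← ci']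
    linear_combination (-(C : ℂ) ^ 2 * ((Subgroup.centralizer ({t} : Set G)).index : ℂ) ^ 2 *
      (c ^ 2 - 2 * c * dg χ - dg χ * B.ε χ)) * ee
  rcases classCoeff_two B hC (by omega) hx x1 ht with h | ⟨h, h'⟩
  · rw [h, Nat.cast_zero, zero_mul, zero_mul] at main
    have := sub_eq_zero.1 (pow_eq_zero_iff two_ne_zero |>.1 ((mul_eq_zero.1 main).resolve_left g0))
    rw [eq_one_of_apply_eq h1 (hc.trans this.symm), orderOf_one] at ht
    omega
  · rw [h] at main
    exact ⟨h', by exact_mod_cast main⟩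

theorem exists_conj_Nor (hna : ∃ a b : G, a * b ≠ b * a) (B : PB G p P 2) (hC : Cen P = P)
    (h3 : 3 < p) {t : G} (ht : orderOf t = 2) : ∃ u ∈ Nor P, IsConj t u := by
  obtain ⟨χ, hχ, h1, -⟩ := B.two hna h3
  obtain ⟨c, hc, -⟩ := invol_val hna (fun h => h1 (eq_triv_of_dg hna h)) ht
  exact (two_order hna B hC h3 hχ h1 ht hc).1

/-- one class of involutions -/
theorem one_class (hna : ∃ a b : G, a * b ≠ b * a) (B : PB G p P 2) (hC : Cen P = P) (h3 : 3 < p)
    {s t : G} (hs : orderOf s = 2) (ht : orderOf t = 2) : IsConj s t := by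
  obtain ⟨u, hu, cu⟩ := exists_conj_Nor hna B hC h3 hs
  obtain ⟨v, hv, cv⟩ := exists_conj_Nor hna B hC h3 ht
  exact cu.trans ((isConj_of_not B hC hu hv
    (not_mem_of_invol B (by omega) ((H35.orderOf_eq_of_isConj cu).symm.trans hs))
    (not_mem_of_invol B (by omega) ((H35.orderOf_eq_of_isConj cv).symm.trans ht))).trans cv.symm)

end H84.E2
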