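import Mathlib
import Cfsg.Agent.Lib.Block.FongInd

/-!
Homogeneous characters, the restriction bijection, canonical extensions and two group theoretic
lemmas on `p`-solvable groups.
-/

set_option autoImplicit false

open Cfsg

namespace H34

section Hom
variable {G : Type*} [Group G]

/-- `ξ` is irreducible on `K`. -/
abbrev IrrOn (K : Subgroup G) (ξ : G → ℂ) : Prop := IsIrrCharacter K (fun k : K => ξ k)

/-- `ξ` is a character on `K`. -/
abbrev CharOn (K : Subgroup G) (ξ : G → ℂ) : Prop := IsCharacter K (fun k : K => ξ k)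

/-- `α` is a multiple of `ξ` on `N`. -/
def Hom (N : Subgroup G) (ξ α : G → ℂ) : Prop := ∃ e : ℂ, ∀ n ∈ N, α n = e * ξ n

theorem Hom.mono {N K : Subgroup G} {ξ α : G → ℂ} (h : Hom N ξ α) (hK : K ≤ N) : Hom K ξ α :=
  h.imp fun _ he n hn => he n (hK hn)

theorem Hom.trans {N : Subgroup G} {ξ ζ α : G → ℂ} (h : Hom N ζ α) (h' : Hom N ξ ζ) :
    Hom N ξ α := by
  obtain ⟨e, he⟩ := h
  obtain ⟨f, hf⟩ := h'
  exact ⟨e * f, fun n hn => by rw [he n hn, hf n hn, mul_assoc]⟩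

theorem Hom.of_eq {N : Subgroup G} {ξ α : G → ℂ} (h : ∀ n ∈ N, α n = ξ n) : Hom N ξ α :=
  ⟨1, fun n hn => by rw [h n hn, one_mul]⟩

theorem Hom.congr {N : Subgroup G} {ξ α β : G → ℂ} (h : Hom N ξ α) (e : ∀ n ∈ N, β n = α n) :
    Hom N ξ β := (Hom.of_eq e).trans h

theorem Hom.res {N : Subgroup G} {ξ α : G → ℂ} (h : Hom N ξ α) (H : Subgroup G) :
    Hom (N.subgroupOf H) (fun x => ξ x) (fun x => α x) :=
  h.imp fun _ he n hn => he n hn

theorem hom_zero (N : Subgroup G) (ξ : G → ℂ) : Hom N ξ 0 := ⟨0, fun _ _ => by simp⟩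

theorem Hom.add {N : Subgroup G} {ξ α β : G → ℂ} (h : Hom N ξ α) (h' : Hom N ξ β) :
    Hom N ξ (α + β) := by
  obtain ⟨e, he⟩ := h
  obtain ⟨f, hf⟩ := h'
  exact ⟨e + f, fun n hn => by rw [Pi.add_apply, he n hn, hf n hn, add_mul]⟩

theorem irrOn_of_hom {A : Type*} [Group A] {K : Subgroup G} {ξ : G → ℂ} (h : IrrOn K ξ)
    (f : A →* G) (hf : ∀ a, f a ∈ K) (hs : ∀ k ∈ K, ∃ a, f a = k) :
    IsIrrCharacter A (fun a => ξ (f a)) :=
  H6.isIrrCharacter_comp_surjective (f.codRestrict K hf)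
    (fun k => (hs k k.2).imp fun _ ha => Subtype.ext ha) h

theorem charOn_of_hom {A : Type*} [Group A] {K : Subgroup G} {ξ : G → ℂ} (h : CharOn K ξ)
    (f : A →* G) (hf : ∀ a, f a ∈ K) : IsCharacter A (fun a => ξ (f a)) :=
  H6.isCharacter_comp (f.codRestrict K hf) h

theorem IrrOn.subgroupOf {K H : Subgroup G} {ξ : G → ℂ} (h : IrrOn K ξ) (hK : K ≤ H) :
    IrrOn (K.subgroupOf H) (fun x => ξ x) := H7.isIrr_subgroupOf hK h

theorem CharOn.subgroupOf {K : Subgroup G} {ξ : G → ℂ} (h : CharOn K ξ) (H : Subgroup G) :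
    CharOn (K.subgroupOf H) (fun x => ξ x) := H7.isCharacter_subgroupOf H h

theorem irrOn_ext {K : Subgroup G} {θ : K → ℂ} (h : IsIrrCharacter K θ) :
    IrrOn K (extendByZero K θ) := by
  have : (fun k : K => extendByZero K θ k) = θ := funext (H7.extendByZero_coe K θ)
  rw [IrrOn, this]; exact h

theorem IrrOn.congr {K : Subgroup G} {ξ ζ : G → ℂ} (h : IrrOn K ξ) (e : ∀ k ∈ K, ζ k = ξ k) :
    IrrOn K ζ := by
  have : (fun k : K => ζ k) = fun k : K => ξ k := funext fun k => e k k.2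
  rw [IrrOn, this]; exact h

theorem IrrOn.one_ne_zero {K : Subgroup G} {ξ : G → ℂ} (h : IrrOn K ξ) : ξ 1 ≠ 0 :=
  H6.irr_one_ne_zero (G := K) h

variable [Finite G]

theorem Hom.of_add {N : Subgroup G} {ξ α β : G → ℂ} (hξ : IrrOn N ξ) (hα : CharOn N α)
    (hβ : CharOn N β) (h : Hom N ξ (α + β)) : Hom N ξ α := by
  haveI := Fintype.ofFinite N
  obtain ⟨e, he⟩ := h
  have := H31.eq_smul_of_add_eq_smul hα hβ hξ (c := e) (funext fun n => he n n.2)
  exact ⟨_, fun n hn => congrFun this ⟨n, hn⟩⟩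

theorem Hom.constituent [Fintype G] {N : Subgroup G} {ξ α ψ : G → ℂ} (hξ : IrrOn N ξ)
    (hα : IsCharacter G α) (h : Hom N ξ α) (hψ : IsIrrCharacter G ψ) (hne : classInner α ψ ≠ 0) :
    Hom N ξ ψ :=
  Hom.of_add (β := α - ψ) hξ (H6.isCharacter_restrict N (H6.irr_isCharacter hψ))
    (H6.isCharacter_restrict N (H6.isCharacter_sub_of_inner_ne_zero hα hψ hne))
    (by rwa [add_sub_cancel])

theorem Hom.inner_ne_zero {N : Subgroup G} [Fintype N] {ξ α : G → ℂ} (hξ : IrrOn N ξ)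
    (h : Hom N ξ α) (h1 : α 1 ≠ 0) : classInner (fun n : N => α n) (fun n : N => ξ n) ≠ 0 := by
  obtain ⟨e, he⟩ := h
  rw [H31.inner_res_of_eq_mul N hξ (fun n => he n n.2)]
  rintro rfl
  exact h1 (by rw [he 1 N.one_mem, zero_mul])

theorem Hom.exists_nat {N : Subgroup G} {ξ α : G → ℂ} (hξ : IrrOn N ξ) (hα : CharOn N α)
    (h : Hom N ξ α) : ∃ e : ℕ, ∀ n ∈ N, α n = e * ξ n := by
  haveI := Fintype.ofFinite N
  obtain ⟨e, he⟩ := h
  obtain ⟨m, hm⟩ := H6.char_inner_nat hα (H6.irr_isCharacter hξ)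
  rw [H31.inner_res_of_eq_mul N hξ (fun n => he n n.2)] at hm
  exact ⟨m, hm ▸ he⟩

theorem hom_of_inner [Fintype G] {N : Subgroup G} [hN : N.Normal] [Fintype N] {ξ χ : G → ℂ}
    (hξ : IrrOn N ξ) (hinv : ∀ g, ∀ m ∈ N, ξ (g * m * g⁻¹) = ξ m) (hχ : IsIrrCharacter G χ)
    (h : classInner (fun n : N => χ n) (fun n : N => ξ n) ≠ 0) : Hom N ξ χ := by
  obtain ⟨e, -, -, he⟩ := H31.exists_res_eq_of_invariant N hξ (fun g n => hinv g n n.2) hχ h
  exact ⟨e, fun n hn => he ⟨n, hn⟩⟩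

theorem mem_of_constituents [Fintype G] (S : AddSubmonoid (G → ℂ)) {α : G → ℂ}
    (hα : IsCharacter G α) (h : ∀ ψ, IsIrrCharacter G ψ → classInner α ψ ≠ 0 → ψ ∈ S) : α ∈ S := by
  obtain ⟨m, hm⟩ := H6.char_eq_sum_irr hα
  rw [hm]
  refine S.sum_mem fun ψ _ => ?_
  by_cases h0 : m ψ = 0
  · rw [h0, Nat.cast_zero, zero_smul]; exact S.zero_mem
  · rw [Nat.cast_smul_eq_nsmul]
    refine S.nsmul_mem (h _ ψ.2 ?_) _
    rw [hm, H6.inner_sum_irr (fun ψ => (m ψ : ℂ))]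
    exact Nat.cast_ne_zero.2 h0

/-- The restriction bijection: characters of `H` over `ξ` extend to `G = M H`. -/
theorem exists_ext_irr {M H : Subgroup G} [hM : M.Normal] (hsup : M ⊔ H = ⊤) {ξ : G → ℂ}
    (hξ : IrrOn M ξ) (hinv : ∀ g, ∀ m ∈ M, ξ (g * m * g⁻¹) = ξ m)
    (hD : IrrOn (M.subgroupOf H) (fun x => ξ x)) {η : H → ℂ} (hη : IsIrrCharacter H η)
    (ho : Hom (M.subgroupOf H) (fun x => ξ x) η) :
    ∃ χ, IsIrrCharacter G χ ∧ Hom M ξ χ ∧ ∀ h : H, χ h = η h := by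
  classical
  haveI := Fintype.ofFinite G
  set Θ := indFun M (fun m : M => ξ m) with hΘ
  obtain ⟨m, hm⟩ := H6.char_eq_sum_irr (H7.isCharacter_indFun M (H6.irr_isCharacter hξ))
  rw [← hΘ] at hm
  have hres : (fun h : H => Θ h) = indFun (M.subgroupOf H) (fun d => ξ ((d : H) : G)) :=
    funext (H7.indFun_res_of_mul_eq M H
      (H7.exists_mul_of_sup_eq_top_right (by rw [sup_comm, hsup])) (H6.irr_isClassFunction hξ))
  have hsum : (fun h : H => Θ h) =
      ∑ ψ : IrrCharacter G, (m ψ : ℂ) • fun h : H => (ψ : G → ℂ) h := by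
    funext h
    rw [hm]; simp
  have h1 : classInner Θ Θ = M.index :=
    H31.inner_indFun_self_of_invariant M hξ (fun g n => hinv g n n.2)
  have h2 : classInner (fun h : H => Θ h) (fun h : H => Θ h) = (M.subgroupOf H).index := by
    rw [hres]
    exact H31.inner_indFun_self_of_invariant (M.subgroupOf H) hD (fun g n => hinv g _ n.2)
  have h3 : (M.subgroupOf H).index = M.index := by
    rw [← Subgroup.relIndex, ← Subgroup.relIndex_sup_left, hsup, Subgroup.relIndex_top_right]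
  have h4 : classInner Θ Θ = ((∑ ψ, m ψ * m ψ : ℕ) : ℂ) := by
    have := H6.inner_sum_irr_int (fun ψ => (m ψ : ℤ)) (fun ψ => (m ψ : ℤ))
    simp only [Int.cast_natCast] at this
    rw [← hm] at this
    rw [this]; push_cast; rfl
  have h5 := (H31.orthonormal_of_norm_eq m (fun (ψ : IrrCharacter G) (h : H) => (ψ : G → ℂ) h)
    (fun ψ => H6.isCharacter_restrict H (H84.irr_char ψ))
    (fun ψ _ h0 => H84.irr_one_ne_zero ψ (congrFun h0 1))
    (by rw [← hsum, h2, h3, ← h1, h4])).1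
  have h6 : classInner (fun h : H => Θ h) η ≠ 0 := by
    rw [hres, H7.inner_indFun_ne_zero_iff _ _ (H6.irr_isClassFunction hη)]
    have := ho.inner_ne_zero hD (H6.irr_one_ne_zero hη)
    rwa [H7.classInner_congr_inst] at this
  rw [hsum, H7.classInner_sum_left] at h6
  obtain ⟨ψ, -, hψ⟩ := Finset.exists_ne_zero_of_sum_ne_zero h6
  rw [H7.classInner_smul_left] at hψ
  have hm0 : m ψ ≠ 0 := fun e => hψ (by rw [e, Nat.cast_zero, zero_mul])
  refine ⟨ψ, ψ.2, hom_of_inner hξ hinv ψ.2 ?_, congrFun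
    (H6.irr_eq_of_inner_ne_zero (h5 ψ hm0) hη (right_ne_zero_of_mul hψ))⟩
  rw [← H7.inner_indFun_ne_zero_iff _ _ (H84.irr_class ψ), ← hΘ, hm,
    H6.inner_sum_irr (fun ψ => (m ψ : ℂ))]
  exact Nat.cast_ne_zero.2 hm0

theorem exists_ext_char {M H : Subgroup G} [hM : M.Normal] (hsup : M ⊔ H = ⊤) {ξ : G → ℂ}
    (hξ : IrrOn M ξ) (hinv : ∀ g, ∀ m ∈ M, ξ (g * m * g⁻¹) = ξ m)
    (hD : IrrOn (M.subgroupOf H) (fun x => ξ x)) {η : H → ℂ} (hη : IsCharacter H η)
    (ho : Hom (M.subgroupOf H) (fun x => ξ x) η) :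
    ∃ χ, IsCharacter G χ ∧ Hom M ξ χ ∧ ∀ h : H, χ h = η h := by
  haveI := Fintype.ofFinite H
  let S : AddSubmonoid (H → ℂ) :=
    { carrier := {η | ∃ χ, IsCharacter G χ ∧ Hom M ξ χ ∧ ∀ h : H, χ h = η h}
      zero_mem' := ⟨0, H6.isCharacter_zero, hom_zero _ _, fun _ => rfl⟩
      add_mem' := by
        rintro a b ⟨x, hx, hx', ex⟩ ⟨y, hy, hy', ey⟩
        exact ⟨x + y, H6.isCharacter_add hx hy, hx'.add hy', fun h => by simp [ex, ey]⟩ }
  refine mem_of_constituents S hη fun ψ hψ hne => ?_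
  obtain ⟨χ, h1, h2, h3⟩ := exists_ext_irr hsup hξ hinv hD hψ (Hom.constituent hD hη ho hψ hne)
  exact ⟨χ, H6.irr_isCharacter h1, h2, h3⟩

theorem Hom.indFun [Fintype G] {N T : Subgroup G} [hN : N.Normal] (hNT : N ≤ T) {ξ : G → ℂ}
    (hinv : ∀ g, ∀ m ∈ N, ξ (g * m * g⁻¹) = ξ m) {α : T → ℂ}
    (h : Hom (N.subgroupOf T) (fun x => ξ x) α) : Hom N ξ (indFun T α) := by
  obtain ⟨e, he⟩ := h
  refine ⟨(Nat.card T : ℂ)⁻¹ * (Fintype.card G * e), fun n hn => ?_⟩
  rw [H7.indFun_apply', Finset.sum_congr rfl (g := fun _ => e * ξ n) fun x _ => ?_]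
  · simp [mul_assoc]
  · have hx := hN.conj_mem n hn x
    rw [H7.extendByZero_of_mem T α (hNT hx), he _ hx, ← hinv x n hn]

end Hom

section Can
variable {G : Type*} [Group G] [Finite G] {p : ℕ} [hp : Fact p.Prime]

/-- The determinantal order is prime to `p`. -/
def PD (p : ℕ) {G : Type*} [Group G] (χ : G → ℂ) : Prop := ¬ p ∣ orderOf (H31.detHom χ)

omit hp in
theorem PD.comp {A : Type*} [Group A] [Finite A] {χ : G → ℂ} (h : PD p χ) (hχ : IsCharacter G χ)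
    (f : A →* G) : PD p (fun a => χ (f a)) := by
  refine fun e => h (e.trans ?_)
  rw [H31.detHom_comp f hχ, H31.orderOf_hom_dvd_iff]
  exact fun a => (H31.orderOf_hom_dvd_iff _ _).1 dvd_rfl (f a)

omit [Finite G] hp in
theorem pd_of_card (hG : ¬ p ∣ Nat.card G) (χ : G → ℂ) : PD p χ :=
  fun e => hG (e.trans (H31.orderOf_hom_dvd_card _))

theorem index_pow_of_relP {N : Subgroup G} [N.Normal] (h : H76.RelP p N ⊤) :
    ∃ k, N.index = p ^ k := by
  refine IsPGroup.iff_card.1 fun q => ?_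
  obtain ⟨x, rfl⟩ := QuotientGroup.mk_surjective q
  obtain ⟨k, hk⟩ := h x trivial
  exact ⟨k, by rw [← QuotientGroup.mk_pow, QuotientGroup.eq_one_iff]; exact hk⟩

theorem canon_unique {N : Subgroup G} [N.Normal] (hidx : H76.RelP p N ⊤) {ζ ζ' : G → ℂ}
    (h1 : IsCharacter G ζ) (h2 : IsCharacter G ζ') (hirr : IrrOn N ζ) (heq : ∀ n ∈ N, ζ' n = ζ n)
    (hd : ¬ p ∣ charDegree ζ) (p1 : PD p ζ) (p2 : PD p ζ') : ζ' = ζ := by
  obtain ⟨B, hB, hBe⟩ := H31.exists_hom_of_two_extensions N hirr h1 h2 (fun _ => rfl)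
    (fun n => heq n n.2)
  obtain ⟨k, hk⟩ := index_pow_of_relP hidx
  have e : ζ' = fun g => (B g : ℂ) * ζ g := funext hBe
  have h3 : orderOf B ∣ charDegree ζ * (orderOf (H31.detHom ζ) * orderOf (H31.detHom ζ')) := by
    rw [H31.orderOf_hom_dvd_iff]
    intro g
    have h4 := H31.detHom_hom_mul h1 (H84.cast_charDegree h1).symm B g
    rw [← e] at h4
    have h5 := (H31.orderOf_hom_dvd_iff (H31.detHom ζ) _).1
      (dvd_mul_right _ (orderOf (H31.detHom ζ'))) g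
    have h6 := (H31.orderOf_hom_dvd_iff (H31.detHom ζ') _).1
      (dvd_mul_left _ (orderOf (H31.detHom ζ))) g
    rw [h4, mul_pow, h5, mul_one, ← pow_mul] at h6
    exact h6
  have h4 : orderOf B ∣ p ^ k := by
    rw [H31.orderOf_hom_dvd_iff, ← hk]
    exact H31.hom_pow_index_eq_one B hB
  have h5 : B = 1 := orderOf_eq_one_iff.1 (Nat.eq_one_of_dvd_coprimes
    (Nat.Coprime.pow_left k ((Nat.Prime.coprime_iff_not_dvd hp.out).2 fun e' =>
      ((Nat.Prime.dvd_mul hp.out).1 e').elim hd fun e' =>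
        ((Nat.Prime.dvd_mul hp.out).1 e').elim p1 p2)) h4 h3)
  rw [e, h5]; simp

/-- A canonical-extension context. -/
structure Ctx (p : ℕ) {G : Type*} [Group G] (L M : Subgroup G) (ξ : G → ℂ) : Prop where
  nL : L.Normal
  nM : M.Normal
  le : L ≤ M
  cL : ¬ p ∣ Nat.card L
  rel : H76.RelP p L M
  chM : CharOn M ξ
  irL : IrrOn L ξ
  inv : ∀ g, ∀ m ∈ M, ξ (g * m * g⁻¹) = ξ m
  pd : PD p (fun m : M => ξ m)

namespace Ctx
variable {L M : Subgroup G} {ξ : G → ℂ}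

omit hp in
theorem irM (h : Ctx p L M ξ) : IrrOn M ξ :=
  H7.isIrr_of_isIrr_res (L.subgroupOf M) h.chM (h.irL.subgroupOf h.le)

omit hp in
theorem res (h : Ctx p L M ξ) {H : Subgroup G} (hH : L ≤ H) :
    Ctx p (L.subgroupOf H) (M.subgroupOf H) (fun x => ξ x) where
  nL := h.nL.subgroupOf H
  nM := h.nM.subgroupOf H
  le := Subgroup.comap_mono h.le
  cL := by rw [Nat.card_congr (Subgroup.subgroupOfEquivOfLe hH).toEquiv]; exact h.cL
  rel := h.rel.comap H.subtype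
  chM := h.chM.subgroupOf H
  irL := h.irL.subgroupOf hH
  inv := fun g m hm => h.inv g m hm
  pd := h.pd.comp h.chM (H7.subgroupOfHom M H)

omit hp in
theorem not_dvd_deg (h : Ctx p L M ξ) : ¬ p ∣ charDegree ξ :=
  fun e => h.cL (e.trans (H87.deg_dvd_card h.irL))

end Ctx

theorem exists_ctx {L M : Subgroup G} [hL : L.Normal] [hM : M.Normal] (hle : L ≤ M)
    (cL : ¬ p ∣ Nat.card L) (rel : H76.RelP p L M) {τ : G → ℂ} (hτ : IrrOn L τ)
    (hinv : ∀ g, ∀ n ∈ L, τ (g * n * g⁻¹) = τ n) :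
    ∃ ζ, Ctx p L M ζ ∧ ∀ n ∈ L, ζ n = τ n := by
  have rel' : H76.RelP p (L.subgroupOf M) ⊤ := fun x _ => rel x x.2
  obtain ⟨k, hk⟩ := index_pow_of_relP rel'
  have cL' : ¬ p ∣ Nat.card (L.subgroupOf M) := by
    rw [Nat.card_congr (Subgroup.subgroupOfEquivOfLe hle).toEquiv]; exact cL
  have hτ' := hτ.subgroupOf hle
  have hd : ¬ p ∣ charDegree τ := fun e => cL (e.trans (H87.deg_dvd_card hτ))
  obtain ⟨χ, ⟨hχ, hext, hdet⟩, -⟩ := H31.exists_canonical_ext (L.subgroupOf M) hτ'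
    (fun g n => hinv g _ n.2) (H84.cast_charDegree (H6.irr_isCharacter hτ')).symm (by
      rw [hk]
      refine Nat.Coprime.pow_left k ((Nat.Prime.coprime_iff_not_dvd hp.out).2 fun e => ?_)
      exact ((Nat.Prime.dvd_mul hp.out).1 e).elim
        (fun e => cL' (e.trans (H31.detOrder_dvd_card _))) hd)
  have hpd : PD p χ := by
    rw [PD, ← H31.detOrder_eq, hdet]
    exact fun e => cL' (e.trans (H31.detOrder_dvd_card _))
  have hc := H6.irr_isCharacter hχ
  have e0 : (fun m : M => extendByZero M χ m) = χ := funext (H7.extendByZero_coe M χ)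
  have e1 : ∀ n ∈ L, extendByZero M χ n = τ n := fun n hn => by
    rw [H7.extendByZero_of_mem M χ (hle hn)]; exact hext ⟨⟨n, hle hn⟩, hn⟩
  refine ⟨extendByZero M χ, ⟨hL, hM, hle, cL, rel, by rw [CharOn, e0]; exact hc, hτ.congr e1,
    fun g m hm => ?_, by rw [e0]; exact hpd⟩, e1⟩
  have := canon_unique rel' hc (H6.isCharacter_comp (MulAut.conjNormal g : MulAut M).toMonoidHom hc)
    (hτ'.congr fun n hn => hext ⟨n, hn⟩) (fun n hn => by
      rw [hext ⟨n, hn⟩]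
      exact (hext ⟨MulAut.conjNormal g n, hL.conj_mem _ hn g⟩).trans (hinv g n hn))
    (by rw [H87.deg_congr (ψ := τ) (hext 1)]; exact hd) hpd (hpd.comp hc _)
  rw [H7.extendByZero_of_mem M χ hm, H7.extendByZero_of_mem M χ (hM.conj_mem m hm g)]
  exact congrFun this ⟨m, hm⟩

end Can

section Grp
variable {G : Type*} [Group G] [Finite G] {p : ℕ} [hp : Fact p.Prime]

theorem relP_pPrimePCore : H76.RelP p (pPrimeCore p G) (pPrimePCore p G) :=
  H76.le_pPrimePCore_iff.1 le_rfl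

theorem exists_proper_supplement (hG : IsPSolvable p G) (hd : p ∣ Nat.card G) :
    ∃ H : Subgroup G, H ≠ ⊤ ∧ pPrimeCore p G ≤ H ∧ pPrimePCore p G ⊔ H = ⊤ := by
  by_cases hM : pPrimePCore p G = ⊤
  · refine ⟨_, fun e => H1.not_dvd_card_pPrimeCore (p := p) (G := G) ?_, le_rfl, by
      rw [hM, top_sup_eq]⟩
    rw [e, Subgroup.card_top]; exact hd
  set M := pPrimePCore p G
  obtain ⟨K, hK, hlt, hK'⟩ := H76.isPSolvable_iff.1 hG M inferInstance hM
  have hne : M.relIndex K ≠ 0 := Subgroup.index_ne_zero_of_finite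
  rcases hK' with hK' | hK'
  · obtain ⟨k, hk⟩ := (H3.piNum_singleton_iff hp.out hne).1 hK'
    refine absurd (H76.le_pPrimePCore_iff.2 (relP_pPrimePCore.trans fun x hx => ⟨k, ?_⟩)) hlt.not_ge
    have := Subgroup.pow_index_mem (M.subgroupOf K) ⟨x, hx⟩
    rw [← hk]; exact this
  have hsep := (H76.isPSolvable_iff.1 (H76.isPSolvable_subgroup hG K)).compl
  obtain ⟨S, hS⟩ := hsep.exists_isPiHall
  have hLS : (pPrimeCore p G).subgroupOf K ≤ S :=
    H3.le_of_isPiHall_of_normal hS (H1.isPiSubgroup_subgroupOf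
      (H1.isPiSubgroup_compl_singleton_iff.2 ((Nat.Prime.coprime_iff_not_dvd hp.out).2
        H1.not_dvd_card_pPrimeCore).symm) K)
  have hMS : M.subgroupOf K ⊔ S = ⊤ := by
    rw [← Subgroup.index_eq_one]
    exact H3.PiNum.eq_one (hK'.of_dvd (Subgroup.index_dvd_of_le le_sup_left))
      ((H3.isPiHall_iff.1 hS).2.of_dvd (Subgroup.index_dvd_of_le le_sup_right))
  have hKle : K ≤ M ⊔ S.map K.subtype := by
    intro x hx
    have : x ∈ (M.subgroupOf K ⊔ S).map K.subtype := ⟨⟨x, hx⟩, hMS ▸ trivial, rfl⟩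
    rw [Subgroup.map_sup] at this
    exact sup_le_sup_right (Subgroup.map_comap_le _ _) _ this
  refine ⟨Subgroup.normalizer (S.map K.subtype : Set G), fun e => hlt.not_ge ?_, ?_, ?_⟩
  · haveI := Subgroup.normalizer_eq_top_iff.1 e
    refine hKle.trans (sup_le le_rfl (le_trans (H1.le_pPrimeCore ?_) H23.pPrimeCore_le_pPrimePCore))
    exact H1.isPiSubgroup_compl_singleton_iff.1 (H1.isPiSubgroup_map hS.1 _)
  · refine le_trans (fun x hx => ?_) Subgroup.le_normalizer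
    exact ⟨⟨x, hlt.le (H23.pPrimeCore_le_pPrimePCore hx)⟩, hLS hx, rfl⟩
  · rw [eq_top_iff]
    intro g _
    have h1 : IsPiHall ({p}ᶜ) (S.map (MulAut.conjNormal g : MulAut K).toMonoidHom) :=
      H3.isPiHall_map hS (MulAut.conjNormal g : MulAut K).surjective
    obtain ⟨k, hk⟩ := hsep.exists_conj_eq h1 hS
      (Or.inr (H3.piPrimeSectionsSolvable_compl_singleton hp.out))
    have h2 : (k : G) * g ∈ Subgroup.normalizer (S.map K.subtype : Set G) := by
      refine Subgroup.mem_normalizer_fintype ?_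
      rintro _ ⟨s, hs, rfl⟩
      refine ⟨k * MulAut.conjNormal g s * k⁻¹, ?_, by simp [mul_assoc]⟩
      rw [← hk]
      exact ⟨_, ⟨s, hs, rfl⟩, rfl⟩
    have h3 : g = (k : G)⁻¹ * (k * g) := by simp
    rw [h3]
    exact mul_mem (sup_le_sup_left Subgroup.le_normalizer _ (hKle (inv_mem k.2)))
      (Subgroup.mem_sup_right h2)

theorem exists_conj_mem_of_supplement (hG : IsPSolvable p G) {L M H : Subgroup G} [L.Normal]
    [M.Normal] (hLM : L ≤ M) (rel : H76.RelP p L M) (hLH : L ≤ H) (hsup : M ⊔ H = ⊤) {x : G}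
    (hx : ¬ p ∣ orderOf x) : ∃ g : G, g * x * g⁻¹ ∈ H := by
  obtain ⟨k, hk⟩ := index_pow_of_relP (N := L.subgroupOf M) (fun x _ => rel x x.2)
  have h1 : H.index ∣ p ^ k := by
    have e1 : H.index = H.relIndex M := by
      have a1 := Subgroup.relIndex_mul_index (inf_le_left : M ⊓ H ≤ M)
      have a2 := Subgroup.relIndex_mul_index (inf_le_right : M ⊓ H ≤ H)
      rw [Subgroup.inf_relIndex_left] at a1
      rw [Subgroup.inf_relIndex_right, ← Subgroup.relIndex_sup_left, hsup,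
        Subgroup.relIndex_top_right, ← a1, mul_comm] at a2
      exact Nat.eq_of_mul_eq_mul_right (Nat.pos_of_ne_zero Subgroup.index_ne_zero_of_finite) a2
    rw [e1, ← hk]
    exact Subgroup.relIndex_dvd_of_le_left M hLH
  obtain ⟨S, hS⟩ := (H76.isPSolvable_iff.1 (H76.isPSolvable_subgroup hG H)).compl.exists_isPiHall
  have hS' : IsPiHall ({p}ᶜ) (S.map H.subtype) := by
    refine H3.isPiHall_iff.2 ⟨H1.isPiSubgroup_map hS.1 _, ?_⟩
    rw [Subgroup.index_map_subtype]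
    exact (H3.isPiHall_iff.1 hS).2.mul ((H3.piNum_prime_pow hp.out (by simp) k).of_dvd h1)
  obtain ⟨g, hg⟩ := (H76.isPSolvable_iff.1 hG).compl.exists_conj_le hS' (K := Subgroup.zpowers x)
    (H1.isPiSubgroup_compl_singleton_iff.2 (by
      rw [Nat.card_zpowers]; exact ((Nat.Prime.coprime_iff_not_dvd hp.out).2 hx).symm))
    (Or.inr (H3.piPrimeSectionsSolvable_compl_singleton hp.out))
  exact ⟨g, Subgroup.map_subtype_le _ (hg ⟨x, Subgroup.mem_zpowers x, rfl⟩)⟩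

end Grp

end H34
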