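import Mathlib
import Cfsg.Agent.Base
import Cfsg.Agent.Lib.Block.Ab2A
import Cfsg.Agent.Lib.Block.Split
import Cfsg.Agent.Lib.Deg.Cliff
import Cfsg.Agent.Lib.Char.ExtGall
import Cfsg.Agent.Lib.Core.MinNormal
import Cfsg.Agent.S4432
import Cfsg.Agent.Lib.Char.Berger

/-! Alperin–Dade: isomorphic principal blocks.  If `N ⊴ G` has `p'`-index and `G = N C_G(P)`,
restriction is a bijection `B₀(G) → B₀(N)`. -/

set_option autoImplicit false
set_option linter.unusedSectionVars false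
open Cfsg
open scoped ComplexConjugate

namespace H34

universe u v

section Unit
variable {G : Type*} [Group G] [Finite G] {p : ℕ} [Fact p.Prime] {M : Ideal AlgInt} [M.IsMaximal]

theorem red_centralChar_principal {χ : IrrCharacter G} (hχ : χ ∈ principalBlock M G) (g : G) :
    H33.red M (centralChar (χ : G → ℂ) g) = (Subgroup.centralizer ({g} : Set G)).index := by
  have h := (H84.sameBlock_iff_red (M := M) (H84.irrOne G) χ).1 hχ g
  rw [← h]
  simp [centralChar, H84.irrOne_coe]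

theorem red_div_principal (hM : IsPModular p M) {χ : IrrCharacter G}
    (hχ : χ ∈ principalBlock M G) {g : G} (hg : ¬ p ∣ (Subgroup.centralizer ({g} : Set G)).index) :
    H33.red M ((χ : G → ℂ) g / (χ : G → ℂ) 1) = 1 := by
  have h1 := H33.red_natCast_ne_zero hM hg
  have h0 : ((Subgroup.centralizer ({g} : Set G)).index : ℂ) ≠ 0 := H33.ne_zero_of_red_ne_zero h1
  have e : (χ : G → ℂ) g / (χ : G → ℂ) 1 =
      centralChar (χ : G → ℂ) g / (Subgroup.centralizer ({g} : Set G)).index := by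
    rw [centralChar]; field_simp
  rw [e, H33.red_div (H84.centralChar_mem_O M χ g) h1, red_centralChar_principal hχ,
    H33.red_natCast]
  exact div_self (by rwa [H33.red_natCast] at h1)

/-- an irreducible character with kernel of `p'`-index congruent to its degree is principal -/
theorem eq_one_of_red_eq (hM : IsPModular p M) {K : Subgroup G} [K.Normal] (hK : ¬ p ∣ K.index)
    {β : G → ℂ} (hβ : IsIrrCharacter G β) (hker : ∀ n ∈ K, β n = β 1)
    (h : ∀ g, H33.red M (β g / β 1) = 1) : β = fun _ => 1 := by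
  classical
  haveI := Fintype.ofFinite (G ⧸ K)
  obtain ⟨ψ, hψ, e⟩ := H6.exists_irr_quotient hβ K hker
  have h1 : ψ = fun _ => 1 := by
    by_contra hne
    have h0 := H6.irr_inner_ne hψ H6.isIrrCharacter_one hne
    rw [H6.classInner_one_right, mul_eq_zero] at h0
    have h2 : ∑ q, ψ q = 0 := h0.resolve_left (inv_ne_zero H6.card_ne_zero)
    have h3 : ∀ q, H33.red M (ψ q / β 1) = 1 := fun q => by
      obtain ⟨g, rfl⟩ := QuotientGroup.mk_surjective q
      rw [e, h]
    have h4 : H33.red M (∑ q, ψ q / β 1) = ∑ q, H33.red M (ψ q / β 1) :=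
      H33.red_sum _ fun q _ => H33.mem_O_of_red_ne_zero (by rw [h3]; exact one_ne_zero)
    rw [← Finset.sum_div, h2, zero_div, H33.red_zero] at h4
    simp only [h3, Finset.sum_const, Finset.card_univ, nsmul_eq_mul, mul_one] at h4
    rw [← Nat.card_eq_fintype_card, ← Subgroup.index_eq_card] at h4
    exact hK ((H33.natCast_F_eq_zero_iff hM _).1 h4.symm)
  funext g
  rw [← e, h1]

end Unit

/-- `ι : N → G` is a normal embedding of `p'`-index with `G = N C_G(Q)` -/
structure Ov (p : ℕ) {N : Type v} [Group N] (Q : Sylow p N) {G : Type u} [Group G]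
    (ι : N →* G) : Prop where
  inj : Function.Injective ι
  nrm : ι.range.Normal
  idx : ¬ p ∣ ι.range.index
  sup : ∀ g : G, ∃ n : N, ∃ c : G, (∀ x ∈ (Q : Subgroup N), Commute c (ι x)) ∧ g = ι n * c

/-- the canonical extension -/
structure Good (M : Ideal AlgInt) [M.IsMaximal] {p : ℕ} {N : Type v} [Group N] (Q : Sylow p N)
    {G : Type u} [Group G] (ι : N →* G) (θ : N → ℂ) (ξ : G → ℂ) : Prop where
  chr : IsCharacter G ξ
  ext : ∀ n, ξ (ι n) = θ n
  unit : ∀ c : G, (∀ x ∈ (Q : Subgroup N), Commute c (ι x)) → H33.red M (ξ c / θ 1) = 1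

section Main
variable {p : ℕ} [Fact p.Prime] {M : Ideal AlgInt} [M.IsMaximal] {N : Type v} [Group N] [Finite N]
  {Q : Sylow p N} {G : Type u} [Group G] [Finite G] {ι : N →* G}

theorem Ov.not_dvd_index (h : Ov p Q ι) {c : G} (hc : ∀ x ∈ (Q : Subgroup N), Commute c (ι x)) :
    ¬ p ∣ (Subgroup.centralizer ({c} : Set G)).index := by
  have h1 : ¬ p ∣ ((Q : Subgroup N).map ι).index := by
    rw [Subgroup.index_map_of_injective _ h.inj]
    exact fun hd => ((Nat.Prime.dvd_mul Fact.out).1 hd).elim Q.not_dvd_index h.idx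
  have h2 : (Q : Subgroup N).map ι ≤ Subgroup.centralizer ({c} : Set G) := by
    rintro _ ⟨x, hx, rfl⟩
    exact Subgroup.mem_centralizer_singleton_iff.2 (hc x hx).symm.eq
  exact fun hd => h1 (hd.trans (Subgroup.index_dvd_of_le h2))

theorem Ov.restrict (h : Ov p Q ι) (J : Subgroup G) (hJ : ∀ n, ι n ∈ J) :
    Ov p Q (ι.codRestrict J hJ) := by
  have e : (ι.codRestrict J hJ).range = ι.range.subgroupOf J := by
    ext x
    constructor
    · rintro ⟨n, rfl⟩; exact ⟨n, rfl⟩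
    · rintro ⟨n, hn⟩; exact ⟨n, Subtype.ext hn⟩
  haveI := h.nrm
  refine ⟨fun a b hab => h.inj (congrArg Subtype.val hab), e ▸ inferInstance, ?_, fun g => ?_⟩
  · rw [e]
    exact fun hd => h.idx (hd.trans (Subgroup.relIndex_dvd_index_of_normal _ J))
  · obtain ⟨n, c, hc, hg⟩ := h.sup g
    have hcJ : c ∈ J := by
      have : c = (ι n)⁻¹ * g := by rw [hg]; group
      rw [this]; exact mul_mem (inv_mem (hJ n)) g.2
    exact ⟨n, ⟨c, hcJ⟩, fun x hx => Subtype.ext (hc x hx).eq, Subtype.ext hg⟩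

theorem Good.comp {θ : N → ℂ} {ξ : G → ℂ} (h : Good M Q ι θ ξ) {L : Type*} [Group L]
    (j : L →* G) {κ : N →* L} (hκ : ∀ n, j (κ n) = ι n) : Good M Q κ θ fun l => ξ (j l) where
  chr := H6.isCharacter_comp j h.chr
  ext := fun n => by rw [hκ, h.ext]
  unit := fun c hc => h.unit _ fun x hx => by rw [← hκ]; exact (hc x hx).map j

theorem Good.irr {θ : IrrCharacter N} {ξ : G → ℂ} (h : Good M Q ι θ ξ) : IsIrrCharacter G ξ :=
  H31.isIrr_of_comp_isIrr ι h.chr (by rw [funext h.ext]; exact θ.2)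

theorem Good.one {θ : N → ℂ} {ξ : G → ℂ} (h : Good M Q ι θ ξ) : ξ 1 = θ 1 := by
  rw [← h.ext, map_one]

theorem irr_range (hinj : Function.Injective ι) {θ : IrrCharacter N} {ξ : G → ℂ}
    (h : ∀ n, ξ (ι n) = (θ : N → ℂ) n) : IsIrrCharacter ι.range fun r : ι.range => ξ r := by
  have := H6.isIrrCharacter_comp_equiv (MonoidHom.ofInjective hinj).symm θ.2
  convert this using 2 with r
  rw [← h, MonoidHom.apply_ofInjective_symm]

theorem inner_range (hinj : Function.Injective ι) [Fintype N] [Fintype ι.range] (χ ξ : G → ℂ) :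
    classInner (fun r : ι.range => χ r) (fun r : ι.range => ξ r) =
      classInner (fun n => χ (ι n)) (fun n => ξ (ι n)) :=
  (H6.classInner_comp_equiv (MonoidHom.ofInjective hinj).toEquiv _ _).symm

theorem sum_coset_of_res_irr [Fintype N] {ξ : G → ℂ} (hξ : IsCharacter G ξ) (ι : N →* G)
    (hinj : Function.Injective ι) (hn : ι.range.Normal)
    (hr : IsIrrCharacter N fun n => ξ (ι n)) (g : G) :
    ∑ n, ξ (g * ι n) * conj (ξ (g * ι n)) = Nat.card N := by
  haveI := Fintype.ofFinite ι.range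
  have h1 := H31.sum_coset_mul_conj ι.range (H31.isIrr_of_comp_isIrr ι hξ hr)
    (irr_range hinj (θ := ⟨_, hr⟩) fun n => rfl) g
  rw [← Nat.card_congr (MonoidHom.ofInjective hinj).toEquiv,
    ← Equiv.sum_comp (MonoidHom.ofInjective hinj).toEquiv] at h1
  rw [← h1]
  refine Finset.sum_congr rfl fun n _ => ?_
  rw [H6.classFun_mul_comm (H6.char_isClassFunction hξ) g]; rfl

theorem Good.eq_of_over (hM : IsPModular p M) (h : Ov p Q ι) [Fintype N] {θ : IrrCharacter N}
    {ξ χ : G → ℂ} (hξ : Good M Q ι θ ξ) (hχ : IsIrrCharacter G χ)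
    (hu : ∀ c : G, (∀ x ∈ (Q : Subgroup N), Commute c (ι x)) → H33.red M (χ c / χ 1) = 1)
    (ho : classInner (fun n => χ (ι n)) θ ≠ 0) : χ = ξ := by
  haveI := h.nrm
  haveI := Fintype.ofFinite ι.range
  obtain ⟨β, hβ, hker, rfl⟩ := H31.gallagher_surj ι.range hξ.chr (irr_range h.inj hξ.ext) hχ
    (by rw [inner_range h.inj, funext hξ.ext]; exact ho)
  have h1 := eq_one_of_red_eq hM h.idx hβ hker fun g => by
    obtain ⟨n, c, hc, rfl⟩ := h.sup g
    rw [H6.char_mul_of_eq_one (H6.irr_isCharacter hβ) (hker _ ⟨n, rfl⟩)]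
    have a1 := hu c hc
    have a2 := hξ.unit c hc
    have a3 : H33.red M (ξ c / (θ : N → ℂ) 1) ≠ 0 := by rw [a2]; exact one_ne_zero
    have a4 := H33.ne_zero_of_red_ne_zero a3
    have a5 := H84.irr_one_ne_zero θ
    have a6 := H6.irr_one_ne_zero hβ
    have a7 : ξ c ≠ 0 := fun h => a4 (by rw [h, zero_div])
    have e : β c / β 1 = ((β * ξ) c / (β * ξ) 1) / (ξ c / (θ : N → ℂ) 1) := by
      rw [Pi.mul_apply, Pi.mul_apply, hξ.one]; field_simp
    rw [e, H33.red_div (H33.mem_O_of_red_ne_zero (by rw [a1]; exact one_ne_zero)) a3, a1, a2,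
      div_one]
  rw [h1]; funext g; simp

theorem Good.unique (hM : IsPModular p M) (h : Ov p Q ι) {θ : IrrCharacter N}
    {ξ ξ' : G → ℂ} (hξ : Good M Q ι θ ξ) (hξ' : Good M Q ι θ ξ') : ξ' = ξ := by
  haveI := Fintype.ofFinite N
  refine hξ.eq_of_over hM h hξ'.irr (fun c hc => by rw [hξ'.one]; exact hξ'.unit c hc) ?_
  rw [funext hξ'.ext, H6.irr_inner_self θ.2]; exact one_ne_zero

theorem Ov.good_of_mem (hM : IsPModular p M) (h : Ov p Q ι) {θ : N → ℂ} {χ : IrrCharacter G}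
    (hχ : χ ∈ principalBlock M G) (he : ∀ n, (χ : G → ℂ) (ι n) = θ n) : Good M Q ι θ χ :=
  ⟨H6.irr_isCharacter χ.2, he, fun c hc => by
    rw [← he, map_one]; exact red_div_principal hM hχ (h.not_dvd_index hc)⟩

theorem exists_principal_over (hM : IsPModular p M) (K : Subgroup G) [K.Normal] [Fintype K]
    {θ : IrrCharacter K} (hθ : θ ∈ principalBlock M K) :
    ∃ χ ∈ principalBlock M G, classInner (fun k : K => (χ : G → ℂ) k) θ ≠ 0 := by
  haveI := Fintype.ofFinite G
  refine Cfsg.Agent.S4432.result p M hM K _ H84.isPBlock_principal _ H84.isPBlock_principal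
    ⟨_, H84.irrOne_mem_principal, _, H84.irrOne_mem_principal, ?_⟩ θ hθ
  rw [H84.irrOne_coe, H84.irrOne_coe, H6.classInner_one_one]; exact one_ne_zero

theorem exists_principal_over_hom (hM : IsPModular p M) (hinj : Function.Injective ι)
    (hn : ι.range.Normal) [Fintype N] {θ : IrrCharacter N} (hθ : θ ∈ principalBlock M N) :
    ∃ χ ∈ principalBlock M G, classInner (fun n => (χ : G → ℂ) (ι n)) θ ≠ 0 := by
  haveI := Fintype.ofFinite ι.range
  let e := MonoidHom.ofInjective hinj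
  let θ' : IrrCharacter ι.range := ⟨_, H6.isIrrCharacter_comp_equiv e.symm θ.2⟩
  obtain ⟨χ, hχ, ho⟩ := exists_principal_over hM ι.range (θ := θ')
    ((H85.mem_prin_of_equiv hM e.symm (fun x => rfl)).2 hθ)
  refine ⟨χ, hχ, ?_⟩
  rw [← H6.classInner_comp_equiv e.toEquiv] at ho
  have e2 : (fun n => (θ' : ι.range → ℂ) (e.toEquiv n)) = θ := by
    funext n
    show (θ : N → ℂ) (e.symm (e n)) = _
    rw [e.symm_apply_apply]
  rw [e2] at ho
  exact ho

theorem res_eq_of_prime {K : Subgroup G} [K.Normal] [Fintype K] (hq : K.index.Prime)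
    {χ : G → ℂ} (hχ : IsIrrCharacter G χ) {θ : K → ℂ} (hθ : IsIrrCharacter K θ)
    (ho : classInner (fun k : K => χ k) θ ≠ 0) {c : G} (hc : c ∉ K) (h0 : χ c ≠ 0) (k : K) :
    χ k = θ k := by
  haveI := Fintype.ofFinite G
  haveI : Fact K.index.Prime := ⟨hq⟩
  have ho' := H87.over_iff.2 ho
  have hcyc : IsCyclic (G ⧸ K) := isCyclic_of_prime_card (Subgroup.index_eq_card K).symm
  have hd := ho'.deg_eq_of_isCyclic hcyc hθ hχ
  obtain ⟨e, -, -, hdv⟩ := ho'.clifford hχ hθ
  rcases (Nat.dvd_prime hq).1 (Dvd.dvd.trans (Dvd.intro_left e rfl) hdv) with h1 | h1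
  · rw [h1, one_mul] at hd
    exact ho'.eq_of_deg_le (H6.irr_isCharacter hχ) hθ hd.le k
  · rw [h1] at hd
    have := ho'.eq_indFun hχ (H6.irr_isCharacter hθ) hd.ge
    rw [← this, H7.indFun_eq_zero_of_not_mem_normal K K le_rfl θ hc] at h0
    exact absurd rfl h0

theorem isSolvable_quot_restrict {J : Subgroup G} (hJ : ∀ n, ι n ∈ J) [ι.range.Normal]
    [(ι.codRestrict J hJ).range.Normal] [Group.IsSolvable (G ⧸ ι.range)] :
    Group.IsSolvable (J ⧸ (ι.codRestrict J hJ).range) := by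
  refine Group.isSolvable_of_isSolvable_injective
    (f := QuotientGroup.map _ ι.range J.subtype (by rintro _ ⟨n, rfl⟩; exact ⟨n, rfl⟩)) ?_
  rw [injective_iff_map_eq_one]
  intro q hq
  obtain ⟨x, rfl⟩ := QuotientGroup.mk_surjective q
  rw [QuotientGroup.map_mk, QuotientGroup.eq_one_iff] at hq
  obtain ⟨n, hn⟩ := hq
  exact (QuotientGroup.eq_one_iff _).2 ⟨n, Subtype.ext hn⟩

theorem exists_ext_solv (hM : IsPModular p M) {θ : IrrCharacter N}
    (hθ : θ ∈ principalBlock M N) (n : ℕ) : ∀ {G : Type u} [Group G] [Finite G] {ι : N →* G}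
    (h : Ov p Q ι), Nat.card G = n → (haveI := h.nrm; Group.IsSolvable (G ⧸ ι.range)) →
    ∃ χ ∈ principalBlock M G, ∀ x, (χ : G → ℂ) (ι x) = (θ : N → ℂ) x := by
  induction n using Nat.strong_induction_on with
  | _ n ih =>
    intro G _ _ ι h hn hs
    haveI := h.nrm
    by_cases ht : ι.range = ⊤
    · let e := MulEquiv.ofBijective ι ⟨h.inj, MonoidHom.range_eq_top.1 ht⟩
      let χ : IrrCharacter G := ⟨_, H6.isIrrCharacter_comp_equiv e.symm θ.2⟩
      refine ⟨χ, (H85.mem_prin_of_equiv hM e.symm (fun x => rfl)).2 hθ, fun x => ?_⟩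
      show (θ : N → ℂ) (e.symm (e x)) = _
      rw [e.symm_apply_apply]
    obtain ⟨K, hKn, hle, hq⟩ := H3.exists_normal_prime_index_ge ι.range ht hs
    have hK : ∀ x, ι x ∈ K := fun x => hle ⟨x, rfl⟩
    have hKt : K ≠ ⊤ := by rintro rfl; rw [Subgroup.index_top] at hq; exact Nat.not_prime_one hq
    have h1 := h.restrict K hK
    haveI := h1.nrm
    obtain ⟨χ₁, hχ₁, e₁⟩ := ih (Nat.card K)
      (hn ▸ H3.card_lt_of_ne_top K hKt) h1 rfl (isSolvable_quot_restrict hK)
    haveI := Fintype.ofFinite K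
    obtain ⟨χ, hχ, ho⟩ := exists_principal_over hM K hχ₁
    obtain ⟨g, hg⟩ : ∃ g, g ∉ K := by
      by_contra hc; push Not at hc; exact hKt (eq_top_iff.2 fun g _ => hc g)
    obtain ⟨m, c, hc, rfl⟩ := h.sup g
    have hcK : c ∉ K := fun hm => hg (mul_mem (hK m) hm)
    have h0 : (χ : G → ℂ) c ≠ 0 := fun h0 => by
      have := red_div_principal hM hχ (h.not_dvd_index hc)
      rw [h0, zero_div, H33.red_zero] at this
      exact zero_ne_one this
    exact ⟨χ, hχ, fun x => (res_eq_of_prime hq χ.2 χ₁.2 ho hcK h0 ⟨ι x, hK x⟩).trans (e₁ x)⟩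

theorem Ov.exists_good_sup (hM : IsPModular p M) (h : Ov p Q ι) {θ : IrrCharacter N}
    (hθ : θ ∈ principalBlock M N) (E : Subgroup G) [Group.IsSolvable E] :
    ∃ ξ, Good M Q (ι.codRestrict (ι.range ⊔ E) fun n => Subgroup.mem_sup_left ⟨n, rfl⟩) θ ξ := by
  haveI := h.nrm
  have h1 := h.restrict (ι.range ⊔ E) fun n => Subgroup.mem_sup_left ⟨n, rfl⟩
  haveI := h1.nrm
  obtain ⟨χ, hχ, e⟩ := exists_ext_solv hM hθ _ h1 rfl (by
    refine Group.isSolvable_of_surjective
      (f := (QuotientGroup.mk' _).comp (Subgroup.inclusion (le_sup_right : E ≤ ι.range ⊔ E))) ?_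
    intro q
    obtain ⟨⟨x, hx⟩, rfl⟩ := QuotientGroup.mk_surjective q
    have hx' := hx
    rw [← SetLike.mem_coe, Subgroup.normal_mul] at hx'
    obtain ⟨_, ⟨n, rfl⟩, y, hy, rfl⟩ := hx'
    refine ⟨⟨y, hy⟩, ?_⟩
    rw [MonoidHom.comp_apply, QuotientGroup.mk'_apply, QuotientGroup.eq]
    obtain ⟨m, hm⟩ := h.nrm.conj_mem' _ ⟨n, rfl⟩ y
    exact ⟨m, Subtype.ext (by show ι m = y⁻¹ * (ι n * y); rw [hm]; group)⟩)
  exact ⟨χ, h1.good_of_mem hM hχ e⟩

theorem Ov.exists_good (hM : IsPModular p M) (h : Ov p Q ι) {θ : IrrCharacter N}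
    (hθ : θ ∈ principalBlock M N) : ∃ ξ, Good M Q ι θ ξ := by
  classical
  haveI := h.nrm
  haveI := Fintype.ofFinite G
  haveI := Fintype.ofFinite N
  have hsolv : ∀ g : G, Group.IsSolvable (Subgroup.zpowers g) := fun g =>
    isSolvable_of_comm fun a b => (Subgroup.zpowers_isMulCommutative g).is_comm.comm a b
  choose ξ hξ using fun g : G => h.exists_good_sup hM hθ (Subgroup.zpowers g)
  let t : G → ℂ := fun g => ξ g ⟨g, Subgroup.mem_sup_right (Subgroup.mem_zpowers g)⟩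
  have key : ∀ (J : Subgroup G) (hJ : ∀ n, ι n ∈ J) (η : J → ℂ),
      Good M Q (ι.codRestrict J hJ) θ η → ∀ (g : G) (hg : g ∈ J), t g = η ⟨g, hg⟩ := by
    intro J hJ η hη g hg
    have hle : ι.range ⊔ Subgroup.zpowers g ≤ J :=
      sup_le (by rintro _ ⟨n, rfl⟩; exact hJ n) ((Subgroup.zpowers_le).2 hg)
    have := (hη.comp (Subgroup.inclusion hle) (fun n => rfl)).unique hM
      (h.restrict (ι.range ⊔ Subgroup.zpowers g) fun n => Subgroup.mem_sup_left ⟨n, rfl⟩) (hξ g)
    exact congrFun this _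
  have hext : ∀ n, t (ι n) = (θ : N → ℂ) n := fun n => (hξ (ι n)).ext n
  have hcl1 : ∀ g a : G, a ∈ ι.range ⊔ Subgroup.zpowers g → t (a * g * a⁻¹) = t g := by
    intro g a ha
    have hg : g ∈ ι.range ⊔ Subgroup.zpowers g := Subgroup.mem_sup_right (Subgroup.mem_zpowers g)
    rw [key _ _ _ (hξ g) _ (mul_mem (mul_mem ha hg) (inv_mem ha))]
    exact H6.char_isClassFunction (hξ g).chr ⟨g, hg⟩ ⟨a, ha⟩
  have hcl2 : ∀ g c : G, (∀ x ∈ (Q : Subgroup N), Commute c (ι x)) → t (c * g * c⁻¹) = t g := by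
    intro g c hc
    let J := ι.range ⊔ Subgroup.zpowers g
    let J' := J.comap (MulAut.conj c⁻¹).toMonoidHom
    have hm : ∀ y, y ∈ J' ↔ c⁻¹ * y * c ∈ J := fun y => by
      simp [J', Subgroup.mem_comap]
    have hJ' : ∀ n, ι n ∈ J' := fun n =>
      (hm _).2 (Subgroup.mem_sup_left (h.nrm.conj_mem' _ ⟨n, rfl⟩ c))
    let j : J' →* J := ((MulAut.conj c⁻¹).toMonoidHom.comp J'.subtype).codRestrict J fun y => y.2
    have hj : ∀ y : J', (j y : G) = c⁻¹ * y * c := fun y => by simp [j]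
    have hg' : Good M Q (ι.codRestrict J' hJ') θ fun y => ξ g (j y) := by
      refine ⟨H6.isCharacter_comp j (hξ g).chr, fun n => ?_, fun d hd => ?_⟩
      · obtain ⟨m, hm'⟩ := h.nrm.conj_mem' _ ⟨n, rfl⟩ c
        have e1 : j (ι.codRestrict J' hJ' n) =
            ι.codRestrict J (fun n => Subgroup.mem_sup_left ⟨n, rfl⟩) m :=
          Subtype.ext ((hj _).trans hm'.symm)
        show ξ g (j _) = _
        rw [e1, (hξ g).ext, ← hext, ← hext, hm']
        have hc' : c ∈ ι.range ⊔ Subgroup.zpowers c :=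
          Subgroup.mem_sup_right (Subgroup.mem_zpowers c)
        have hn' : ι n ∈ ι.range ⊔ Subgroup.zpowers c := Subgroup.mem_sup_left ⟨n, rfl⟩
        rw [key _ _ _ (hξ c) _ (mul_mem (mul_mem (inv_mem hc') hn') hc'), key _ _ _ (hξ c) _ hn']
        exact H6.classFun_conj' (H6.char_isClassFunction (hξ c).chr) ⟨_, hn'⟩ ⟨_, hc'⟩
      · refine (hξ g).unit _ fun x hx => Subtype.ext ?_
        have a1 := congrArg Subtype.val (hd x hx).eq
        have a2 : (d : G) * ι x = ι x * d := a1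
        have a3 := (hc x hx).eq
        show (j d : G) * ι x = ι x * j d
        rw [hj, mul_assoc, a3, ← mul_assoc, mul_assoc c⁻¹, a2, ← mul_assoc,
          (hc x hx).inv_left.eq]
        group
    have hmem : c * g * c⁻¹ ∈ J' := (hm _).2 (by
      rw [show c⁻¹ * (c * g * c⁻¹) * c = g by group]
      exact Subgroup.mem_sup_right (Subgroup.mem_zpowers g))
    rw [key _ _ _ hg' _ hmem]
    show ξ g _ = ξ g _
    congr 1
    exact Subtype.ext ((hj _).trans (by show c⁻¹ * (c * g * c⁻¹) * c = g; group))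
  have hcl : IsClassFunction G t := by
    intro g a
    obtain ⟨n, c, hc, rfl⟩ := h.sup a
    rw [show ι n * c * g * (ι n * c)⁻¹ = ι n * (c * g * c⁻¹) * (ι n)⁻¹ by group,
      hcl1 _ _ (Subgroup.mem_sup_left ⟨n, rfl⟩), hcl2 g c hc]
  have hgen : IsGeneralizedCharacter G t := by
    refine H84.isGen_of_nilpotent hcl fun E hE => ?_
    obtain ⟨η, hη⟩ := h.exists_good_sup hM hθ E
    have := H6.isGen_comp (Subgroup.inclusion (le_sup_right : E ≤ ι.range ⊔ E))
      (H6.char_isGen hη.chr)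
    convert this using 2 with e
    exact key _ _ _ hη e (Subgroup.mem_sup_right e.2)
  have hnorm : classInner t t = 1 := by
    haveI := Fintype.ofFinite (G ⧸ ι.range)
    haveI := Fintype.ofFinite ι.range
    have h1 := H6.card_mul_classInner t t
    rw [H7.sum_eq_sum_quotient ι.range] at h1
    have h2 : ∀ q : G ⧸ ι.range, ∑ r : ι.range, t (q.out * r) * conj (t (q.out * r)) =
        Nat.card ι.range := by
      intro q
      have hO := h.restrict (ι.range ⊔ Subgroup.zpowers q.out)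
        fun n => Subgroup.mem_sup_left ⟨n, rfl⟩
      have hq : q.out ∈ ι.range ⊔ Subgroup.zpowers q.out :=
        Subgroup.mem_sup_right (Subgroup.mem_zpowers _)
      haveI := hO.nrm
      have h3 := sum_coset_of_res_irr (hξ q.out).chr _ hO.inj hO.nrm
        (by rw [funext (hξ q.out).ext]; exact θ.2) ⟨_, hq⟩
      rw [← Nat.card_congr (MonoidHom.ofInjective h.inj).toEquiv, ← h3,
        ← Equiv.sum_comp (MonoidHom.ofInjective h.inj).toEquiv]
      refine Finset.sum_congr rfl fun n _ => ?_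
      have := key _ _ _ (hξ q.out) (q.out * ι n) (mul_mem hq (Subgroup.mem_sup_left ⟨n, rfl⟩))
      show t (q.out * ι n) * conj (t (q.out * ι n)) = _
      rw [this]; rfl
    simp only [h2, Finset.sum_const, Finset.card_univ, nsmul_eq_mul] at h1
    rw [← Nat.card_eq_fintype_card, ← Subgroup.index_eq_card, ← H7.card_eq_index_mul] at h1
    exact mul_left_cancel₀ H6.card_ne_zero (h1.trans (mul_one _).symm)
  have hirr := H6.isIrr_of_gen_of_inner_self hgen hnorm (by
    rw [← map_one ι, hext, ← H84.cast_deg]; simp)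
  refine ⟨t, H6.irr_isCharacter hirr, hext, fun c hc => ?_⟩
  exact (hξ c).unit _ fun x hx => Subtype.ext (hc x hx).eq

theorem Ov.exists_ext (hM : IsPModular p M) (h : Ov p Q ι) {θ : IrrCharacter N}
    (hθ : θ ∈ principalBlock M N) :
    ∃! χ : IrrCharacter G, χ ∈ principalBlock M G ∧ ∀ n, (χ : G → ℂ) (ι n) = (θ : N → ℂ) n := by
  haveI := Fintype.ofFinite N
  obtain ⟨ξ, hξ⟩ := h.exists_good hM hθ
  obtain ⟨χ, hχ, ho⟩ := exists_principal_over_hom hM h.inj h.nrm hθ
  have e := hξ.eq_of_over hM h χ.2 (fun c hc => red_div_principal hM hχ (h.not_dvd_index hc)) ho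
  refine ⟨χ, ⟨hχ, fun n => by rw [e, hξ.ext]⟩, fun χ' hχ' => Subtype.ext ?_⟩
  rw [e]
  exact hξ.unique hM h (h.good_of_mem hM hχ'.1 hχ'.2)

end Main

section Sub
variable {G : Type*} [Group G] [Finite G] {p : ℕ} [Fact p.Prime] {M : Ideal AlgInt} [M.IsMaximal]
  {N : Subgroup G} [N.Normal]

theorem exists_ov (hidx : ¬ p ∣ N.index) (P : Sylow p G)
    (hsup : N ⊔ Subgroup.centralizer ((P : Subgroup G) : Set G) = ⊤) :
    ∃ Q : Sylow p N, Ov p Q N.subtype := by
  obtain ⟨Q, hQ⟩ := exists_sylow_normal P N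
  refine ⟨Q, N.subtype_injective, by rw [Subgroup.range_subtype]; infer_instance,
    by rwa [Subgroup.range_subtype], fun g => ?_⟩
  have hg : g ∈ N ⊔ Subgroup.centralizer ((P : Subgroup G) : Set G) := hsup ▸ Subgroup.mem_top g
  rw [← SetLike.mem_coe, Subgroup.normal_mul] at hg
  obtain ⟨n, hn, c, hc, rfl⟩ := hg
  exact ⟨⟨n, hn⟩, c, fun x hx => (Subgroup.mem_centralizer_iff.1 hc x ((hQ x).1 hx)).symm, rfl⟩

theorem dade_ext (hM : IsPModular p M) (hidx : ¬ p ∣ N.index) (P : Sylow p G)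
    (hsup : N ⊔ Subgroup.centralizer ((P : Subgroup G) : Set G) = ⊤) {θ : IrrCharacter N}
    (hθ : θ ∈ principalBlock M N) :
    ∃! χ : IrrCharacter G, χ ∈ principalBlock M G ∧ ∀ n : N, (χ : G → ℂ) n = (θ : N → ℂ) n := by
  obtain ⟨Q, hQ⟩ := exists_ov hidx P hsup
  exact hQ.exists_ext hM hθ

theorem dade_res (hM : IsPModular p M) (hidx : ¬ p ∣ N.index) (P : Sylow p G)
    (hsup : N ⊔ Subgroup.centralizer ((P : Subgroup G) : Set G) = ⊤) {χ : IrrCharacter G}
    (hχ : χ ∈ principalBlock M G) :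
    ∃ θ ∈ principalBlock M N, ∀ n : N, (χ : G → ℂ) n = (θ : N → ℂ) n := by
  haveI := Fintype.ofFinite N
  obtain ⟨Q, hQ⟩ := exists_ov hidx P hsup
  obtain ⟨θ, ho⟩ := H35.exists_under N χ
  have hθ := H85.mem_prin_of_over hM hχ θ ho
  obtain ⟨ξ, hξ⟩ := hQ.exists_good hM hθ
  have e := hξ.eq_of_over hM hQ χ.2 (fun c hc => red_div_principal hM hχ (hQ.not_dvd_index hc)) ho
  exact ⟨θ, hθ, fun n => by rw [e]; exact hξ.ext n⟩

theorem dade_card (hM : IsPModular p M) (hidx : ¬ p ∣ N.index) (P : Sylow p G)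
    (hsup : N ⊔ Subgroup.centralizer ((P : Subgroup G) : Set G) = ⊤) :
    Nat.card (principalBlock M G) = Nat.card (principalBlock M N) := by
  choose r hr e using fun χ : principalBlock M G => dade_res hM hidx P hsup χ.2
  refine Nat.card_congr (Equiv.ofBijective (fun χ => ⟨r χ, hr χ⟩) ⟨fun a b hab => ?_, fun θ => ?_⟩)
  · have hab' : r a = r b := congrArg Subtype.val hab
    exact Subtype.ext ((dade_ext hM hidx P hsup (hr a)).unique ⟨a.2, e a⟩
      ⟨b.2, by rw [hab']; exact e b⟩)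
  · obtain ⟨χ, ⟨hχ, h⟩, -⟩ := dade_ext hM hidx P hsup θ.2
    exact ⟨⟨χ, hχ⟩, Subtype.ext (Subtype.ext (funext fun n => (e ⟨χ, hχ⟩ n).symm.trans (h n)))⟩

end Sub

end H34
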