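import Mathlib

/-! Two combinatorial lemmas for the principal 2-block with Sylow subgroup `2⁴` and inertial index 9:
the action of a group of order 9 on a group of order 16, and the lattice argument. -/

set_option autoImplicit false

namespace H34

section Fix
variable {P : Type*} [Group P]

/-- fixed points of a group of automorphisms -/
def fixS (H : Subgroup (MulAut P)) : Subgroup P where
  carrier := {x | ∀ e ∈ H, e x = x}
  mul_mem' := fun {a b} ha hb e he => by rw [map_mul, ha e he, hb e he]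
  one_mem' := fun e _ => map_one e
  inv_mem' := fun {a} ha e he => by rw [map_inv, ha e he]

theorem mem_fixS {H : Subgroup (MulAut P)} {x : P} : x ∈ fixS H ↔ ∀ e ∈ H, e x = x := Iff.rfl

theorem mem_fixS_zpowers {z : MulAut P} {x : P} : x ∈ fixS (Subgroup.zpowers z) ↔ z x = x := by
  constructor
  · intro h; exact h z (Subgroup.mem_zpowers z)
  · intro h e he
    have : Subgroup.zpowers z ≤ MulAction.stabilizer (MulAut P) x := by
      rw [Subgroup.zpowers_le]; exact h
    exact this he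

theorem card_modEq_fixS [Finite P] {q : ℕ} [Fact q.Prime] {H : Subgroup (MulAut P)}
    (hH : IsPGroup q H) : Nat.card P ≡ Nat.card (fixS H) [MOD q] := by
  have h := hH.card_modEq_card_fixedPoints P
  have e : Nat.card (MulAction.fixedPoints H P) = Nat.card (fixS H) := by
    apply Nat.card_congr
    apply Equiv.subtypeEquivRight
    intro x
    constructor
    · intro hx e he; exact hx ⟨e, he⟩
    · intro hx e; exact hx e e.2
  rwa [e] at h

theorem card_orbit_of_free [Finite P] {E : Subgroup (MulAut P)} {w : P}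
    (hw : ∀ e ∈ E, e w = w → e = 1) : {y | ∃ e ∈ E, e w = y}.ncard = Nat.card E := by
  have hinj : Function.Injective fun e : E => (e : MulAut P) w := by
    intro a b hab
    have : ((b⁻¹ * a : E) : MulAut P) = 1 := by
      apply hw _ (b⁻¹ * a).2
      have hab' : (a : MulAut P) w = (b : MulAut P) w := hab
      simp [hab']
    have h2 : b⁻¹ * a = 1 := Subtype.ext this
    exact (inv_mul_eq_one.1 h2).symm
  rw [← Nat.card_range_of_injective hinj, ← Nat.card_coe_set_eq]
  congr 2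
  ext y
  simp

theorem nine_on_sixteen [Finite P] (hP : Nat.card P = 16) {E : Subgroup (MulAut P)}
    (hE : Nat.card E = 9) :
    ∃ V₁ V₂ : Subgroup P, ∃ z₁ ∈ E, ∃ z₂ ∈ E, Nat.card V₁ = 4 ∧ Nat.card V₂ = 4 ∧
      (∀ x, x ∈ V₁ → x ∈ V₂ → x = 1) ∧ (∀ x, x ∈ V₁ ↔ z₁ x = x) ∧ (∀ x, x ∈ V₂ ↔ z₂ x = x) ∧
      (∀ e ∈ E, ∀ x ∈ V₁, e x ∈ V₁) ∧ (∀ e ∈ E, ∀ x ∈ V₂, e x ∈ V₂) ∧
      (∀ x, x ∉ V₁ → x ∉ V₂ → ∀ e ∈ E, e x = x → e = 1) ∧
      (∀ x y, x ∉ V₁ → x ∉ V₂ → y ∉ V₁ → y ∉ V₂ → ∃ e ∈ E, e x = y) ∧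
      (∀ e ∈ E, ∀ u ∈ V₁, u ≠ 1 → e u = u → ∀ x ∈ V₁, e x = x) ∧
      (∀ e ∈ E, ∀ u ∈ V₂, u ≠ 1 → e u = u → ∀ x ∈ V₂, e x = x) := by
  classical
  haveI : Fact (Nat.Prime 3) := ⟨by norm_num⟩
  haveI := Fintype.ofFinite P
  haveI : Finite E := Nat.finite_of_card_ne_zero (by rw [hE]; norm_num)
  haveI := Fintype.ofFinite E
  have hE3 : IsPGroup 3 E := IsPGroup.of_card (n := 2) (by rw [hE]; norm_num)
  have hcomm : ∀ a ∈ E, ∀ b ∈ E, a * b = b * a := by
    intro a ha b hb
    letI := IsPGroup.commGroupOfCardEqPrimeSq (p := 3) (G := E) (by rw [hE]; norm_num)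
    exact congrArg Subtype.val (mul_comm (⟨a, ha⟩ : E) ⟨b, hb⟩)
  have hfix : ∀ H : Subgroup (MulAut P), H ≤ E →
      Nat.card (fixS H) = 1 ∨ Nat.card (fixS H) = 4 ∨ Nat.card (fixS H) = 16 := by
    intro H hH
    have h1 := card_modEq_fixS (hE3.to_le hH)
    have h2 := (fixS H).card_subgroup_dvd_card
    rw [hP] at h1 h2
    have h3 := Nat.le_of_dvd (by norm_num) h2
    unfold Nat.ModEq at h1
    generalize Nat.card (fixS H) = n at *
    interval_cases n <;> simp_all
  have hfz : ∀ z ∈ E, z ≠ 1 → Nat.card (fixS (Subgroup.zpowers z)) = 1 ∨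
      Nat.card (fixS (Subgroup.zpowers z)) = 4 := by
    intro z hz hz1
    rcases hfix _ ((Subgroup.zpowers_le).2 hz) with h | h | h
    · exact Or.inl h
    · exact Or.inr h
    · exfalso; apply hz1
      have := Subgroup.eq_top_of_card_eq _ (h.trans hP.symm)
      ext x
      exact mem_fixS_zpowers.1 (this ▸ Subgroup.mem_top x)
  have hfz4 : ∀ z ∈ E, z ≠ 1 → ∀ x, x ≠ 1 → z x = x → Nat.card (fixS (Subgroup.zpowers z)) = 4 := by
    intro z hz hz1 x hx h
    rcases hfz z hz hz1 with h1 | h1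
    · exfalso
      rw [Subgroup.card_eq_one] at h1
      have := mem_fixS_zpowers.2 h
      rw [h1] at this
      exact hx this
    · exact h1
  -- a regular orbit
  have hw : ∃ w : P, ∀ e ∈ E, e w = w → e = 1 := by
    by_contra hcon
    push Not at hcon
    have key := Finset.sum_card_bipartiteAbove_eq_sum_card_bipartiteBelow
      (s := Finset.univ.filter fun x : P => x ≠ 1) (t := Finset.univ.filter fun e : E => e ≠ 1)
      (r := fun (x : P) (e : E) => (e : MulAut P) x = x)
    have h1 : ∀ x ∈ Finset.univ.filter fun x : P => x ≠ 1,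
        2 ≤ ((Finset.univ.filter fun e : E => e ≠ 1).bipartiteAbove
          (fun (x : P) (e : E) => (e : MulAut P) x = x) x).card := by
      intro x _
      obtain ⟨e, he, hex, he1⟩ := hcon x
      have hne : (⟨e, he⟩ : E) ≠ (⟨e, he⟩ : E)⁻¹ := by
        intro h
        have h2 : (⟨e, he⟩ : E) ^ 2 = 1 := by rw [pow_two]; nth_rewrite 1 [h]; simp
        have h9 : (⟨e, he⟩ : E) ^ 9 = 1 := by rw [← hE]; exact pow_card_eq_one'
        have : (⟨e, he⟩ : E) ^ 9 = ((⟨e, he⟩ : E) ^ 2) ^ 4 * ⟨e, he⟩ := by group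
        rw [h9, h2, one_pow, one_mul] at this
        exact he1 (congrArg Subtype.val this).symm
      rw [← Finset.card_pair hne]
      apply Finset.card_le_card
      intro a ha
      rw [Finset.mem_insert, Finset.mem_singleton] at ha
      have h1 : (⟨e, he⟩ : E) ≠ 1 := fun h => he1 (congrArg Subtype.val h)
      rcases ha with rfl | rfl
      · simp [Finset.mem_bipartiteAbove, h1, hex]
      · simp only [Finset.mem_bipartiteAbove, Finset.mem_filter, Finset.mem_univ, true_and, ne_eq,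
          inv_eq_one, h1, not_false_eq_true]
        show e⁻¹ x = x
        rw [MulAut.inv_apply, MulEquiv.symm_apply_eq, hex]
    have h2 : ∀ e ∈ Finset.univ.filter fun e : E => e ≠ 1,
        ((Finset.univ.filter fun x : P => x ≠ 1).bipartiteBelow
          (fun (x : P) (e : E) => (e : MulAut P) x = x) e).card ≤ 3 := by
      intro e he
      have he1 : (e : MulAut P) ≠ 1 := fun h => (Finset.mem_filter.1 he).2 (Subtype.ext h)
      have hc : ((Finset.univ.filter fun x : P => x ≠ 1).bipartiteBelow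
          (fun (x : P) (e : E) => (e : MulAut P) x = x) e) =
          (Finset.univ.filter fun x : P => x ∈ fixS (Subgroup.zpowers (e : MulAut P))).erase 1 := by
        ext x
        simp [Finset.mem_bipartiteBelow, mem_fixS_zpowers]
      rw [hc, Finset.card_erase_of_mem (by simp [one_mem]), ← Fintype.card_subtype,
        ← Nat.card_eq_fintype_card]
      rcases hfz _ e.2 he1 with h | h <;> omega
    have h3 := Finset.card_nsmul_le_sum _ _ _ h1
    have h4 := Finset.sum_le_card_nsmul _ _ _ h2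
    have c1 : (Finset.univ.filter fun x : P => x ≠ 1).card = 15 := by
      rw [Finset.filter_ne' Finset.univ (1 : P), Finset.card_erase_of_mem (Finset.mem_univ _),
        Finset.card_univ, ← Nat.card_eq_fintype_card, hP]
    have c2 : (Finset.univ.filter fun x : E => x ≠ 1).card = 8 := by
      rw [Finset.filter_ne' Finset.univ (1 : E), Finset.card_erase_of_mem (Finset.mem_univ _),
        Finset.card_univ, ← Nat.card_eq_fintype_card, hE]
    rw [c1, key] at h3
    rw [c2] at h4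
    simp only [smul_eq_mul] at h3 h4
    omega
  obtain ⟨w, hw⟩ := hw
  set W : Set P := {y | ∃ e ∈ E, e w = y} with hW
  have hWc : W.ncard = 9 := by rw [hW, card_orbit_of_free hw, hE]
  have hWfree : ∀ y ∈ W, ∀ e ∈ E, e y = y → e = 1 := by
    rintro _ ⟨a, ha, rfl⟩ e he h
    apply hw e he
    apply a.injective
    rw [← MulAut.mul_apply, hcomm a ha e he, MulAut.mul_apply, h]
  have hWc' : Wᶜ.ncard = 7 := by
    have := Set.ncard_add_ncard_compl W
    rw [hWc, hP] at this; omega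
  have hnf : ∀ x, x ∉ W → ∃ e ∈ E, e x = x ∧ e ≠ 1 := by
    intro x hx
    by_contra hcon
    push Not at hcon
    have h1 := card_orbit_of_free hcon
    have h2 : {y | ∃ e ∈ E, e x = y} ⊆ Wᶜ := by
      rintro _ ⟨a, ha, rfl⟩ ⟨b, hb, e⟩
      exact hx ⟨a⁻¹ * b, mul_mem (inv_mem ha) hb, by rw [MulAut.mul_apply, e]; simp⟩
    have := Set.ncard_le_ncard h2
    rw [h1, hE, hWc'] at this; omega
  have hsub : ∀ z ∈ E, z ≠ 1 → (fixS (Subgroup.zpowers z) : Set P) ⊆ Wᶜ := by
    intro z hz hz1 x hx hxW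
    exact hz1 (hWfree x hxW z hz (mem_fixS_zpowers.1 hx))
  obtain ⟨x₁, hx₁, hx₁'⟩ := Set.exists_mem_notMem_of_ncard_lt_ncard (s := ({1} : Set P)) (t := Wᶜ)
    (by rw [Set.ncard_singleton, hWc']; norm_num)
  obtain ⟨z₁, hz₁, hzx₁, hz₁1⟩ := hnf x₁ hx₁
  have hV₁ := hfz4 z₁ hz₁ hz₁1 x₁ hx₁' hzx₁
  obtain ⟨x₂, hx₂, hx₂'⟩ := Set.exists_mem_notMem_of_ncard_lt_ncard
    (s := (fixS (Subgroup.zpowers z₁) : Set P)) (t := Wᶜ)
    (by rw [← Nat.card_coe_set_eq, hWc']; exact hV₁.trans_lt (by norm_num))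
  obtain ⟨z₂, hz₂, hzx₂, hz₂1⟩ := hnf x₂ hx₂
  have hx₂1 : x₂ ≠ 1 := by rintro rfl; exact hx₂' (one_mem _)
  have hV₂ := hfz4 z₂ hz₂ hz₂1 x₂ hx₂1 hzx₂
  have hinf : fixS (Subgroup.zpowers z₁) ⊓ fixS (Subgroup.zpowers z₂) = ⊥ := by
    have e : fixS (Subgroup.zpowers z₁) ⊓ fixS (Subgroup.zpowers z₂) =
        fixS (Subgroup.zpowers z₁ ⊔ Subgroup.zpowers z₂) := by
      ext x
      constructor
      · rintro ⟨h1, h2⟩ e he
        have : Subgroup.zpowers z₁ ⊔ Subgroup.zpowers z₂ ≤ MulAction.stabilizer (MulAut P) x :=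
          sup_le (fun a ha => h1 a ha) (fun a ha => h2 a ha)
        exact this he
      · intro h
        exact ⟨fun a ha => h a (Subgroup.mem_sup_left ha), fun a ha => h a (Subgroup.mem_sup_right ha)⟩
    have hle : fixS (Subgroup.zpowers z₁ ⊔ Subgroup.zpowers z₂) ≤ fixS (Subgroup.zpowers z₂) :=
      e ▸ inf_le_right
    rcases hfix (Subgroup.zpowers z₁ ⊔ Subgroup.zpowers z₂)
      (sup_le ((Subgroup.zpowers_le).2 hz₁) ((Subgroup.zpowers_le).2 hz₂)) with h | h | h
    · rw [e]; exact Subgroup.card_eq_one.1 h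
    · exfalso
      have := Subgroup.eq_of_le_of_card_ge hle (by rw [h, hV₂])
      have h2 : x₂ ∈ fixS (Subgroup.zpowers z₂) := mem_fixS_zpowers.2 hzx₂
      rw [← this, ← e] at h2
      exact hx₂' h2.1
    · have := Subgroup.card_le_of_le hle
      omega
  have hunion : (fixS (Subgroup.zpowers z₁) : Set P) ∪ fixS (Subgroup.zpowers z₂) = Wᶜ := by
    apply Set.eq_of_subset_of_ncard_le (Set.union_subset (hsub z₁ hz₁ hz₁1) (hsub z₂ hz₂ hz₂1))
    have h1 := Set.ncard_union_add_ncard_inter (fixS (Subgroup.zpowers z₁) : Set P)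
      (fixS (Subgroup.zpowers z₂))
    rw [← Subgroup.coe_inf, hinf, Subgroup.coe_bot, Set.ncard_singleton, ← Nat.card_coe_set_eq
      (fixS (Subgroup.zpowers z₁) : Set P), ← Nat.card_coe_set_eq
      (fixS (Subgroup.zpowers z₂) : Set P)] at h1
    have e1 : Nat.card (fixS (Subgroup.zpowers z₁) : Set P) = 4 := hV₁
    have e2 : Nat.card (fixS (Subgroup.zpowers z₂) : Set P) = 4 := hV₂
    omega
  have hmemW : ∀ x, x ∉ fixS (Subgroup.zpowers z₁) → x ∉ fixS (Subgroup.zpowers z₂) → x ∈ W := by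
    intro x h1 h2
    by_contra h
    have : x ∈ Wᶜ := h
    rw [← hunion] at this
    exact this.elim h1 h2
  have hinv : ∀ z ∈ E, ∀ e ∈ E, ∀ x ∈ fixS (Subgroup.zpowers z), e x ∈ fixS (Subgroup.zpowers z) := by
    intro z hz e he x hx
    rw [mem_fixS_zpowers] at hx ⊢
    rw [← MulAut.mul_apply, hcomm z hz e he, MulAut.mul_apply, hx]
  have hpt : ∀ z ∈ E, Nat.card (fixS (Subgroup.zpowers z)) = 4 → ∀ e ∈ E,
      ∀ u ∈ fixS (Subgroup.zpowers z), u ≠ 1 → e u = u →
      ∀ x ∈ fixS (Subgroup.zpowers z), e x = x := by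
    intro z hz h4 e he u hu hu1 heu x hx
    have hle : fixS (Subgroup.zpowers z ⊔ Subgroup.zpowers e) ≤ fixS (Subgroup.zpowers z) :=
      fun y hy a ha => hy a (Subgroup.mem_sup_left ha)
    have hu' : u ∈ fixS (Subgroup.zpowers z ⊔ Subgroup.zpowers e) := by
      intro a ha
      have : Subgroup.zpowers z ⊔ Subgroup.zpowers e ≤ MulAction.stabilizer (MulAut P) u :=
        sup_le (fun a ha => hu a ha) (fun a ha => mem_fixS_zpowers.2 heu a ha)
      exact this ha
    rcases hfix (Subgroup.zpowers z ⊔ Subgroup.zpowers e)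
      (sup_le ((Subgroup.zpowers_le).2 hz) ((Subgroup.zpowers_le).2 he)) with h | h | h
    · rw [Subgroup.card_eq_one] at h
      rw [h] at hu'
      exact absurd hu' hu1
    · rw [← Subgroup.eq_of_le_of_card_ge hle (by rw [h, h4])] at hx
      exact hx e (Subgroup.mem_sup_right (Subgroup.mem_zpowers e))
    · have := Subgroup.card_le_of_le hle
      omega
  refine ⟨_, _, z₁, hz₁, z₂, hz₂, hV₁, hV₂, fun x h1 h2 => ?_, fun x => mem_fixS_zpowers,
    fun x => mem_fixS_zpowers, hinv z₁ hz₁, hinv z₂ hz₂,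
    fun x h1 h2 => hWfree x (hmemW x h1 h2), fun x y h1 h2 h3 h4 => ?_, hpt z₁ hz₁ hV₁,
    hpt z₂ hz₂ hV₂⟩
  · rw [← Subgroup.mem_bot, ← hinf]; exact ⟨h1, h2⟩
  · obtain ⟨a, ha, rfl⟩ := hmemW x h1 h2
    obtain ⟨b, hb, rfl⟩ := hmemW y h3 h4
    exact ⟨b * a⁻¹, mul_mem hb (inv_mem ha), by simp⟩

end Fix

section Lattice
variable {ι : Type*}

theorem sq_modEq_self (a : ℤ) : a * a ≡ a [ZMOD 2] := by
  rcases Int.even_or_odd' a with ⟨k, rfl | rfl⟩
  · exact Int.modEq_iff_dvd.2 ⟨k - 2 * k * k, by ring⟩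
  · exact Int.modEq_iff_dvd.2 ⟨-k - 2 * k * k, by ring⟩

theorem entry_le (s : Finset ι) (A B : ι → ℤ) (hA : ∑ x ∈ s, A x * A x = 4)
    (hAB : ∑ x ∈ s, A x * B x = 1) {x : ι} (hx : x ∈ s) : A x = 0 ∨ A x = 1 ∨ A x = -1 := by
  classical
  rw [← Finset.add_sum_erase s _ hx] at hA hAB
  have h0 : 0 ≤ ∑ y ∈ s.erase x, A y * A y := Finset.sum_nonneg fun y _ => mul_self_nonneg _
  have h1 : A x ≤ 2 := by nlinarith
  have h2 : -2 ≤ A x := by nlinarith
  have h3 : A x * A x = 4 → False := by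
    intro h
    have h4 : ∑ y ∈ s.erase x, A y * A y = 0 := by omega
    rw [Finset.sum_eq_zero_iff_of_nonneg fun y _ => mul_self_nonneg _] at h4
    have h5 : ∑ y ∈ s.erase x, A y * B y = 0 :=
      Finset.sum_eq_zero fun y hy => by rw [mul_self_eq_zero.1 (h4 y hy), zero_mul]
    rw [h5, add_zero] at hAB
    have := Int.eq_one_or_neg_one_of_mul_eq_one hAB
    rcases this with h6 | h6 <;> rw [h6] at h <;> omega
  have : A x ≠ 2 := fun h => h3 (by rw [h]; norm_num)
  have : A x ≠ -2 := fun h => h3 (by rw [h]; norm_num)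
  omega

/-- parity: the number of nonzero entries at places where `T` is even is even -/
theorem parity_even [DecidableEq ι] (s : Finset ι) (A T : ι → ℤ) (hA : ∑ x ∈ s, A x * A x = 4)
    (hT : ∑ x ∈ s, A x * T x = 4) :
    (2 : ℤ) ∣ ∑ x ∈ s.filter (fun x => Even (T x)), A x * A x := by
  have h : ∑ x ∈ s, (A x * A x - A x * T x) = 0 := by rw [Finset.sum_sub_distrib, hA, hT]; rfl
  rw [← Finset.sum_filter_add_sum_filter_not s (fun x => Even (T x)), Finset.sum_sub_distrib] at h
  have h1 : (2 : ℤ) ∣ ∑ x ∈ s.filter (fun x => Even (T x)), A x * T x :=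
    Finset.dvd_sum fun x hx => Dvd.dvd.mul_left (even_iff_two_dvd.1 (Finset.mem_filter.1 hx).2) _
  have h2 : (2 : ℤ) ∣ ∑ x ∈ s.filter (fun x => ¬ Even (T x)), (A x * A x - A x * T x) := by
    refine Finset.dvd_sum fun x hx => ?_
    obtain ⟨k, hk⟩ := Int.not_even_iff_odd.1 (Finset.mem_filter.1 hx).2
    obtain ⟨l, hl⟩ := (sq_modEq_self (A x)).dvd
    exact ⟨-l - A x * k, by rw [hk]; linear_combination -hl⟩
  omega

theorem lattice_sixteen {J J' : Type*} (s : Finset ι) (I : Finset J) (I' : Finset J')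
    (hI : I.card = 4) (hI' : I'.card = 4) (A : J → ι → ℤ) (B : J' → ι → ℤ) (T : ι → ℤ)
    (hA : ∀ i ∈ I, ∑ x ∈ s, A i x * A i x = 4)
    (hA' : ∀ i ∈ I, ∀ j ∈ I, i ≠ j → ∑ x ∈ s, A i x * A j x = 0)
    (hB : ∀ i ∈ I', ∑ x ∈ s, B i x * B i x = 4)
    (hAB : ∀ i ∈ I, ∀ j ∈ I', ∑ x ∈ s, A i x * B j x = 1)
    (hTA : ∀ x ∈ s, T x = ∑ i ∈ I, A i x) (hTB : ∀ x ∈ s, T x = ∑ i ∈ I', B i x)
    (hT0 : ∀ x ∈ s, T x ≠ 0) (hk : 9 ≤ s.card) : s.card = 16 := by
  classical
  obtain ⟨j₀, hj₀⟩ : I'.Nonempty := Finset.card_pos.1 (by omega)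
  have hAT : ∀ i ∈ I, ∑ x ∈ s, A i x * T x = 4 := by
    intro i hi
    rw [Finset.sum_congr rfl fun x hx => by rw [hTB x hx, Finset.mul_sum], Finset.sum_comm,
      Finset.sum_congr rfl fun j hj => hAB i hi j hj]
    simp [hI']
  have hBT : ∀ j ∈ I', ∑ x ∈ s, B j x * T x = 4 := by
    intro j hj
    rw [Finset.sum_congr rfl fun x hx => by rw [hTA x hx, Finset.mul_sum], Finset.sum_comm,
      Finset.sum_congr rfl fun i hi => (Finset.sum_congr rfl fun x _ => mul_comm _ _).trans
        (hAB i hi j hj)]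
    simp [hI]
  have hTT : ∑ x ∈ s, T x * T x = 16 := by
    rw [Finset.sum_congr rfl fun x hx => by
      rw [show T x * T x = (∑ i ∈ I, A i x) * T x by rw [← hTA x hx], Finset.sum_mul],
      Finset.sum_comm, Finset.sum_congr rfl fun i hi => hAT i hi]
    simp [hI]
  have hent : ∀ i ∈ I, ∀ x ∈ s, A i x = 0 ∨ A i x = 1 ∨ A i x = -1 :=
    fun i hi x hx => entry_le s (A i) (B j₀) (hA i hi) (hAB i hi j₀ hj₀) hx
  set Ev := s.filter (fun x => Even (T x)) with hEv
  set Od := s.filter (fun x => ¬ Even (T x)) with hOd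
  have hcard : Ev.card + Od.card = s.card := Finset.card_filter_add_card_filter_not _
  have hsplit : ∀ f : ι → ℤ, ∑ x ∈ Ev, f x + ∑ x ∈ Od, f x = ∑ x ∈ s, f x :=
    fun f => Finset.sum_filter_add_sum_filter_not s _ f
  have hEv4 : ∀ x ∈ Ev, 4 ≤ T x * T x := by
    intro x hx
    obtain ⟨hx1, k, hk⟩ := Finset.mem_filter.1 hx
    have := hT0 x hx1
    have hk0 : k ≠ 0 := by rintro rfl; exact this (by simpa using hk)
    have := mul_self_pos.2 hk0
    rw [hk]; nlinarith
  have hOd1 : ∀ x ∈ Od, 1 ≤ T x * T x := fun x hx =>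
    mul_self_pos.2 (hT0 x (Finset.mem_filter.1 hx).1)
  have hOd8 : (8 : ℤ) ∣ ∑ x ∈ Od, T x * T x - Od.card := by
    rw [Finset.card_eq_sum_ones, Nat.cast_sum, ← Finset.sum_sub_distrib]
    refine Finset.dvd_sum fun x hx => ?_
    obtain ⟨k, hk⟩ := Int.not_even_iff_odd.1 (Finset.mem_filter.1 hx).2
    obtain ⟨l, hl⟩ := (sq_modEq_self k).dvd
    exact ⟨k - l, by rw [hk]; push_cast; linear_combination (-4 : ℤ) * hl⟩
  have h1 := Finset.card_nsmul_le_sum _ _ _ hEv4
  have h2 := Finset.card_nsmul_le_sum _ _ _ hOd1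
  have h3 := hsplit fun x => T x * T x
  rw [hTT] at h3
  simp only [nsmul_eq_mul] at h1 h2
  have hEc : Ev.card = 0 ∨ Ev.card = 1 ∨ Ev.card = 2 := by omega
  rcases hEc with h | h | h
  · rw [Finset.card_eq_zero] at h
    rw [h, Finset.sum_empty] at h3
    rw [h, Finset.card_empty] at hcard
    omega
  · exfalso
    obtain ⟨x, hx⟩ := Finset.card_eq_one.1 h
    have hxE : x ∈ Ev := by rw [hx]; exact Finset.mem_singleton_self x
    have hxs := (Finset.mem_filter.1 hxE).1
    apply hT0 x hxs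
    rw [hTA x hxs]
    refine Finset.sum_eq_zero fun i hi => ?_
    have := parity_even s (A i) T (hA i hi) (hAT i hi)
    rw [← hEv, hx, Finset.sum_singleton] at this
    rcases hent i hi x hxs with e | e | e
    · exact e
    · rw [e] at this; omega
    · rw [e] at this; omega
  · exfalso
    obtain ⟨x, y, hxy, hE⟩ := Finset.card_eq_two.1 h
    have hxE : x ∈ Ev := by rw [hE]; simp
    have hyE : y ∈ Ev := by rw [hE]; simp
    have hxs := (Finset.mem_filter.1 hxE).1
    have hys := (Finset.mem_filter.1 hyE).1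
    have hsp : ∀ f : ι → ℤ, f x + f y + ∑ z ∈ Od, f z = ∑ z ∈ s, f z := by
      intro f; rw [← hsplit f, hE, Finset.sum_pair hxy]
    have hx4 := hEv4 x hxE
    have hy4 := hEv4 y hyE
    rw [hE, Finset.sum_pair hxy] at h3
    have hOc : (7 : ℤ) ≤ Od.card := by omega
    have hTx : T x = 2 ∨ T x = -2 := by
      obtain ⟨k, hk⟩ := (Finset.mem_filter.1 hxE).2
      have : T x ≤ 2 := by nlinarith
      have : -2 ≤ T x := by nlinarith
      have := hT0 x hxs
      omega
    have hTy : T y = 2 ∨ T y = -2 := by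
      obtain ⟨k, hk⟩ := (Finset.mem_filter.1 hyE).2
      have : T y ≤ 2 := by nlinarith
      have : -2 ≤ T y := by nlinarith
      have := hT0 y hys
      omega
    have hxx : T x * T x = 4 := by rcases hTx with e | e <;> rw [e] <;> norm_num
    have hyy : T y * T y = 4 := by rcases hTy with e | e <;> rw [e] <;> norm_num
    have hO8 : ∑ z ∈ Od, T z * T z = Od.card := by omega
    have hOone : ∀ z ∈ Od, T z * T z = 1 := by
      have : ∑ z ∈ Od, (T z * T z - 1) = 0 := by
        rw [Finset.sum_sub_distrib, hO8]; simp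
      rw [Finset.sum_eq_zero_iff_of_nonneg fun z hz => by have := hOd1 z hz; omega] at this
      intro z hz
      have := this z hz
      omega
    -- each `A i` is `0` at both `x, y` or `T/2` at both
    have hAi : ∀ i ∈ I, (A i x = 0 ∧ A i y = 0) ∨ (2 * A i x = T x ∧ 2 * A i y = T y) := by
      intro i hi
      have hp := parity_even s (A i) T (hA i hi) (hAT i hi)
      rw [← hEv, hE, Finset.sum_pair hxy] at hp
      have e1 := hsp fun z => A i z * A i z
      have e2 := hsp fun z => A i z * T z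
      rw [hA i hi] at e1
      rw [hAT i hi] at e2
      have e3 : ∑ z ∈ Od, A i z * T z ≤ ∑ z ∈ Od, A i z * A i z := by
        refine Finset.sum_le_sum fun z hz => ?_
        rcases Int.eq_one_or_neg_one_of_mul_eq_one (hOone z hz) with e | e <;> rw [e] <;>
          rcases hent i hi z (Finset.mem_filter.1 hz).1 with e | e | e <;> rw [e] <;> norm_num
      rcases hent i hi x hxs with a | a | a <;> rcases hent i hi y hys with b | b | b <;>
        rcases hTx with c | c <;> rcases hTy with d | d <;>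
        rw [a, b, c, d] at e2 <;> rw [a, b] at hp e1 <;> omega
    have hsum : ∑ i ∈ I, 2 * A i x = 2 * T x := by rw [← Finset.mul_sum, ← hTA x hxs]
    have hc2 : (I.filter fun i => 2 * A i x = T x).card = 2 := by
      have : ∑ i ∈ I, 2 * A i x = ∑ i ∈ I, if 2 * A i x = T x then T x else 0 := by
        refine Finset.sum_congr rfl fun i hi => ?_
        split_ifs with hc
        · exact hc
        · rcases hAi i hi with e | e
          · rw [e.1]; rfl
          · exact absurd e.1 hc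
      rw [this, ← Finset.sum_filter, Finset.sum_const, nsmul_eq_mul] at hsum
      have := mul_right_cancel₀ (hT0 x hxs) hsum
      exact_mod_cast this
    obtain ⟨i, i', hii', hI2⟩ := Finset.card_eq_two.1 hc2
    have hi : i ∈ I.filter fun i => 2 * A i x = T x := by rw [hI2]; simp
    have hi' : i' ∈ I.filter fun i => 2 * A i x = T x := by rw [hI2]; simp
    rw [Finset.mem_filter] at hi hi'
    have hT2 : ∀ i ∈ I, 2 * A i x = T x → 2 * A i y = T y := by
      intro i hi h
      rcases hAi i hi with e | e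
      · exfalso; rw [e.1] at h; exact hT0 x hxs h.symm
      · exact e.2
    have hy1 := hT2 i hi.1 hi.2
    have hy2 := hT2 i' hi'.1 hi'.2
    have hx1 := hi.2
    have hx2 := hi'.2
    have hD : ∑ z ∈ s, (A i z + A i' z) * (A i z + A i' z) = 8 := by
      have : ∀ z, (A i z + A i' z) * (A i z + A i' z) =
          A i z * A i z + A i' z * A i' z + 2 * (A i z * A i' z) := fun z => by ring
      simp only [this, Finset.sum_add_distrib, ← Finset.mul_sum]
      rw [hA i hi.1, hA i' hi'.1, hA' i hi.1 i' hi'.1 hii']; norm_num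
    have ex : A i x + A i' x = T x := by omega
    have ey : A i y + A i' y = T y := by omega
    rw [← hsp, ex, ey, hxx, hyy] at hD
    have hD0 : ∑ z ∈ Od, (A i z + A i' z) * (A i z + A i' z) = 0 := by omega
    rw [Finset.sum_eq_zero_iff_of_nonneg fun z _ => mul_self_nonneg _] at hD0
    have hDB : ∑ z ∈ s, (A i z + A i' z) * B j₀ z = 2 := by
      simp only [add_mul, Finset.sum_add_distrib]
      rw [hAB i hi.1 j₀ hj₀, hAB i' hi'.1 j₀ hj₀]; norm_num
    rw [← hsp, ex, ey, Finset.sum_eq_zero fun z hz => by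
      rw [mul_self_eq_zero.1 (hD0 z hz), zero_mul]] at hDB
    have hp := parity_even s (B j₀) T (hB j₀ hj₀) (hBT j₀ hj₀)
    rw [← hEv, hE, Finset.sum_pair hxy] at hp
    have p1 := (sq_modEq_self (B j₀ x)).dvd
    have p2 := (sq_modEq_self (B j₀ y)).dvd
    generalize B j₀ x * B j₀ x = m at hp p1
    generalize B j₀ y * B j₀ y = n at hp p2
    obtain ⟨k1, hk1⟩ := hp
    obtain ⟨k2, hk2⟩ := p1
    obtain ⟨k3, hk3⟩ := p2
    rcases hTx with c | c <;> rcases hTy with d | d <;> rw [c, d] at hDB <;> omega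

end Lattice

end H34
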