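import Mathlib
import Cfsg.Agent.Base
import Cfsg.Agent.Lib.Block.Ab2A
import Cfsg.Agent.Lib.Block.Ab2C
import Cfsg.Agent.Lib.Block.Klein
import Cfsg.Agent.Lib.Block.Apps
import Cfsg.Agent.Lib.H85.Prin4
import Cfsg.Agent.S0948
import Cfsg.Agent.S0944
import Cfsg.Agent.S4512

/-! Principal 2-blocks with abelian Sylow subgroups: Klein four factors, and the block with
Sylow subgroup `2⁴` and inertial index 9. -/

set_option autoImplicit false
set_option linter.unusedSectionVars false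
open Cfsg
open scoped ComplexConjugate

namespace H34

section Gen
variable {G : Type*} [Group G] [Finite G] {p : ℕ} [Fact p.Prime] {M : Ideal AlgInt} [M.IsMaximal]

theorem mem_normalizer_of_mem_iff {H P : Subgroup G} (hPH : P ≤ H) {Q : Subgroup H}
    (h : ∀ x : H, x ∈ Q ↔ (x : G) ∈ P) (n : H) :
    n ∈ Subgroup.normalizer (Q : Set H) ↔ (n : G) ∈ Subgroup.normalizer (P : Set G) := by
  rw [Subgroup.mem_normalizer_iff, Subgroup.mem_normalizer_iff]
  constructor
  · intro hn x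
    constructor
    · intro hx
      exact (h _).1 ((hn ⟨x, hPH hx⟩).1 ((h _).2 hx))
    · intro hx
      have hxH : x ∈ H := by
        have := mul_mem (mul_mem (inv_mem n.2) (hPH hx)) n.2
        simpa [mul_assoc] using this
      exact (h ⟨x, hxH⟩).1 ((hn ⟨x, hxH⟩).2 ((h _).2 hx))
  · intro hn x
    rw [h, h]
    exact hn x

theorem npc_of_free (P : Sylow p G) [IsMulCommutative P] {z : G} (hz : z ∈ P)
    (h : ∀ n ∈ Subgroup.normalizer ((P : Subgroup G) : Set G), n * z * n⁻¹ = z →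
      n ∈ Subgroup.centralizer ((P : Subgroup G) : Set G)) :
    HasNormalPComplement p (Subgroup.centralizer ({z} : Set G)) := by
  have hle := H85.le_cent_of_mem (P : Subgroup G) hz
  refine H4.hasNormalPComplement_of_normalizer_le_centralizer (P.subtype hle) fun n hn => ?_
  have hn' := (mem_normalizer_of_mem_iff hle (Q := (P.subtype hle : Subgroup _))
    (fun x => Iff.rfl) n).1 hn
  have hc := h n hn' (by
    rw [mul_inv_eq_iff_eq_mul]; exact Subgroup.mem_centralizer_singleton_iff.1 n.2)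
  exact Subgroup.mem_centralizer_iff.2 fun x hx =>
    Subtype.ext (Subgroup.mem_centralizer_iff.1 hc x hx)

/-- converse of `npc_of_free` -/
theorem free_of_npc (P : Sylow p G) [IsMulCommutative P] {z : G} (hz : z ∈ P)
    (h : HasNormalPComplement p (Subgroup.centralizer ({z} : Set G))) {n : G}
    (hn : n ∈ Subgroup.normalizer ((P : Subgroup G) : Set G)) (hc : n * z * n⁻¹ = z) :
    n ∈ Subgroup.centralizer ((P : Subgroup G) : Set G) := by
  have hle := H85.le_cent_of_mem (P : Subgroup G) hz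
  have hnz : n ∈ Subgroup.centralizer ({z} : Set G) := by
    rw [Subgroup.mem_centralizer_singleton_iff, ← mul_inv_eq_iff_eq_mul]; exact hc
  rw [H35.mem_iff_pPart_mem_and_pReg_mem p]
  constructor
  · apply (P : Subgroup G).le_centralizer
    have h1 : IsPGroup p (Subgroup.zpowers (H35.pPart p n)) :=
      H35.isPElt_iff_zpowers.1 (H35.isPElt_pPart p n)
    have h2 := IsPGroup.inf_normalizer_sylow h1 P
    have h3 : H35.pPart p n ∈ Subgroup.zpowers (H35.pPart p n) ⊓
        Subgroup.normalizer ((P : Subgroup G) : Set G) :=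
      ⟨Subgroup.mem_zpowers _, H35.pPart_mem p hn⟩
    exact (h2 ▸ h3 : _ ∈ _ ⊓ (P : Subgroup G)).2
  · exact H4.mem_centralizer_of_hasNormalPComplement h P.isPGroup' hle (H35.pReg_mem p hnz)
      (H35.pReg_mem p hn)
      ((Nat.Prime.coprime_iff_not_dvd Fact.out).2 (H35.not_dvd_orderOf_pReg p n)).symm

theorem principal_of_conj_npc (hM : IsPModular p M) {w : G}
    (h : HasNormalPComplement p (Subgroup.centralizer ({w} : Set G))) {g : G}
    (hg : IsConj w (H35.pPart p g)) {χ : IrrCharacter G} (hχ : χ ∈ principalBlock M G) :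
    (χ : G → ℂ) g = (χ : G → ℂ) w := by
  obtain ⟨c, hc⟩ := isConj_iff.1 hg.symm
  rw [← H35.pPart_conj] at hc
  rw [← H85.principal_section_npc hM h (H35.isPPart_iff_pPart_eq.2 hc) hχ,
    H6.irr_isClassFunction χ.2 g c]

theorem principal_ne_zero_of_mem (hM : IsPModular p M) (P : Sylow p G) [IsMulCommutative P]
    {w : G} (hw : w ∈ P) {χ : IrrCharacter G} (hχ : χ ∈ principalBlock M G) :
    (χ : G → ℂ) w ≠ 0 :=
  H33.irr_ne_zero_of_mem_principal hM hχ
    (H85.not_dvd_index_centralizer_of_mem P ((P : Subgroup G).le_centralizer hw))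

theorem isGen_central_mul {χ : G → ℂ} (hχ : IsCharacter G χ) {z : G}
    (hz : z ∈ Subgroup.center G) (h2 : z ^ 2 = 1) :
    IsGeneralizedCharacter G fun g => χ (z * g) := by
  refine H6.char_induction (P := fun χ => IsGeneralizedCharacter G fun g => χ (z * g))
    H6.isGen_zero (fun ψ hψ => ?_) (fun a b ha hb => H6.isGen_add ha hb) hχ
  obtain ⟨c, hc, h⟩ := H85.irr_central_mul hψ hz
  have hc2 : c ^ 2 = 1 := by
    obtain ⟨k, hk⟩ := orderOf_dvd_of_pow_eq_one h2
    rw [hk, pow_mul, hc, one_pow]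
  simp only [h]
  rcases sq_eq_one_iff.1 hc2 with rfl | rfl
  · simpa using H6.irr_isGen hψ
  · have := H6.isGen_neg (H6.irr_isGen hψ)
    convert this using 2
    simp

theorem int_of_sq_eq_one (χ : IrrCharacter G) {u : G} (hu : u ^ 2 = 1) :
    ∃ n : ℤ, (χ : G → ℂ) u = n ∧ (2 : ℤ) ∣ (charDegree (χ : G → ℂ) : ℤ) - n := by
  by_cases h1 : u = 1
  · subst h1
    exact ⟨charDegree (χ : G → ℂ), by rw [← H84.cast_deg]; norm_cast, by simp⟩
  · exact Cfsg.Agent.S0944.result χ u (orderOf_eq_prime hu h1)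

end Gen

section Gram
variable {K K' : Type*} [Group K] [Fintype K] [Group K'] [Fintype K']

theorem sum_inner_mul_conj {ι : Type*} (s : Finset ι) (f : ι → K → ℂ) (g : ι → K' → ℂ)
    (φ : K → ℂ) (φ' : K' → ℂ) :
    ∑ i ∈ s, classInner (f i) φ * conj (classInner (g i) φ') =
      (Nat.card K : ℂ)⁻¹ * (Nat.card K' : ℂ)⁻¹ *
        ∑ k, ∑ k', conj (φ k) * φ' k' * ∑ i ∈ s, f i k * conj (g i k') := by
  simp only [H6.classInner_def, map_mul, map_inv₀, map_natCast, map_sum, Complex.conj_conj,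
    Finset.mul_sum, Finset.sum_mul]
  rw [Finset.sum_comm]
  conv_rhs => rw [Finset.sum_comm]
  refine Finset.sum_congr rfl fun k' _ => ?_
  rw [Finset.sum_comm]
  refine Finset.sum_congr rfl fun k _ => Finset.sum_congr rfl fun i _ => ?_
  ring

theorem gram_congr {ι κ : Type*} (s : Finset ι) (t : Finset κ) (f : ι → K → ℂ) (g : ι → K' → ℂ)
    (f' : κ → K → ℂ) (g' : κ → K' → ℂ) (c : ℂ)
    (h : ∀ k k', ∑ i ∈ s, f i k * conj (g i k') = c * ∑ j ∈ t, f' j k * conj (g' j k'))
    (φ : K → ℂ) (φ' : K' → ℂ) :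
    ∑ i ∈ s, classInner (f i) φ * conj (classInner (g i) φ') =
      c * ∑ j ∈ t, classInner (f' j) φ * conj (classInner (g' j) φ') := by
  rw [sum_inner_mul_conj, sum_inner_mul_conj]
  simp only [h, Finset.mul_sum]
  refine Finset.sum_congr rfl fun k _ => Finset.sum_congr rfl fun k' _ =>
    Finset.sum_congr rfl fun j _ => ?_
  ring

open Classical in
theorem gram_of_kernel {ι : Type*} (s : Finset ι) (b : Set (IrrCharacter K)) (f : ι → K → ℂ)
    (c : ℂ) (h : ∀ k k', ∑ i ∈ s, f i k * conj (f i k') =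
      c * ∑ θ ∈ H84.bset b, (θ : K → ℂ) k * conj ((θ : K → ℂ) k')) (θ θ' : IrrCharacter K) :
    ∑ i ∈ s, classInner (f i) θ * conj (classInner (f i) θ') =
      if θ ∈ b ∧ θ = θ' then c else 0 := by
  rw [gram_congr s (H84.bset b) f f (fun θ => θ) (fun θ => θ) c h]
  simp only [H6.irr_inner']
  split_ifs with hc
  · obtain ⟨h1, rfl⟩ := hc
    rw [Finset.sum_eq_single θ]
    · simp
    · intro η _ hη; simp [hη]
    · intro hn; exact absurd (H84.mem_bset.2 h1) hn
  · rw [Finset.sum_eq_zero, mul_zero]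
    intro η hη
    by_cases h1 : η = θ
    · subst h1
      have : η ≠ θ' := fun e => hc ⟨H84.mem_bset.1 hη, e⟩
      simp [this]
    · simp [h1]

theorem eq_sum_of_kernel {ι : Type*} (s : Finset ι) (b : Set (IrrCharacter K)) (f : ι → K → ℂ)
    (c : ℂ) (h : ∀ k k', ∑ i ∈ s, f i k * conj (f i k') =
      c * ∑ θ ∈ H84.bset b, (θ : K → ℂ) k * conj ((θ : K → ℂ) k')) {i : ι} (hi : i ∈ s)
    (hf : IsClassFunction K (f i)) (k : K) :
    f i k = ∑ θ ∈ H84.bset b, classInner (f i) θ * (θ : K → ℂ) k := by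
  classical
  rw [H84.sum_bset_eq_sum, ← H6.classFun_apply_eq_sum_irr hf]
  intro θ hθ
  have := gram_of_kernel s b f c h θ θ
  rw [if_neg (fun h => hθ h.1)] at this
  simp only [Complex.mul_conj] at this
  have h2 : ∑ i ∈ s, Complex.normSq (classInner (f i) θ) = 0 := by exact_mod_cast this
  rw [Finset.sum_eq_zero_iff_of_nonneg fun i _ => Complex.normSq_nonneg _] at h2
  rw [Complex.normSq_eq_zero.1 (h2 i hi), zero_mul]

end Gram

section Klein
variable {K : Type*} [Group K] [Finite K] {M : Ideal AlgInt} [M.IsMaximal]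

theorem isKleinFour_of_not_npc (Q : Sylow 2 K) (h4 : Nat.card Q = 4)
    (hn : ¬ HasNormalPComplement 2 K) : IsKleinFour (Q : Subgroup K) := by
  refine ⟨h4, ?_⟩
  rw [← not_isCyclic_iff_exponent_eq_prime Nat.prime_two h4]
  intro hc
  refine hn (H4.hasNormalPComplement_of_normalizer_le_centralizer Q
    (IsCyclic.normalizer_le_centralizer ?_ hc))
  refine (Nat.minFac_eq_two_iff _).2 ?_
  exact (Dvd.intro 2 h4.symm).trans (Subgroup.card_subgroup_dvd_card (Q : Subgroup K))

theorem orderOf_eq_two_of_klein (Q : Sylow 2 K) (hQ : IsKleinFour (Q : Subgroup K)) {x : K}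
    (hx : H35.IsPElt 2 x) (h1 : x ≠ 1) : orderOf x = 2 := by
  obtain ⟨a, ha⟩ := hx.exists_conj_mem Q
  rw [← H35.orderOf_conj x a]
  refine orderOf_eq_prime ?_ (by simpa using h1)
  have := congrArg Subtype.val (IsKleinFour.mul_self (⟨_, ha⟩ : (Q : Subgroup K)))
  rw [pow_two]; exact this

theorem klein_pkg (hM : IsPModular 2 M) (Q : Sylow 2 K) (h4 : Nat.card Q = 4)
    (hn : ¬ HasNormalPComplement 2 K) :
    Nat.card (principalBlock M K) = 4 ∧ blockRank 2 (principalBlock M K) = 3 ∧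
      (∃ t : K, orderOf t = 2) ∧
      ∃ ε : IrrCharacter K → ℤ, (∀ θ ∈ principalBlock M K, ε θ * ε θ = 1) ∧
        ∀ θ ∈ principalBlock M K, ∀ k : K, 2 ∣ orderOf k → (θ : K → ℂ) k = ε θ := by
  classical
  have hQ := isKleinFour_of_not_npc Q h4 hn
  have hone : ∀ s t : K, orderOf s = 2 → orderOf t = 2 → IsConj s t :=
    fun s t hs ht => H33.Klein.isConj_invol Q h4 hn hs ht
  have hr := rk2_of_isKleinFour hQ
  obtain ⟨t, ht, -, -, ht1, -, -, ht2, -⟩ := hr.ex
  have hto : orderOf t = 2 := orderOf_eq_prime ht2 ht1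
  obtain ⟨a, b, c, e, he, ha1, hb1, hab, hac, hbc, hB, hval, -⟩ :=
    Cfsg.Agent.S0948.result M hM Q hQ hone
  obtain ⟨va, vb, vc⟩ := hval t hto
  have hc1 : (c : K → ℂ) ≠ fun _ => 1 := fun h => by
    rw [h] at vc; norm_num at vc
  refine ⟨?_, Cfsg.Agent.S4512.result M hM Q h4 (fun x => IsKleinFour.mul_self x) hone,
    ⟨t, hto⟩, ?_⟩
  · have := H33.Klein.sum_four hB ⟨ha1, hb1, hc1, hab, hac, hbc⟩ (fun _ => 1)
    rw [Finset.sum_const, H84.card_bset, nsmul_eq_mul] at this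
    have h2 : (Nat.card (principalBlock M K) : ℂ) = (4 : ℕ) := by
      rw [mul_one] at this; rw [this]; norm_num
    exact_mod_cast h2
  · choose ε hε _ using fun θ : IrrCharacter K => int_of_sq_eq_one θ ht2
    refine ⟨ε, fun θ hθ => ?_, fun θ hθ k hk => ?_⟩
    · have : ((ε θ * ε θ : ℤ) : ℂ) = 1 := by
        push_cast
        rw [← hε]
        rw [hB] at hθ
        rcases hθ with h | rfl | rfl | rfl
        · rw [h]; simp
        · rw [va]; simp
        · rw [vb]; rcases he with rfl | rfl <;> simp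
        · rw [vc]; simp
      exact_mod_cast this
    · rw [← hε]
      exact principal_of_conj_npc hM (hasNormalPComplement_centralizer Q hr ht ht1)
        (hone _ _ hto (orderOf_eq_two_of_klein Q hQ (H35.isPElt_pPart 2 k)
          ((H35.pPart_ne_one_iff 2).2 hk))) hθ

end Klein

section Four
variable {G : Type*} [Group G] [Finite G] {M : Ideal AlgInt} [M.IsMaximal]

/-- local data at an involution `u` with `C(u) = A × K` modulo cores, `K` of Klein four type -/
structure Loc4 (M : Ideal AlgInt) {G : Type*} [Group G] [Finite G] (u w : G) {K : Type*} [Group K]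
    [Finite K] (ι : K →* G) : Prop where
  pe : H35.IsPElt 2 u
  comm : ∀ k, Commute u (ι k)
  gen : ∀ χ : IrrCharacter G, IsGeneralizedCharacter K fun k => (χ : G → ℂ) (u * ι k)
  ker : ∀ k k', ¬ 2 ∣ orderOf k → ¬ 2 ∣ orderOf k' →
    ∑ χ ∈ H84.bset (principalBlock M G), (χ : G → ℂ) (u * ι k) * conj ((χ : G → ℂ) (u * ι k')) =
      4 * ∑ θ ∈ H84.bset (principalBlock M K), (θ : K → ℂ) k * conj ((θ : K → ℂ) k')
  sing : ∀ k, 2 ∣ orderOf k → IsConj w (H35.pPart 2 (u * ι k))
  nc : ¬ IsConj w u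
  syl : ∃ Q : Sylow 2 K, Nat.card Q = 4
  nn : ¬ HasNormalPComplement 2 K

variable {u v w : G} {K K' : Type*} [Group K] [Fintype K] [Group K'] [Fintype K'] {ι : K →* G}
  {ι' : K' →* G}

theorem Loc4.pPart_reg (h : Loc4 M u w ι) {k : K} (hk : ¬ 2 ∣ orderOf k) :
    H35.pPart 2 (u * ι k) = u :=
  H35.pPart_mul_eq h.pe (H35.not_dvd_orderOf_map ι hk) (h.comm k)

theorem klein_kernel (hM : IsPModular 2 M) {ε : IrrCharacter K → ℤ}
    (hε : ∀ θ ∈ principalBlock M K, ∀ k : K, 2 ∣ orderOf k → (θ : K → ℂ) k = ε θ) {t : K}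
    (ht : 2 ∣ orderOf t) {k : K} (hk : ¬ 2 ∣ orderOf k) :
    ∑ θ ∈ H84.bset (principalBlock M K), (ε θ : ℂ) * (θ : K → ℂ) k = 0 := by
  have := sum_bset_mul_conj_eq_zero hM (H84.isPBlock_principal (M := M) (G := K)) (g := k) (h := t)
    (by rw [H35.pPart_eq_one hk, isConj_one_right]; exact (H35.pPart_ne_one_iff 2).2 ht)
  rw [← this]
  refine Finset.sum_congr rfl fun θ hθ => ?_
  rw [hε θ (H84.mem_bset.1 hθ) t ht, map_intCast, mul_comm]

theorem klein_kernel' {ε : IrrCharacter K → ℤ} (hc : Nat.card (principalBlock M K) = 4)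
    (h1 : ∀ θ ∈ principalBlock M K, ε θ * ε θ = 1)
    (hε : ∀ θ ∈ principalBlock M K, ∀ k : K, 2 ∣ orderOf k → (θ : K → ℂ) k = ε θ) {k : K}
    (hk : 2 ∣ orderOf k) :
    ∑ θ ∈ H84.bset (principalBlock M K), (ε θ : ℂ) * (θ : K → ℂ) k = 4 := by
  rw [Finset.sum_congr rfl (g := fun _ => (1 : ℂ)) fun θ hθ => by
    rw [hε θ (H84.mem_bset.1 hθ) k hk]; exact_mod_cast h1 θ (H84.mem_bset.1 hθ)]
  rw [Finset.sum_const, H84.card_bset, hc]; norm_num

theorem Loc4.kernel (hM : IsPModular 2 M) (h : Loc4 M u w ι)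
    (hw : HasNormalPComplement 2 (Subgroup.centralizer ({w} : Set G)))
    (h16 : ∑ χ ∈ H84.bset (principalBlock M G), (χ : G → ℂ) w * conj ((χ : G → ℂ) w) = 16)
    (k k' : K) :
    ∑ χ ∈ H84.bset (principalBlock M G), (χ : G → ℂ) (u * ι k) * conj ((χ : G → ℂ) (u * ι k')) =
      4 * ∑ θ ∈ H84.bset (principalBlock M K), (θ : K → ℂ) k * conj ((θ : K → ℂ) k') := by
  obtain ⟨Q, hQ⟩ := h.syl
  obtain ⟨hc, -, -, ε, h1, hε⟩ := klein_pkg hM Q hQ h.nn
  have hB := H84.isPBlock_principal (M := M) (G := G)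
  have hb := H84.isPBlock_principal (M := M) (G := K)
  by_cases hk : 2 ∣ orderOf k <;> by_cases hk' : 2 ∣ orderOf k'
  · rw [Finset.sum_congr rfl fun χ hχ => by
      rw [principal_of_conj_npc hM hw (h.sing k hk) (H84.mem_bset.1 hχ),
        principal_of_conj_npc hM hw (h.sing k' hk') (H84.mem_bset.1 hχ)], h16,
      Finset.sum_congr rfl fun θ hθ => by
        rw [hε θ (H84.mem_bset.1 hθ) k' hk', map_intCast, mul_comm],
      klein_kernel' hc h1 hε hk]
    norm_num
  · rw [sum_bset_mul_conj_eq_zero hM hB, sum_bset_mul_conj_eq_zero hM hb, mul_zero]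
    · rw [H35.pPart_eq_one hk', isConj_one_left]; exact (H35.pPart_ne_one_iff 2).2 hk
    · rw [h.pPart_reg hk']; exact fun hc => h.nc ((h.sing k hk).trans hc)
  · rw [sum_bset_mul_conj_eq_zero hM hB, sum_bset_mul_conj_eq_zero hM hb, mul_zero]
    · rw [H35.pPart_eq_one hk, isConj_one_right]; exact (H35.pPart_ne_one_iff 2).2 hk'
    · rw [h.pPart_reg hk]; exact fun hc => h.nc ((h.sing k' hk').trans hc.symm)
  · exact h.ker k k' hk hk'

theorem card_eq_sixteen (hM : IsPModular 2 M) (h : Loc4 M u w ι) (h' : Loc4 M v w ι')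
    (huv : ¬ IsConj u v) (hw2 : w ^ 2 = 1)
    (hw : HasNormalPComplement 2 (Subgroup.centralizer ({w} : Set G)))
    (h16 : ∑ χ ∈ H84.bset (principalBlock M G), (χ : G → ℂ) w * conj ((χ : G → ℂ) w) = 16)
    (h0 : ∀ χ ∈ principalBlock M G, (χ : G → ℂ) w ≠ 0)
    (hk : 9 ≤ Nat.card (principalBlock M G)) : Nat.card (principalBlock M G) = 16 := by
  classical
  obtain ⟨Q, hQ⟩ := h.syl
  obtain ⟨hc, -, ⟨t, ht⟩, ε, h1, hε⟩ := klein_pkg hM Q hQ h.nn
  obtain ⟨Q', hQ'⟩ := h'.syl
  obtain ⟨hc', -, ⟨t', ht'⟩, ε', h1', hε'⟩ := klein_pkg hM Q' hQ' h'.nn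
  have ht2 : 2 ∣ orderOf t := ht ▸ dvd_rfl
  have ht2' : 2 ∣ orderOf t' := ht' ▸ dvd_rfl
  have hB := H84.isPBlock_principal (M := M) (G := G)
  choose a ha using fun (θ : IrrCharacter K) (χ : IrrCharacter G) =>
    H6.gen_inner_int (h.gen χ) (H6.irr_isGen θ.2)
  choose b hb using fun (θ : IrrCharacter K') (χ : IrrCharacter G) =>
    H6.gen_inner_int (h'.gen χ) (H6.irr_isGen θ.2)
  choose T hT _ using fun χ : IrrCharacter G => int_of_sq_eq_one χ hw2
  have ker := h.kernel hM hw h16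
  have ker' := h'.kernel hM hw h16
  have gA : ∀ θ η : IrrCharacter K, ∑ χ ∈ H84.bset (principalBlock M G), a θ χ * a η χ =
      if θ ∈ principalBlock M K ∧ θ = η then 4 else 0 := by
    intro θ η
    have := gram_of_kernel _ _ _ _ ker θ η
    simp only [ha, map_intCast] at this
    split_ifs at this ⊢ <;> exact_mod_cast this
  have gB : ∀ θ η : IrrCharacter K', ∑ χ ∈ H84.bset (principalBlock M G), b θ χ * b η χ =
      if θ ∈ principalBlock M K' ∧ θ = η then 4 else 0 := by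
    intro θ η
    have := gram_of_kernel _ _ _ _ ker' θ η
    simp only [hb, map_intCast] at this
    split_ifs at this ⊢ <;> exact_mod_cast this
  have cross : ∀ (k : K) (k' : K'), ∑ χ ∈ H84.bset (principalBlock M G),
      (χ : G → ℂ) (u * ι k) * conj ((χ : G → ℂ) (v * ι' k')) =
      1 * ∑ _j ∈ ({()} : Finset Unit),
        (∑ θ ∈ H84.bset (principalBlock M K), (ε θ : ℂ) • (θ : K → ℂ)) k *
        conj ((∑ θ ∈ H84.bset (principalBlock M K'), (ε' θ : ℂ) • (θ : K' → ℂ)) k') := by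
    intro k k'
    simp only [Finset.sum_singleton, one_mul, Finset.sum_apply, Pi.smul_apply, smul_eq_mul]
    by_cases hk : 2 ∣ orderOf k <;> by_cases hk' : 2 ∣ orderOf k'
    · rw [Finset.sum_congr rfl fun χ hχ => by
        rw [principal_of_conj_npc hM hw (h.sing k hk) (H84.mem_bset.1 hχ),
          principal_of_conj_npc hM hw (h'.sing k' hk') (H84.mem_bset.1 hχ)], h16,
        klein_kernel' hc h1 hε hk, klein_kernel' hc' h1' hε' hk']
      norm_num [map_ofNat]
    · rw [klein_kernel hM hε' ht2' hk', map_zero, mul_zero, sum_bset_mul_conj_eq_zero hM hB]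
      rw [h'.pPart_reg hk']; exact fun hc => h'.nc ((h.sing k hk).trans hc)
    · rw [klein_kernel hM hε ht2 hk, zero_mul, sum_bset_mul_conj_eq_zero hM hB]
      rw [h.pPart_reg hk]; exact fun hc => h.nc ((h'.sing k' hk').trans hc.symm)
    · rw [klein_kernel hM hε ht2 hk, zero_mul, sum_bset_mul_conj_eq_zero hM hB]
      rw [h.pPart_reg hk, h'.pPart_reg hk']; exact huv
  have gAB : ∀ θ ∈ principalBlock M K, ∀ η ∈ principalBlock M K',
      ∑ χ ∈ H84.bset (principalBlock M G), a θ χ * b η χ = ε θ * ε' η := by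
    intro θ hθ η hη
    have := gram_congr _ _ _ _ _ _ _ cross θ η
    simp only [ha, hb, map_intCast, Finset.sum_singleton, one_mul, H84.inner_sum_bset, if_pos hθ,
      if_pos hη] at this
    exact_mod_cast this
  have hTA : ∀ χ ∈ H84.bset (principalBlock M G),
      T χ = ∑ θ ∈ H84.bset (principalBlock M K), ε θ * a θ χ := by
    intro χ hχ
    have := eq_sum_of_kernel _ _ _ _ ker hχ (H6.gen_isClassFunction (h.gen χ)) t
    rw [principal_of_conj_npc hM hw (h.sing t ht2) (H84.mem_bset.1 hχ), hT,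
      Finset.sum_congr rfl fun θ hθ => by rw [ha, hε θ (H84.mem_bset.1 hθ) t ht2, mul_comm]] at this
    exact_mod_cast this
  have hTB : ∀ χ ∈ H84.bset (principalBlock M G),
      T χ = ∑ θ ∈ H84.bset (principalBlock M K'), ε' θ * b θ χ := by
    intro χ hχ
    have := eq_sum_of_kernel _ _ _ _ ker' hχ (H6.gen_isClassFunction (h'.gen χ)) t'
    rw [principal_of_conj_npc hM hw (h'.sing t' ht2') (H84.mem_bset.1 hχ), hT,
      Finset.sum_congr rfl fun θ hθ => by
        rw [hb, hε' θ (H84.mem_bset.1 hθ) t' ht2', mul_comm]] at this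
    exact_mod_cast this
  have fac : ∀ (x y : ℤ) (f g : IrrCharacter G → ℤ),
      ∑ χ ∈ H84.bset (principalBlock M G), x * f χ * (y * g χ) =
        x * y * ∑ χ ∈ H84.bset (principalBlock M G), f χ * g χ := by
    intro x y f g
    rw [Finset.mul_sum]
    exact Finset.sum_congr rfl fun χ _ => by ring
  rw [← H84.card_bset] at hk ⊢
  refine lattice_sixteen _ (H84.bset (principalBlock M K)) (H84.bset (principalBlock M K'))
    (by rw [H84.card_bset, hc]) (by rw [H84.card_bset, hc'])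
    (fun θ χ => ε θ * a θ χ) (fun θ χ => ε' θ * b θ χ) T ?_ ?_ ?_ ?_ hTA hTB ?_ hk
  · intro θ hθ
    rw [fac, gA, h1 θ (H84.mem_bset.1 hθ), if_pos ⟨H84.mem_bset.1 hθ, rfl⟩]; rfl
  · intro θ _ η _ hne
    rw [fac, gA, if_neg (fun h => hne h.2), mul_zero]
  · intro θ hθ
    rw [fac, gB, h1' θ (H84.mem_bset.1 hθ), if_pos ⟨H84.mem_bset.1 hθ, rfl⟩]; rfl
  · intro θ hθ η hη
    rw [fac, gAB θ (H84.mem_bset.1 hθ) η (H84.mem_bset.1 hη)]
    linear_combination (ε' η * ε' η) * h1 θ (H84.mem_bset.1 hθ) + h1' η (H84.mem_bset.1 hη)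
  · intro χ hχ e
    apply h0 χ (H84.mem_bset.1 hχ)
    rw [hT, e, Int.cast_zero]

end Four

end H34
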