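import Mathlib
import Cfsg.Agent.Base
import Cfsg.Agent.Lib.Deg.FS4
import Cfsg.Agent.Lib.Char.Galois
import Cfsg.Agent.Lib.H85.Prin2
import Cfsg.Agent.Lib.Core.MinNormal

/-!
Characters fixed by the power map `g ↦ g ^ k` (a field automorphism) and normal subgroups.
-/

set_option autoImplicit false

namespace H34

open Cfsg H6
open scoped ComplexConjugate

set_option linter.unusedSectionVars false

universe u

section Basic
variable {G : Type*} [Group G]

theorem mem_of_pow_pow {H : Subgroup G} {g : G} {a b : ℕ} (hab : a.Coprime b) (ha : g ^ a ∈ H)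
    (hb : g ^ b ∈ H) : g ∈ H := by
  have h := Nat.gcd_eq_gcd_ab a b
  rw [hab.gcd_eq_one] at h
  have e : g = (g ^ a) ^ a.gcdA b * (g ^ b) ^ a.gcdB b := by
    rw [← zpow_natCast, ← zpow_natCast, ← zpow_mul, ← zpow_mul, ← zpow_add, ← h]; simp
  rw [e]
  exact mul_mem (zpow_mem ha _) (zpow_mem hb _)

theorem pow_eq_self_of_modEq [Finite G] {m n : ℕ} (hd : Nat.card G ∣ n) (h : m ≡ 1 [MOD n])
    (g : G) : g ^ m = g := by
  conv_rhs => rw [← pow_one g]
  rw [pow_eq_pow_iff_modEq]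
  exact h.of_dvd ((orderOf_dvd_natCard g).trans hd)

/-- The character composed with the power map. -/
noncomputable def pw [Finite G] {k : ℕ} (hk : k.Coprime (Nat.card G)) (χ : IrrCharacter G) :
    IrrCharacter G := ⟨fun g => (χ : G → ℂ) (g ^ k), H8.isIrrCharacter_pow χ.2 hk⟩

theorem pw_apply [Finite G] {k : ℕ} (hk : k.Coprime (Nat.card G)) (χ : IrrCharacter G) (g : G) :
    (pw hk χ : G → ℂ) g = (χ : G → ℂ) (g ^ k) := rfl

theorem pw_eq_iff [Finite G] {k : ℕ} (hk : k.Coprime (Nat.card G)) (χ : IrrCharacter G) :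
    pw hk χ = χ ↔ ∀ g, (χ : G → ℂ) (g ^ k) = (χ : G → ℂ) g :=
  ⟨fun h g => by rw [← pw_apply hk, h], fun h => Subtype.ext (funext h)⟩

theorem pw_iterate [Finite G] {k : ℕ} (hk : k.Coprime (Nat.card G)) (j : ℕ) (χ : IrrCharacter G)
    (g : G) : (((pw hk)^[j] χ : IrrCharacter G) : G → ℂ) g = (χ : G → ℂ) (g ^ k ^ j) := by
  induction j generalizing g with
  | zero => simp
  | succ j ih => rw [Function.iterate_succ_apply', pw_apply, ih, ← pow_mul, ← pow_succ']

theorem pw_injective [Finite G] {k : ℕ} (hk : k.Coprime (Nat.card G)) :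
    Function.Injective (pw hk) := fun χ ψ h => Subtype.ext (funext fun g => by
  obtain ⟨x, rfl⟩ := (powCoprime hk.symm).surjective g
  exact congrFun (congrArg Subtype.val h) x)

theorem inner_pow [Fintype G] {k : ℕ} (hk : k.Coprime (Nat.card G)) (φ ψ : G → ℂ) :
    classInner (fun g => φ (g ^ k)) (fun g => ψ (g ^ k)) = classInner φ ψ :=
  classInner_comp_equiv (powCoprime hk.symm) φ ψ

theorem coprime_sub [Finite G] {k : ℕ} (hk : k.Coprime (Nat.card G)) (H : Subgroup G) :
    k.Coprime (Nat.card H) := hk.coprime_dvd_right H.card_subgroup_dvd_card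

theorem inner_res_pow [Finite G] {k : ℕ} (hk : k.Coprime (Nat.card G)) (H : Subgroup G)
    [Fintype H] (χ : G → ℂ) (θ : H → ℂ) :
    classInner (fun n : H => χ (n ^ k)) (fun n => θ (n ^ k)) =
      classInner (fun n : H => χ n) θ := by
  rw [← inner_pow (coprime_sub hk H) (fun n : H => χ n) θ]; rfl

theorem sum_reg_pow [Fintype G] {p k : ℕ} (hk : k.Coprime (Nat.card G)) (χ : G → ℂ) :
    ∑ g, pRegularPart p (fun g => χ (g ^ k)) g = ∑ g, pRegularPart p χ g := by
  rw [← Equiv.sum_comp (powCoprime hk.symm) (pRegularPart p χ)]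
  refine Finset.sum_congr rfl fun g _ => ?_
  have : orderOf (g ^ k) = orderOf g :=
    (hk.symm.coprime_dvd_left (orderOf_dvd_natCard g)).orderOf_pow
  rw [H84.reg_apply, H84.reg_apply, powCoprime_apply, this]

theorem pw_mem_prin [Finite G] {p : ℕ} [Fact p.Prime] {M : Ideal AlgInt} (hM : IsPModular p M)
    {k : ℕ} (hk : k.Coprime (Nat.card G)) {χ : IrrCharacter G} :
    pw hk χ ∈ principalBlock M G ↔ χ ∈ principalBlock M G := by
  haveI := Fintype.ofFinite G
  rw [H85.mem_prin_iff hM, H85.mem_prin_iff hM, ← sum_reg_pow hk (χ : G → ℂ)]; rfl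

/-- A set of characters stable under a power map of `p`-power order, of size prime to `p`,
contains a fixed character. -/
theorem exists_fixed [Finite G] {p : ℕ} [Fact p.Prime] {k e : ℕ} (hk : k.Coprime (Nat.card G))
    (hke : k ^ p ^ e ≡ 1 [MOD Nat.card G]) (X : Set (IrrCharacter G))
    (hX : ∀ χ ∈ X, pw hk χ ∈ X) (hc : ¬ p ∣ Nat.card X) :
    ∃ χ ∈ X, ∀ g, (χ : G → ℂ) (g ^ k) = (χ : G → ℂ) g := by
  classical
  haveI := Fintype.ofFinite G
  haveI := Fintype.ofFinite X
  let f : X → X := fun χ => ⟨pw hk χ, hX _ χ.2⟩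
  have hf : Function.Injective f := fun a b h =>
    Subtype.ext (pw_injective hk (congrArg Subtype.val h))
  let σ : Equiv.Perm X := Equiv.ofBijective f (Finite.injective_iff_bijective.1 hf)
  have hit : ∀ (j : ℕ) (χ : X), (((σ ^ j) χ : X) : IrrCharacter G) = (pw hk)^[j] χ := by
    intro j
    induction j with
    | zero => intro χ; rfl
    | succ j ih =>
      intro χ
      rw [pow_succ', Equiv.Perm.mul_apply, Function.iterate_succ_apply', ← ih]; rfl
  have hσ : σ ^ p ^ e = 1 := by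
    ext χ g
    rw [hit, pw_iterate, pow_eq_self_of_modEq dvd_rfl hke]; rfl
  obtain ⟨χ, hχ⟩ := Equiv.Perm.exists_fixed_point_of_prime (p := p)
    (by rwa [← Nat.card_eq_fintype_card]) hσ
  exact ⟨χ, χ.2, (pw_eq_iff hk _).1 (congrArg Subtype.val hχ)⟩

end Basic

section Normal
variable {G : Type*} [Group G] [Finite G] {N : Subgroup G} [hN : N.Normal]

theorem conjChar_pow_fixed {k : ℕ} {θ : N → ℂ} (hθ : ∀ n, θ (n ^ k) = θ n) (g : G) (n : N) :
    H7.conjChar g θ (n ^ k) = H7.conjChar g θ n := by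
  rw [H7.conjChar_eq_comp]
  simp only [map_pow, hθ]

/-- Constituents of a fixed character on a normal subgroup of index prime to `p` are fixed. -/
theorem under_fixed {p : ℕ} [Fact p.Prime] (hidx : ¬ p ∣ N.index) {k e : ℕ}
    (hk : k.Coprime (Nat.card G)) (hke : k ^ p ^ e ≡ 1 [MOD Nat.card G]) {χ : G → ℂ}
    (hχi : IsIrrCharacter G χ) (hχ : ∀ g, χ (g ^ k) = χ g) {θ : N → ℂ}
    (hθi : IsIrrCharacter N θ) (ho : H87.Over N χ θ) (n : N) : θ (n ^ k) = θ n := by
  haveI := Fintype.ofFinite N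
  have ho' : H87.Over N χ (fun n => θ (n ^ k)) := by
    rw [H87.over_iff] at ho ⊢
    rw [← inner_res_pow hk N] at ho
    simpa only [hχ] using ho
  obtain ⟨g, hg⟩ := ho.exists_conj ho' hχi hθi (H8.isIrrCharacter_pow hθi (coprime_sub hk N))
  have h1 : ∀ (j : ℕ) (n : N), θ (n ^ k ^ j) = H7.conjChar (g ^ j) θ n := by
    intro j
    induction j with
    | zero => intro n; simp [H7.conjChar_one]
    | succ j ih =>
      intro n
      rw [pow_succ, pow_mul, congrFun hg, H7.conjChar_eq_comp, pow_succ, H7.conjChar_mul,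
        H7.conjChar_eq_comp g]
      simp only [map_pow, ih]
  have h2 : g ^ p ^ e ∈ H7.inertia θ := H7.mem_inertia.2 (funext fun n => by
    rw [← h1, pow_eq_self_of_modEq N.card_subgroup_dvd_card hke])
  have h3 : g ^ N.index ∈ H7.inertia θ :=
    H7.le_inertia (irr_isClassFunction hθi) (N.pow_index_mem g)
  have h4 := mem_of_pow_pow
    (Nat.Coprime.pow_left e (((Fact.out : p.Prime).coprime_iff_not_dvd).2 hidx)) h2 h3
  rw [congrFun hg, H7.mem_inertia.1 h4]

theorem quot_pow_eq_inv (hodd : Odd N.index) {k : ℕ}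
    (hk₂ : ∀ g : G, Odd (orderOf g) → g ^ k = g⁻¹) (g : G) :
    ((g ^ k : G) : G ⧸ N) = ((g : G ⧸ N))⁻¹ := by
  haveI : Fact (Nat.Prime 2) := ⟨Nat.prime_two⟩
  have h1 : H35.pPart 2 g ∈ N := by
    obtain ⟨j, hj⟩ := H35.isPElt_pPart 2 g
    exact mem_of_pow_pow (a := 2 ^ j) (b := N.index)
      (Nat.Coprime.pow_left j ((Nat.coprime_two_left).2 hodd)) (by rw [← hj, pow_orderOf_eq_one]; exact one_mem _)
      (N.pow_index_mem _)
  have h2 : (g : G ⧸ N) = (H35.pReg 2 g : G) := by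
    conv_lhs => rw [← H35.pPart_mul_pReg 2 g]
    rw [QuotientGroup.mk_mul, (QuotientGroup.eq_one_iff _).2 h1, one_mul]
  rw [QuotientGroup.mk_pow, h2, ← QuotientGroup.mk_pow, hk₂, QuotientGroup.mk_inv]
  rw [← Nat.not_even_iff_odd, even_iff_two_dvd]
  exact H35.not_dvd_orderOf_pReg 2 g

open Classical in
/-- Over a fixed character of a normal subgroup of odd index there is exactly one fixed one. -/
theorem card_fixed_over [Fintype G] (hodd : Odd N.index) {k : ℕ} (hk : k.Coprime (Nat.card G))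
    (hk₂ : ∀ g : G, Odd (orderOf g) → g ^ k = g⁻¹) {φ : N → ℂ} (hφ : IsIrrCharacter N φ)
    (hr : ∀ n, φ (n ^ k) = φ n) :
    (Finset.univ.filter (fun χ : IrrCharacter G => H87.Over N χ φ ∧ pw hk χ = χ)).card = 1 := by
  have := Fintype.ofFinite N
  have h1 : ∑ χ ∈ Finset.univ.filter (fun χ : IrrCharacter G => H87.Over N χ φ),
      ∑ g, (χ : G → ℂ) (g ^ k) * conj ((χ : G → ℂ) g) = Nat.card G *
      (Finset.univ.filter (fun χ : IrrCharacter G => H87.Over N χ φ ∧ pw hk χ = χ)).card := by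
    rw [← Finset.filter_filter, Finset.card_filter, Nat.cast_sum, Finset.mul_sum]
    refine Finset.sum_congr rfl fun χ _ => ?_
    have := irr_inner' (pw hk χ) χ
    rw [← card_mul_classInner (fun g => (χ : G → ℂ) (g ^ k))]
    congr 1
    refine this.trans ?_
    split_ifs <;> simp
  have hΦ : ∀ n, H7.conjSum φ (n ^ k) = H7.conjSum φ n := fun n => by
    rw [H7.conjSum_def, Finset.sum_apply, Finset.sum_apply]
    refine Finset.sum_congr rfl fun ψ hψ => ?_
    obtain ⟨g, rfl⟩ := H7.mem_conjOrbit.1 hψ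
    exact conjChar_pow_fixed hr g n
  have h2 : ∑ χ ∈ Finset.univ.filter (fun χ : IrrCharacter G => H87.Over N χ φ),
      ∑ g, (χ : G → ℂ) (g ^ k) * conj ((χ : G → ℂ) g) = Nat.card G := by
    rw [Finset.sum_comm, ← Finset.sum_filter_add_sum_filter_not _ (· ∈ N),
      Finset.sum_eq_zero (s := Finset.univ.filter (¬ · ∈ N)), add_zero,
      Finset.sum_subtype (F := this) (p := (· ∈ N)) _ (by simp), Finset.sum_comm]
    · have e : ∀ χ ∈ Finset.univ.filter (fun χ : IrrCharacter G => H87.Over N χ φ),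
          ∑ n : N, (χ : G → ℂ) (n ^ k) * conj ((χ : G → ℂ) n) =
            classInner (fun n : N => (χ : G → ℂ) n) φ ^ 2 *
            (Nat.card N * (H7.inertia φ).index) := fun χ hχ => by
        have ho := H87.over_iff.1 (Finset.mem_filter.1 hχ).2
        have h := H7.clifford χ.2 hφ ho
        obtain ⟨m, hm⟩ := char_inner_nat (isCharacter_restrict N (irr_isCharacter χ.2))
          (irr_isCharacter hφ)
        rw [← H7.classInner_conjSum_self hφ, card_mul_classInner, Finset.mul_sum]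
        refine Finset.sum_congr rfl fun n _ => ?_
        have a := congrFun h (n ^ k)
        rw [Subgroup.coe_pow] at a
        rw [a, congrFun h n, Pi.smul_apply, Pi.smul_apply, hΦ, smul_eq_mul, hm, map_mul,
          Complex.conj_natCast]
        ring
      rw [Finset.sum_congr rfl e, ← Finset.sum_mul, Finset.sum_filter_of_ne,
        H87.sum_over_inner_sq hφ, ← mul_assoc]
      · have hle : N ≤ H7.inertia φ := H7.le_inertia (irr_isClassFunction hφ)
        rw [← (H7.inertia φ).card_mul_index, ← (N.subgroupOf (H7.inertia φ)).index_mul_card,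
          Nat.card_congr (Subgroup.subgroupOfEquivOfLe hle).toEquiv, Subgroup.relIndex]
        push_cast; rfl
      · intro χ _ h
        exact H87.over_iff.2 fun h0 => h (by rw [h0]; simp)
    · intro g hg
      have hc : ¬ IsConj ((g ^ k : G) : G ⧸ N) (g : G ⧸ N) := fun hc => by
        rw [quot_pow_eq_inv hodd hk₂] at hc
        exact (Finset.mem_filter.1 hg).2 ((QuotientGroup.eq_one_iff g).1
          (H87.eq_one_of_isConj_inv_of_odd hodd hc.symm))
      exact H87.sum_over_mul_conj_eq_zero hφ hc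
  have := mul_left_cancel₀ card_ne_zero (h1.symm.trans (h2.trans (mul_one _).symm))
  exact_mod_cast this

theorem existsUnique_fixed_over (hodd : Odd N.index) {k : ℕ} (hk : k.Coprime (Nat.card G))
    (hk₂ : ∀ g : G, Odd (orderOf g) → g ^ k = g⁻¹) {φ : N → ℂ} (hφ : IsIrrCharacter N φ)
    (hr : ∀ n, φ (n ^ k) = φ n) :
    ∃! χ : IrrCharacter G, H87.Over N χ φ ∧ ∀ g, (χ : G → ℂ) (g ^ k) = (χ : G → ℂ) g := by
  classical
  haveI := Fintype.ofFinite G
  obtain ⟨χ, hχ⟩ := Finset.card_eq_one.1 (card_fixed_over hodd hk hk₂ hφ hr)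
  have hmem : ∀ ψ : IrrCharacter G, (H87.Over N ψ φ ∧
      ∀ g, (ψ : G → ℂ) (g ^ k) = (ψ : G → ℂ) g) ↔ ψ = χ := fun ψ => by
    rw [← Finset.mem_singleton, ← hχ, ← pw_eq_iff hk]; simp
  exact ⟨χ, (hmem χ).2 rfl, fun ψ hψ => (hmem ψ).1 hψ⟩

/-- The number of members of the principal block over a member of the principal block of a
normal subgroup of odd index is odd. -/
theorem odd_card_prin_over {M : Ideal AlgInt} (hM : IsPModular 2 M) (hodd : Odd N.index)
    {θ : IrrCharacter N} (hθ : θ ∈ principalBlock M N) :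
    ¬ 2 ∣ Nat.card {χ : IrrCharacter G | χ ∈ principalBlock M G ∧ H87.Over N χ θ} := by
  classical
  haveI : Fact (Nat.Prime 2) := ⟨Nat.prime_two⟩
  haveI := hM.2.1
  haveI := Fintype.ofFinite G
  haveI := Fintype.ofFinite N
  haveI := H33.charP hM
  obtain ⟨P⟩ := (Sylow.nonempty : Nonempty (Sylow 2 G))
  obtain ⟨Q⟩ := (Sylow.nonempty : Nonempty (Sylow 2 N))
  let f : G → ℂ := pRegularPart 2 (fun _ => 1)
  have hf : IsClassFunction G f := H84.isClassFunction_reg fun _ _ => rfl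
  have hs : ∀ {K : Type _} [Group K] [Fintype K] (ψ : K → ℂ),
      (Nat.card K : ℂ) * classInner ψ (pRegularPart 2 fun _ => 1) = ∑ g, pRegularPart 2 ψ g := by
    intro K _ _ ψ
    rw [card_mul_classInner]
    refine Finset.sum_congr rfl fun g _ => ?_
    rw [H84.reg_apply, H84.reg_apply]
    split_ifs <;> simp
  have e1 : (Nat.card G : ℂ) * classInner (indFun N θ) f =
      N.index * ∑ n, pRegularPart 2 (θ : N → ℂ) n := by
    rw [H7.classInner_indFun_left N _ hf, ← hs, ← N.index_mul_card, Nat.cast_mul, mul_assoc]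
    congr 3
    funext n
    simp only [f, H84.reg_apply, Subgroup.orderOf_coe]
  have e2 : (Nat.card G : ℂ) * classInner (indFun N θ) f =
      ∑ χ : IrrCharacter G, classInner (indFun N θ) χ * ∑ g, pRegularPart 2 (χ : G → ℂ) g := by
    conv_lhs => rw [classFun_eq_sum_irr (H7.isClassFunction_indFun N (θ : N → ℂ))]
    rw [classInner_sum_left, Finset.mul_sum]
    refine Finset.sum_congr rfl fun χ _ => ?_
    rw [classInner_smul_left, ← hs]; ring
  have hθ1 := irr_one_ne_zero θ.2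
  have e3 : ∀ χ : IrrCharacter G, classInner (indFun N θ) χ *
      (∑ g, pRegularPart 2 (χ : G → ℂ) g) / (θ : N → ℂ) 1 ∈ H33.O M ∧
      H33.red M (classInner (indFun N θ) χ * (∑ g, pRegularPart 2 (χ : G → ℂ) g) /
        (θ : N → ℂ) 1) = if χ ∈ principalBlock M G ∧ H87.Over N χ θ then
          (Nat.card (H85.sylO P) : H33.F M) else 0 := by
    intro χ
    split_ifs with h
    · obtain ⟨m, hm0, hm, -⟩ := H7.clifford_nat χ.2 θ.2 (H87.over_iff.1 h.2)
      obtain ⟨a, ha, hdv⟩ := h.2.exists_deg_eq χ.2 θ.2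
      have hd := H7.clifford_degree χ.2 θ.2 (H87.over_iff.1 h.2)
      rw [hm, ← H87.deg_cast', ha, ← H87.deg_cast'] at hd
      have hd' : a * charDegree (θ : N → ℂ) =
          m * (H7.inertia (θ : N → ℂ)).index * charDegree (θ : N → ℂ) := by exact_mod_cast hd
      have ham := Nat.eq_of_mul_eq_mul_right (H87.deg_pos θ.2) hd'
      have hao : Odd a := hodd.of_dvd_nat hdv
      have hmo : Odd m := hao.of_dvd_nat ⟨_, ham⟩
      have hr := H85.red_sum_reg_div hM P h.1
      have hc : (Nat.card (H85.sylO P) : H33.F M) ≠ 0 := by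
        rw [Ne, H33.natCast_F_eq_zero_iff hM]; exact H85.not_dvd_card_sylO P
      have hO := H33.mem_O_of_red_ne_zero (hr ▸ hc)
      have e : classInner (indFun N θ) χ * (∑ g, pRegularPart 2 (χ : G → ℂ) g) /
          (θ : N → ℂ) 1 = ((m * a : ℕ) : ℂ) *
            ((∑ g, pRegularPart 2 (χ : G → ℂ) g) / (χ : G → ℂ) 1) := by
        rw [H7.inner_indFun_eq_inner_res N (irr_isGen θ.2) (irr_isGen χ.2), hm,
          ← H87.deg_cast' χ, ha, Nat.cast_mul a, H87.deg_cast']
        have : (a : ℂ) ≠ 0 := by exact_mod_cast hao.pos.ne'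
        push_cast; field_simp
      rw [e]
      refine ⟨mul_mem (natCast_mem _ _) hO, ?_⟩
      rw [H33.red_mul (natCast_mem _ _) hO, hr, H33.red_natCast]
      obtain ⟨j, hj⟩ := hmo.mul hao
      rw [hj]
      simp [CharTwo.two_eq_zero]
    · have : classInner (indFun N θ) χ * (∑ g, pRegularPart 2 (χ : G → ℂ) g) = 0 := by
        rw [not_and_or] at h
        rcases h with h | h
        · rw [H85.mem_prin_iff hM, not_not] at h
          rw [h, mul_zero]
        · rw [mul_eq_zero]; left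
          by_contra h0
          exact h (H87.over_of_inner_indFun (irr_isClassFunction χ.2) h0)
      rw [this, zero_div]
      exact ⟨zero_mem _, H33.red_zero M⟩
  have e4 := congrArg (fun z => H33.red M (z / (θ : N → ℂ) 1)) (e1.symm.trans e2)
  have hr := H85.red_sum_reg_div hM Q hθ
  have hc : (Nat.card (H85.sylO Q) : H33.F M) ≠ 0 := by
    rw [Ne, H33.natCast_F_eq_zero_iff hM]; exact H85.not_dvd_card_sylO Q
  rw [Finset.sum_div, H33.red_sum _ (fun χ _ => (e3 χ).1), Finset.sum_congr rfl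
    (fun χ _ => (e3 χ).2), mul_div_assoc, H33.red_mul (natCast_mem _ _)
    (H33.mem_O_of_red_ne_zero (hr ▸ hc)), hr, H33.red_natCast, ← Finset.sum_filter,
    Finset.sum_const, nsmul_eq_mul] at e4
  intro h2
  rw [Nat.card_coe_set_eq, Set.ncard_eq_toFinset_card', Set.toFinset_setOf,
    ← H33.natCast_F_eq_zero_iff hM] at h2
  rw [h2, zero_mul] at e4
  refine mul_ne_zero ?_ hc e4
  rw [Ne, H33.natCast_F_eq_zero_iff hM, ← even_iff_two_dvd, Nat.not_even_iff_odd]
  exact hodd

theorem exists_fixed_prin_over {M : Ideal AlgInt} (hM : IsPModular 2 M) (hodd : Odd N.index)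
    {k e : ℕ} (hk : k.Coprime (Nat.card G)) (hke : k ^ 2 ^ e ≡ 1 [MOD Nat.card G])
    {θ : IrrCharacter N} (hθ : θ ∈ principalBlock M N)
    (hr : ∀ n, (θ : N → ℂ) (n ^ k) = (θ : N → ℂ) n) :
    ∃ χ : IrrCharacter G, χ ∈ principalBlock M G ∧ H87.Over N χ θ ∧
      ∀ g, (χ : G → ℂ) (g ^ k) = (χ : G → ℂ) g := by
  haveI : Fact (Nat.Prime 2) := ⟨Nat.prime_two⟩
  haveI := Fintype.ofFinite N
  obtain ⟨χ, hχ, h⟩ := exists_fixed hk hke
    {χ : IrrCharacter G | χ ∈ principalBlock M G ∧ H87.Over N χ θ} (fun χ hχ => ⟨(pw_mem_prin hM hk).2 hχ.1, by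
    have := H87.over_iff.1 hχ.2
    rw [← inner_res_pow hk N] at this
    simp only [hr] at this
    exact H87.over_iff.2 this⟩) (odd_card_prin_over hM hodd hθ)
  exact ⟨χ, hχ.1, hχ.2, h⟩

theorem fixed_mem_prin_iff {M : Ideal AlgInt} (hM : IsPModular 2 M) (hodd : Odd N.index)
    {k e : ℕ} (hk : k.Coprime (Nat.card G)) (hke : k ^ 2 ^ e ≡ 1 [MOD Nat.card G])
    (hk₂ : ∀ g : G, Odd (orderOf g) → g ^ k = g⁻¹) {θ : IrrCharacter N}
    (hr : ∀ n, (θ : N → ℂ) (n ^ k) = (θ : N → ℂ) n) {χ : IrrCharacter G}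
    (hχ : ∀ g, (χ : G → ℂ) (g ^ k) = (χ : G → ℂ) g) (ho : H87.Over N χ θ) :
    χ ∈ principalBlock M G ↔ θ ∈ principalBlock M N := by
  haveI : Fact (Nat.Prime 2) := ⟨Nat.prime_two⟩
  haveI := Fintype.ofFinite N
  refine ⟨fun h => H85.mem_prin_of_over hM h θ (H87.over_iff.1 ho), fun h => ?_⟩
  obtain ⟨ψ, h1, h2, h3⟩ := exists_fixed_prin_over hM hodd hk hke h hr
  rwa [(existsUnique_fixed_over hodd hk hk₂ θ.2 hr).unique ⟨ho, hχ⟩ ⟨h2, h3⟩]

end Normal

/-- The fixed character over an invariant fixed character is an extension (solvable quotient). -/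
theorem res_eq_of_fixed {k e : ℕ} (m : ℕ) : ∀ {G : Type u} [Group G] [Finite G] (N : Subgroup G)
    [N.Normal], Nat.card G = m → Group.IsSolvable (G ⧸ N) → Odd N.index →
    k.Coprime (Nat.card G) → k ^ 2 ^ e ≡ 1 [MOD Nat.card G] →
    (∀ g : G, Odd (orderOf g) → g ^ k = g⁻¹) → ∀ {θ : N → ℂ}, IsIrrCharacter N θ →
    (∀ n, θ (n ^ k) = θ n) → H7.inertia θ = ⊤ → ∀ {χ : G → ℂ}, IsIrrCharacter G χ →
    (∀ g, χ (g ^ k) = χ g) → H87.Over N χ θ → charDegree χ = charDegree θ := by
  induction m using Nat.strong_induction_on with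
  | _ m ih =>
  intro G _ _ N _ hm hs hodd hk hke hk₂ θ hθ hr hinv χ hχ hχr ho
  haveI : Fact (Nat.Prime 2) := ⟨Nat.prime_two⟩
  haveI := Fintype.ofFinite G
  haveI := Fintype.ofFinite N
  by_cases hN : N = ⊤
  · obtain ⟨a, ha, hd⟩ := ho.exists_deg_eq hχ hθ
    rw [hN, Subgroup.index_top, Nat.dvd_one] at hd
    rw [ha, hd, one_mul]
  obtain ⟨L, hLn, hNL, hp⟩ := H3.exists_normal_prime_index_ge N hN hs
  haveI := Fintype.ofFinite L
  haveI := Fintype.ofFinite (N.subgroupOf L)
  have hLo : Odd L.index := hodd.of_dvd_nat (Subgroup.index_dvd_of_le hNL)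
  have hodd' : Odd (N.subgroupOf L).index :=
    hodd.of_dvd_nat ⟨_, (Subgroup.relIndex_mul_index hNL).symm⟩
  have hk' := coprime_sub hk L
  have hk₂' : ∀ g : L, Odd (orderOf g) → g ^ k = g⁻¹ := fun g hg =>
    Subtype.ext (hk₂ g (by rwa [Subgroup.orderOf_coe]))
  let θ' : N.subgroupOf L → ℂ := fun x => θ ⟨(x : L), Subgroup.mem_subgroupOf.mp x.2⟩
  have hθ' : IsIrrCharacter _ θ' := H7.isIrr_subgroupOf hNL hθ
  have hr' : ∀ n, θ' (n ^ k) = θ' n := fun n => hr ⟨(n : L), Subgroup.mem_subgroupOf.mp n.2⟩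
  have hinv' : H7.inertia θ' = ⊤ := H7.inertia_eq_top_iff.2 fun g n =>
    H7.inertia_eq_top_iff.1 hinv g ⟨(n : L), Subgroup.mem_subgroupOf.mp n.2⟩
  -- every constituent on `L` lies over `θ'` and is fixed
  have key : ∀ η, IsIrrCharacter L η → H87.Over L χ η →
      H87.Over (N.subgroupOf L) η θ' ∧ ∀ x, η (x ^ k) = η x := by
    intro η hη hoη
    refine ⟨?_, under_fixed (p := 2) (by rwa [← even_iff_two_dvd, Nat.not_even_iff_odd]) hk hke
      hχ hχr hη hoη⟩
    obtain ⟨φ, hφ, hoφ⟩ := H87.exists_under hη (N.subgroupOf L)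
    have hφ' := H7.isIrr_of_subgroupOf hNL hφ
    have h1 : H87.Over N χ fun x : N => φ ⟨⟨x, hNL x.2⟩, x.2⟩ := by
      refine hoη.trans hNL ?_ (irr_isCharacter hχ) hη (irr_isCharacter hφ')
      have := H87.over_iff.1 hoφ
      have e := H7.classInner_subgroupOf hNL (fun x : N => η ⟨x, hNL x.2⟩)
        (fun x : N => φ ⟨⟨x, hNL x.2⟩, x.2⟩)
      rw [finsum_eq_sum_of_fintype, ← card_mul_classInner, ← e]
      exact mul_ne_zero card_ne_zero this
    obtain ⟨g, hg⟩ := ho.exists_conj h1 hχ hθ hφ'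
    rw [H7.mem_inertia.1 (hinv ▸ Subgroup.mem_top g)] at hg
    have : θ' = φ := funext fun x => (congrFun hg _).symm
    rwa [this]
  obtain ⟨η, hη, hoη⟩ := H87.exists_under hχ L
  have hηi : H7.inertia η = ⊤ := by
    rw [eq_top_iff]
    intro g _
    have a := key _ (H7.isIrr_conjChar g hη) (hoη.conjChar (irr_isClassFunction hχ) g)
    have b := (existsUnique_fixed_over hodd' hk' hk₂' hθ' hr').unique
      (y₁ := ⟨_, H7.isIrr_conjChar g hη⟩) (y₂ := ⟨η, hη⟩) a (key η hη hoη)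
    exact H7.mem_inertia.2 (congrArg Subtype.val b)
  haveI : Fact L.index.Prime := ⟨hp⟩
  have hcyc : IsCyclic (G ⧸ L) := isCyclic_of_prime_card (Subgroup.index_eq_card L).symm
  rw [hoη.deg_eq_of_isCyclic hcyc hη hχ, hηi, Subgroup.index_top, one_mul]
  have hlt : Nat.card L < m := by
    rw [← hm, ← L.index_mul_card]
    exact lt_mul_left Nat.card_pos hp.one_lt
  have hs' : Group.IsSolvable (L ⧸ N.subgroupOf L) := by
    refine Group.isSolvable_of_isSolvable_injective
      (f := QuotientGroup.map _ N L.subtype fun _ h => h) ?_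
    rw [injective_iff_map_eq_one]
    intro q hq
    obtain ⟨x, rfl⟩ := QuotientGroup.mk_surjective q
    exact (QuotientGroup.eq_one_iff _).2 ((QuotientGroup.eq_one_iff (N := N) (x : G)).1 hq)
  exact ih _ hlt (N.subgroupOf L) rfl hs' hodd' hk' (hke.of_dvd L.card_subgroup_dvd_card) hk₂'
    hθ' hr' hinv' hη (key η hη hoη).2 (key η hη hoη).1

end H34
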