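import Mathlib
import Cfsg.Agent.Base
import Cfsg.Agent.Lib.Blk86.IBr
import Cfsg.Agent.Lib.Block.GalFix
import Cfsg.Agent.Lib.Block.Subsec
import Cfsg.Agent.Lib.Block.HeightBF
import Cfsg.Agent.Lib.H85.Prin4

/-!
Duals of irreducible Brauer characters; a real `2`-block has a real irreducible Brauer character;
the number of characters of a block fixed by `u s ↦ u s⁻¹`.
-/

set_option autoImplicit false

namespace H34

open Cfsg H33 H6
open H64.MR (Wedd)
open scoped ComplexConjugate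

set_option linter.unusedSectionVars false

section Dual
variable {G : Type*} [Group G] [Finite G] {M : Ideal AlgInt} [M.IsMaximal]

/-- The anti-automorphism `g ↦ g⁻¹` of the group algebra. -/
noncomputable def aInv (x : MonoidAlgebra ℂ G) : MonoidAlgebra ℂ G := mk fun g => x.coeff g⁻¹

theorem aInv_mul (x y : MonoidAlgebra ℂ G) : aInv (x * y) = aInv y * aInv x := by
  haveI := Fintype.ofFinite G
  refine alg_ext fun g => ?_
  rw [aInv, coeff_mk, coeff_mul_sum, coeff_mul_sum', ← Equiv.sum_comp (Equiv.inv G)]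
  refine Finset.sum_congr rfl fun h _ => ?_
  simp only [aInv, coeff_mk, Equiv.inv_apply, inv_inv, mul_inv_rev]
  ring

theorem aInv_mem {x : MonoidAlgebra ℂ G} (hx : x ∈ OG M G) : aInv x ∈ OG M G :=
  mk_mem_OG fun _ => mem_OG.1 hx _

theorem chiL_aInv (θ : G → ℂ) (x : MonoidAlgebra ℂ G) :
    chiL θ (aInv x) = chiL (fun g => θ g⁻¹) x := by
  haveI := Fintype.ofFinite G
  rw [chiL_apply, chiL_apply, ← Equiv.sum_comp (Equiv.inv G)]
  simp [aInv]

theorem isClassFunction_inv {θ : G → ℂ} (h : IsClassFunction G θ) :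
    IsClassFunction G fun g => θ g⁻¹ := fun g x => by
  have := h g⁻¹ x
  simpa [mul_assoc] using this

theorem reg_inv (p : ℕ) (θ : G → ℂ) :
    pRegularPart p (fun g => θ g⁻¹) = fun g => pRegularPart p θ g⁻¹ := by
  funext g
  simp only [H84.reg_apply, orderOf_inv]

variable {p : ℕ} [Fact p.Prime] (W : Wedd (F M) G)

/-- The dual of an irreducible Brauer character is an irreducible Brauer character. -/
theorem exists_phi_inv (hM : IsPModular p M) (j : Fin W.n) :
    ∃ k, (fun g => H86.phi p W j g⁻¹) = H86.phi p W k := by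
  classical
  have hr : ∀ j k, ∃ n : ℕ, chiL (fun g => H86.phi p W j g⁻¹) (H86.ide W k) = n := fun j k => by
    rw [← chiL_aInv]
    exact H86.chiL_phi_nat hM j (aInv_mem (H86.ide_mem k)) (by rw [← aInv_mul, H86.ide_idem])
  choose r hr using hr
  have h1 : ∀ j, (fun g => H86.phi p W j g⁻¹) = ∑ k, (r j k : ℂ) • H86.phi p W k := fun j => by
    have := H86.reg_eq_sum_phi W hM (isClassFunction_inv (H86.phi_class (W := W) hM j))
    rw [reg_inv, H86.reg_phi hM] at this
    simpa only [hr] using this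
  have hd : ∀ j, W.d j = ∑ k, r j k * W.d k := fun j => by
    have := congrFun (h1 j) 1
    simp only [inv_one, Finset.sum_apply, Pi.smul_apply, smul_eq_mul, H86.phi_one hM] at this
    exact_mod_cast this
  have h2 : ∑ k, r j k * r k j = 1 := by
    have a : H86.phi p W j = ∑ k, (r j k : ℂ) • fun g => H86.phi p W k g⁻¹ := by
      funext g
      have := congrFun (h1 j) g⁻¹
      simpa using this
    have b := H86.chiL_phi_ide (W := W) hM j j
    rw [a, chiL_sum_fun, if_pos rfl] at b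
    simp only [chiL_smul_fun, hr] at b
    exact_mod_cast b
  obtain ⟨k, -, hk⟩ := Finset.exists_ne_zero_of_sum_ne_zero (h2 ▸ one_ne_zero)
  have hle : ∀ a b, r a b ≠ 0 → r a b * W.d b ≤ W.d a := fun a b _ => by
    rw [hd a]
    exact Finset.single_le_sum (f := fun k => r a k * W.d k) (fun _ _ => Nat.zero_le _)
      (Finset.mem_univ b)
  have a1 := hle j k (left_ne_zero_of_mul hk)
  have a2 := hle k j (right_ne_zero_of_mul hk)
  have p1 := Nat.pos_of_ne_zero (left_ne_zero_of_mul hk)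
  have p2 := Nat.pos_of_ne_zero (right_ne_zero_of_mul hk)
  have pd := Nat.pos_of_ne_zero (W.d_ne k)
  have a3 : W.d j ≤ W.d k := le_trans (Nat.le_mul_of_pos_left _ p2) a2
  have a4 : r j k = 1 := by nlinarith
  have a5 : ∑ l ∈ Finset.univ.erase k, r j l * W.d l = 0 := by
    have := hd j
    rw [← Finset.add_sum_erase _ _ (Finset.mem_univ k), a4] at this
    rw [a4] at a1
    omega
  refine ⟨k, ?_⟩
  rw [h1, Finset.sum_eq_single k, a4, Nat.cast_one, one_smul]
  · intro l _ hl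
    have := Finset.sum_eq_zero_iff.1 a5 l (by simpa using hl)
    rw [(Nat.mul_eq_zero.1 this).resolve_right (W.d_ne l), Nat.cast_zero, zero_smul]
  · simp

theorem dec_conj {G : Type*} [Group G] [Fintype G] (W : Wedd (F M) G) (hM : IsPModular p M)
    {τ : Fin W.n → Fin W.n}
    (hτ : ∀ j, (fun g => H86.phi p W j g⁻¹) = H86.phi p W (τ j)) (χ : IrrCharacter G)
    (j : Fin W.n) : H86.dec W (H87.irrConj χ) (τ j) = H86.dec W χ j := by
  classical
  have hinj : Function.Injective τ := fun a b h => by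
    have e : (fun g => H86.phi p W a g⁻¹) = fun g => H86.phi p W b g⁻¹ := by rw [hτ, hτ, h]
    refine (H86.linearIndependent_phi (W := W) hM).injective (funext fun g => ?_)
    simpa using congrFun e g⁻¹
  have a : pRegularPart p (H87.irrConj χ : G → ℂ) =
      ∑ k, (H86.dec W χ k : ℂ) • H86.phi p W (τ k) := by
    have : (H87.irrConj χ : G → ℂ) = fun g => (χ : G → ℂ) g⁻¹ :=
      funext fun g => (char_inv (irr_isCharacter χ.2) g).symm
    rw [this, reg_inv, H86.reg_irr_eq_sum W hM]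
    funext g
    simp only [Finset.sum_apply, Pi.smul_apply, ← hτ]
  have b := congrArg (fun θ => chiL θ (H86.ide W (τ j))) (a.symm.trans (H86.reg_irr_eq_sum W hM _))
  simp only [chiL_sum_fun, chiL_smul_fun, H86.chiL_phi_ide hM, hinj.eq_iff, mul_ite, mul_one,
    mul_zero, Finset.sum_ite_eq', Finset.mem_univ, if_true] at b
  exact_mod_cast b.symm

omit W in
/-- The trace of complex conjugation on the regular parts of the characters in `b`. -/
noncomputable def trc (p : ℕ) {G : Type*} [Group G] [Fintype G] (b : Set (IrrCharacter G)) : ℂ :=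
  ∑ ψ ∈ H84.bset b, classInner (pRegularPart p fun g => (ψ : G → ℂ) g⁻¹) ψ

theorem trc_eq {G : Type*} [Group G] [Fintype G] (W : Wedd (F M) G) (hM : IsPModular p M)
    {b : Set (IrrCharacter G)} (hb : IsPBlock M b) {τ : Fin W.n → Fin W.n}
    (hτ : ∀ j, (fun g => H86.phi p W j g⁻¹) = H86.phi p W (τ j)) :
    trc p b = ((H86.ibr W b).filter fun j => τ j = j).card := by
  classical
  have h1 : ∀ ψ ∈ H84.bset b, classInner (pRegularPart p fun g => (ψ : G → ℂ) g⁻¹) ψ =
      ∑ j ∈ H86.ibr W b, classInner (H86.phi p W (τ j)) ((H86.dec W ψ j : ℂ) • (ψ : G → ℂ)) := by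
    intro ψ hψ
    rw [reg_inv, H86.reg_irr_eq_sum_ibr W hM hb (H84.mem_bset.1 hψ)]
    have : (fun g => (∑ j ∈ H86.ibr W b, (H86.dec W ψ j : ℂ) • H86.phi p W j) g⁻¹) =
        ∑ j ∈ H86.ibr W b, (H86.dec W ψ j : ℂ) • H86.phi p W (τ j) := by
      funext g
      simp only [Finset.sum_apply, Pi.smul_apply, ← hτ]
    rw [this, classInner_sum_left]
    refine Finset.sum_congr rfl fun j _ => ?_
    rw [classInner_smul_left, classInner_smul_right, Complex.conj_natCast]
  rw [trc, Finset.sum_congr rfl h1, Finset.sum_comm, Finset.card_filter, Nat.cast_sum]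
  refine Finset.sum_congr rfl fun j hj => ?_
  rw [← classInner_sum_right, ← H86.Phi_eq_sum_bset hb hj, H86.inner_phi_Phi hM]
  split_ifs <;> simp

theorem trc_nat {G : Type*} [Group G] [Fintype G] (hM : IsPModular p M)
    {b : Set (IrrCharacter G)} (hb : IsPBlock M b) : ∃ n : ℕ, trc p b = n := by
  obtain ⟨W⟩ := H64.MR.exists_wedd (F M) G
  choose τ hτ using exists_phi_inv W hM
  exact ⟨_, trc_eq W hM hb hτ⟩

/-- A real `2`-block has a real irreducible Brauer character. -/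
theorem trc_ne_zero {G : Type*} [Group G] [Fintype G] (hM : IsPModular 2 M)
    {b : Set (IrrCharacter G)} (hb : IsPBlock M b) (hr : ∀ χ ∈ b, H87.irrConj χ ∈ b) :
    trc 2 b ≠ 0 := by
  classical
  haveI : Fact (Nat.Prime 2) := ⟨Nat.prime_two⟩
  obtain ⟨W⟩ := H64.MR.exists_wedd (F M) G
  choose τ hτ using exists_phi_inv W hM
  rw [trc_eq W hM hb hτ, Nat.cast_ne_zero]
  intro h0
  rw [Finset.card_eq_zero, Finset.filter_eq_empty_iff] at h0
  have hττ : ∀ j, τ (τ j) = j := fun j => by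
    refine (H86.linearIndependent_phi (W := W) hM).injective ?_
    rw [← hτ, ← hτ]
    simp
  have hmem : ∀ j ∈ H86.ibr W b, τ j ∈ H86.ibr W b := fun j hj => by
    obtain ⟨χ, hχ⟩ := H86.exists_dec_ne_zero (W := W) hM j
    exact H86.mem_ibr.2 (H86.inB_of_dec hb (hr χ (H86.mem_of_dec hb (H86.mem_ibr.1 hj) hχ))
      (by rwa [dec_conj W hM hτ]))
  set e := (Nat.card G).factorization 2 + H84.minval 2 b with he
  let f : Fin W.n → ℕ := fun j =>
    W.d j * ∑ χ ∈ H84.bset b, H86.dec W χ j * charDegree (χ : G → ℂ)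
  have hf : ∀ j ∈ H86.ibr W b, 2 ^ e ∣ f j := fun j hj => by
    rw [he, pow_add, mul_comm]
    refine Nat.mul_dvd_mul (H86.dvd_d hM hb hj fun χ hχ => ?_) ?_
    · exact (pow_dvd_pow 2 (H84.minval_le hχ)).trans (Nat.ordProj_dvd _ _)
    · obtain ⟨k, hk⟩ := H84.exists_one_eq_of_vanish (p := 2)
        (char_isGen (H86.isCharacter_Phi (W := W) j)) (fun g hg => H86.Phi_sing hM j hg)
      rw [H86.Phi_one_bset hb hj] at hk
      have : ((∑ χ ∈ H84.bset b, H86.dec W χ j * charDegree (χ : G → ℂ) : ℕ) : ℤ) =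
          (2 ^ (Nat.card G).factorization 2 : ℕ) * k := by exact_mod_cast hk
      exact Int.natCast_dvd_natCast.1 ⟨k, this⟩
  have hfτ : ∀ j, f (τ j) = f j := fun j => by
    have a : W.d (τ j) = W.d j := by
      have := congrFun (hτ j) 1
      simp only [inv_one, H86.phi_one hM] at this
      exact_mod_cast this.symm
    simp only [f, a]
    congr 1
    symm
    refine Finset.sum_bij' (fun χ _ => H87.irrConj χ) (fun χ _ => H87.irrConj χ)
      (fun χ h => H84.mem_bset.2 (hr χ (H84.mem_bset.1 h)))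
      (fun χ h => H84.mem_bset.2 (hr χ (H84.mem_bset.1 h))) (fun χ _ => H87.irrConj_irrConj χ)
      (fun χ _ => H87.irrConj_irrConj χ) fun χ _ => ?_
    rw [dec_conj W hM hτ]
    exact congrArg _ (H87.deg_conj (irr_isCharacter χ.2)).symm
  have h1 : ((∑ j ∈ H86.ibr W b, f j / 2 ^ e : ℕ) : ZMod 2) = 0 := by
    rw [Nat.cast_sum]
    exact Finset.sum_involution (fun j _ => τ j)
      (fun j _ => by rw [hfτ, CharTwo.add_self_eq_zero]) (fun j hj _ => h0 hj)
      (fun j hj => hmem j hj) (fun j _ => hττ j)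
  rw [ZMod.natCast_eq_zero_iff] at h1
  have h2 : ∑ χ ∈ H84.bset b, charDegree (χ : G → ℂ) ^ 2 =
      2 ^ e * ∑ j ∈ H86.ibr W b, f j / 2 ^ e := by
    rw [H86.sum_deg_sq_eq W hb, Finset.mul_sum]
    exact Finset.sum_congr rfl fun j hj => (Nat.mul_div_cancel' (hf j hj)).symm
  have h3 := H84.factorization_sum_deg_sq hM hb
  have h4 : ∑ χ ∈ H84.bset b, charDegree (χ : G → ℂ) ^ 2 ≠ 0 := by
    obtain ⟨χ, hχ⟩ := H84.block_nonempty hb
    exact (Finset.sum_pos (fun ψ _ => pow_pos (H84.deg_pos ψ) 2) ⟨χ, H84.mem_bset.2 hχ⟩).ne'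
  have h5 : 2 ^ (e + 1) ∣ ∑ χ ∈ H84.bset b, charDegree (χ : G → ℂ) ^ 2 := by
    rw [h2, pow_succ]; exact Nat.mul_dvd_mul_left _ h1
  have := (Nat.prime_two.pow_dvd_iff_le_factorization h4).1 h5
  omega

end Dual

section Sigma
variable {G : Type*} [Group G] [Finite G]

/-- The permutation `u s ↦ u s⁻¹` (`u` the `2`-part, `s` the odd part). -/
noncomputable def sg (g : G) : G := H35.pPart 2 g * (H35.pReg 2 g)⁻¹

theorem sg_mul {u s : G} (hu : H35.IsPElt 2 u) (hs : ¬ 2 ∣ orderOf s) (h : Commute u s) :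
    sg (u * s) = u * s⁻¹ := by
  haveI : Fact (Nat.Prime 2) := ⟨Nat.prime_two⟩
  rw [sg, H35.pPart_mul_eq hu hs h, H35.pReg_mul_eq hu hs h]

theorem sg_of_reg {s : G} (hs : ¬ 2 ∣ orderOf s) : sg s = s⁻¹ := by
  haveI : Fact (Nat.Prime 2) := ⟨Nat.prime_two⟩
  rw [sg, H35.pPart_eq_one hs, H35.pReg_eq_self hs, one_mul]

theorem sg_map {H : Type*} [Group H] [Finite H] (f : G →* H) (g : G) : sg (f g) = f (sg g) := by
  haveI : Fact (Nat.Prime 2) := ⟨Nat.prime_two⟩
  rw [sg, sg, H35.pPart_map, H35.pReg_map, map_mul, map_inv]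

theorem two_dvd_orderOf_sg {g : G} (hg : 2 ∣ orderOf g) : 2 ∣ orderOf (sg g) := by
  haveI : Fact (Nat.Prime 2) := ⟨Nat.prime_two⟩
  rw [← H35.pPart_ne_one_iff] at hg ⊢
  rwa [sg, H35.pPart_mul_eq (H35.isPElt_pPart 2 g)
    (by rw [orderOf_inv]; exact H35.not_dvd_orderOf_pReg 2 g)
    (H35.commute_pPart_pReg 2 g).inv_right]

theorem pow_eq_sg {k : ℕ} (hk₁ : ∀ g : G, (∃ j : ℕ, orderOf g = 2 ^ j) → g ^ k = g)
    (hk₂ : ∀ g : G, Odd (orderOf g) → g ^ k = g⁻¹) (g : G) : g ^ k = sg g := by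
  haveI : Fact (Nat.Prime 2) := ⟨Nat.prime_two⟩
  conv_lhs => rw [← H35.pPart_mul_pReg 2 g]
  rw [(H35.commute_pPart_pReg 2 g).mul_pow, hk₁ _ (H35.isPElt_pPart 2 g), hk₂, sg]
  rw [← Nat.not_even_iff_odd, even_iff_two_dvd]
  exact H35.not_dvd_orderOf_pReg 2 g

variable (G) in
theorem exists_pow_eq_sg : ∃ k : ℕ, k.Coprime (Nat.card G) ∧ k ^ 2 ^ 1 ≡ 1 [MOD Nat.card G] ∧
    (∀ g : G, Odd (orderOf g) → g ^ k = g⁻¹) ∧ ∀ g : G, g ^ k = sg g := by
  haveI : Fact (Nat.Prime 2) := ⟨Nat.prime_two⟩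
  set a := (Nat.card G).factorization 2
  set m := H84.mpart 2 G
  have hc : Nat.card G = 2 ^ a * m := H84.card_eq_pow_mul_mpart 2 G
  have hm : ¬ 2 ∣ m := H84.not_dvd_mpart G
  have hcop : (2 ^ a).Coprime m := Nat.Coprime.pow_left a (Nat.prime_two.coprime_iff_not_dvd.2 hm)
  obtain ⟨m', hm'⟩ : ∃ m', m = m' + 1 := Nat.exists_eq_succ_of_ne_zero (H84.mpart_ne_zero G)
  obtain ⟨k, h1, h2⟩ := Nat.chineseRemainder hcop 1 m'
  have hsq : k ^ 2 ^ 1 ≡ 1 [MOD Nat.card G] := by
    rw [hc, ← Nat.modEq_and_modEq_iff_modEq_mul hcop]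
    refine ⟨by simpa using h1.pow 2, (h2.pow _).trans ?_⟩
    rw [hm']
    rcases m' with _ | m'
    · exact Nat.modEq_one
    · exact ((Nat.modEq_iff_dvd' (Nat.one_le_pow _ _ (by omega))).2 ⟨m', by
        rw [Nat.sub_eq_iff_eq_add (Nat.one_le_pow _ _ (by omega))]; ring⟩).symm
  have hk₂ : ∀ g : G, Odd (orderOf g) → g ^ k = g⁻¹ := fun g hg => by
    have hd : orderOf g ∣ m :=
      (Nat.Coprime.pow_right a (Nat.coprime_two_right.2 hg)).dvd_of_dvd_mul_left
        (hc ▸ orderOf_dvd_natCard g)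
    rw [pow_eq_pow_iff_modEq.2 (h2.of_dvd hd), eq_inv_iff_mul_eq_one, ← pow_succ, ← hm']
    exact orderOf_dvd_iff_pow_eq_one.1 hd
  refine ⟨k, ?_, hsq, hk₂, pow_eq_sg (fun g ⟨j, hj⟩ => ?_) hk₂⟩
  · have := Nat.coprime_of_mul_modEq_one k (by simpa [pow_two] using hsq)
    exact this
  · have hd : orderOf g ∣ 2 ^ a := by
      refine Nat.Coprime.dvd_of_dvd_mul_right ?_ (hc ▸ orderOf_dvd_natCard g)
      rw [hj]; exact Nat.Coprime.pow_left j (Nat.prime_two.coprime_iff_not_dvd.2 hm)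
    conv_rhs => rw [← pow_one g]
    exact pow_eq_pow_iff_modEq.2 (h1.of_dvd hd)

/-- `χ` is fixed by `u s ↦ u s⁻¹`. -/
def SFix (χ : G → ℂ) : Prop := ∀ g, χ (sg g) = χ g

theorem SFix.reg {χ : G → ℂ} (h : SFix χ) {g : G} (hg : ¬ 2 ∣ orderOf g) : χ g⁻¹ = χ g := by
  rw [← sg_of_reg hg, h]

theorem SFix.comp {H : Type*} [Group H] [Finite H] {χ : G → ℂ} (h : SFix χ) (f : H →* G) :
    SFix fun x => χ (f x) := fun x => by
  simp only [← sg_map, h (f x)]

theorem sfix_of_real_of_vanish {χ : G → ℂ} (hr : ∀ g, χ g⁻¹ = χ g)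
    (h0 : ∀ g, 2 ∣ orderOf g → χ g = 0) : SFix χ := fun g => by
  by_cases hg : 2 ∣ orderOf g
  · rw [h0 g hg, h0 _ (two_dvd_orderOf_sg hg)]
  · rw [sg_of_reg hg, hr]

theorem exists_pElt_reps_mem {p : ℕ} {x : G} (hx : H35.IsPElt p x) :
    ∃ X : Finset G, (∀ y ∈ X, H35.IsPElt p y) ∧
      (∀ g : G, H35.IsPElt p g → ∃! y, y ∈ X ∧ IsConj g y) ∧ x ∈ X := by
  classical
  obtain ⟨X, h1, h2, -⟩ := H84.exists_pElt_reps G p
  refine ⟨insert x (X.filter fun y => ¬ IsConj x y), fun y hy => ?_, fun g hg => ?_,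
    Finset.mem_insert_self _ _⟩
  · rcases Finset.mem_insert.1 hy with rfl | hy
    · exact hx
    · exact h1 y (Finset.mem_filter.1 hy).1
  · by_cases hc : IsConj g x
    · refine ⟨x, ⟨Finset.mem_insert_self _ _, hc⟩, fun y ⟨hy, hgy⟩ => ?_⟩
      rcases Finset.mem_insert.1 hy with rfl | hy
      · rfl
      · exact absurd (hc.symm.trans hgy) (Finset.mem_filter.1 hy).2
    · obtain ⟨y, ⟨hy, hgy⟩, hu⟩ := h2 g hg
      refine ⟨y, ⟨Finset.mem_insert_of_mem (Finset.mem_filter.2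
        ⟨hy, fun h => hc (hgy.trans h.symm)⟩), hgy⟩, fun z ⟨hz, hgz⟩ => ?_⟩
      rcases Finset.mem_insert.1 hz with rfl | hz
      · exact absurd hgz hc
      · exact hu z ⟨(Finset.mem_filter.1 hz).1, hgz⟩

variable {M : Ideal AlgInt} [M.IsMaximal]

theorem sum_inner_sub_sg {G : Type*} [Group G] [Fintype G] (hM : IsPModular 2 M) {u : G}
    {C : Subgroup G} [Fintype C] (hu : H35.IsPElt 2 u) (hC : H84.IsCen u C)
    {B : Set (IrrCharacter G)} (hB : IsPBlock M B) {b : Set (IrrCharacter C)}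
    (hb : b ∈ H84.indBlocks M C B) :
    ∑ χ ∈ H84.bset B, classInner (H84.sub 2 u C b fun g => (χ : G → ℂ) (sg g))
      (H84.sub 2 u C b χ) = trc 2 b := by
  classical
  haveI : Fact (Nat.Prime 2) := ⟨Nat.prime_two⟩
  have hind := H84.mem_indBlocks.1 hb
  simp only [H84.inner_sub_sub hM hind.1, trc, classInner_def, ← Finset.mul_sum]
  congr 1
  rw [Finset.sum_comm, Finset.sum_comm (s := H84.bset b)]
  refine Finset.sum_congr rfl fun s _ => ?_
  by_cases hs : 2 ∣ orderOf s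
  · simp [H84.sub_of_sing _ _ hs, H84.reg_of_sing _ hs]
  have hs' : ¬ 2 ∣ orderOf s⁻¹ := by rwa [orderOf_inv]
  have e : ∀ χ ∈ H84.bset B, H84.sec u C (fun g => (χ : G → ℂ) (sg g)) s *
      conj (H84.sub 2 u C b χ s) = ∑ b' ∈ H84.indBlocks M C B,
        H84.sub 2 u C b' χ s⁻¹ * conj (H84.sub 2 u C b χ s) := fun χ hχ => by
    rw [← Finset.sum_mul, ← Finset.sum_apply, H84.sum_indBlocks_sub hM hu hC hB
      (H84.mem_bset.1 hχ), H84.reg_of_reg _ hs', H84.sec_apply, H84.sec_apply,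
      sg_mul hu (by rwa [Subgroup.orderOf_coe]) ((hC _).1 s.2)]
    rfl
  rw [Finset.sum_congr rfl e, Finset.sum_comm, Finset.sum_eq_single b,
    H84.sum_sub_mul_conj hM hu hC hind s hs']
  · exact Finset.sum_congr rfl fun ψ _ => by rw [H84.reg_of_reg _ hs]
  · intro b' hb' hne
    exact H84.sum_sub_mul_conj_of_ne hM hu hC hind (H84.mem_indBlocks.1 hb').1 hne _ _
  · exact fun h => absurd hb h

/-- A block induced from a real block of the centralizer of a `2`-element has a fixed member. -/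
theorem exists_sfix_of_induced (hM : IsPModular 2 M) {x : G} (hx : H35.IsPElt 2 x)
    {b : Set (IrrCharacter (Subgroup.centralizer ({x} : Set G)))} {B : Set (IrrCharacter G)}
    (hind : IsInducedBlock M _ b B)
    (hr : ∀ ψ ∈ b, ∃ ψ' ∈ b, ∀ g, ψ'.1 g = conj (ψ.1 g)) :
    ∃ χ ∈ B, SFix (χ : G → ℂ) := by
  classical
  haveI : Fact (Nat.Prime 2) := ⟨Nat.prime_two⟩
  haveI := Fintype.ofFinite G
  haveI : ∀ y : G, Fintype (Subgroup.centralizer ({y} : Set G)) := fun _ => Fintype.ofFinite _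
  have hB : IsPBlock M B := hind.2.1
  by_contra hn
  push Not at hn
  obtain ⟨k, hk, -, -, hks⟩ := exists_pow_eq_sg G
  obtain ⟨X, h1, h2, h3⟩ := exists_pElt_reps_mem hx
  have e0 : ∑ χ ∈ H84.bset B, classInner (fun g => (χ : G → ℂ) (sg g)) χ = 0 := by
    refine Finset.sum_eq_zero fun χ hχ => ?_
    have := irr_inner' (pw hk χ) χ
    rw [if_neg fun h => hn χ (H84.mem_bset.1 hχ) fun g => by
      rw [← hks]; exact (pw_eq_iff hk χ).1 h g] at this
    simp only [← hks]
    exact this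
  have e1 : ∀ χ ∈ H84.bset B, classInner (fun g => (χ : G → ℂ) (sg g)) χ = _ := fun χ hχ =>
    H84.inner_eq_sum_sub hM h1 h2 (fun y => Subgroup.centralizer {y})
      (fun y _ => H84.isCen_singleton y) hB (H84.mem_bset.1 hχ) (by
        simp only [← hks]
        exact irr_isClassFunction (pw hk χ).2)
  rw [Finset.sum_congr rfl e1, Finset.sum_comm] at e0
  simp only [Finset.sum_comm (s := H84.bset B)] at e0
  have hnat : ∀ (y : G) (b' : Set (IrrCharacter (Subgroup.centralizer ({y} : Set G)))),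
      ∃ n : ℕ, IsPBlock M b' → trc 2 b' = n := fun y b' => by
    by_cases h : IsPBlock M b'
    · obtain ⟨n, hn⟩ := trc_nat hM h
      exact ⟨n, fun _ => hn⟩
    · exact ⟨0, fun h' => absurd h' h⟩
  choose n hn' using hnat
  rw [Finset.sum_congr rfl fun y hy => Finset.sum_congr rfl fun b' hb' =>
    (sum_inner_sub_sg hM (h1 y hy) (H84.isCen_singleton y) hB hb').trans
      (hn' y b' (H84.mem_indBlocks.1 hb').1)] at e0
  have e2 : ∑ y ∈ X, ∑ b' ∈ H84.indBlocks M (Subgroup.centralizer ({y} : Set G)) B,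
      n y b' = 0 := by exact_mod_cast e0
  have e3 := Finset.sum_eq_zero_iff.1 (Finset.sum_eq_zero_iff.1 e2 x h3) b
    (H84.mem_indBlocks.2 hind)
  refine trc_ne_zero hM hind.1 (fun ψ hψ => ?_) (by rw [hn' x b hind.1, e3, Nat.cast_zero])
  obtain ⟨ψ', h, e⟩ := hr ψ hψ
  rwa [show H87.irrConj ψ = ψ' from Subtype.ext (funext fun g => (e g).symm)]

/-- The block of a character that is real on the elements of odd order is real. -/
theorem conj_mem_of_real_reg (hM : IsPModular 2 M) {b : Set (IrrCharacter G)} (hb : IsPBlock M b)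
    {η : IrrCharacter G} (hη : η ∈ b)
    (hr : ∀ g, ¬ 2 ∣ orderOf g → (η : G → ℂ) g⁻¹ = (η : G → ℂ) g) :
    ∀ ψ ∈ b, ∃ ψ' ∈ b, ∀ g, (ψ' : G → ℂ) g = conj ((ψ : G → ℂ) g) := by
  haveI : Fact (Nat.Prime 2) := ⟨Nat.prime_two⟩
  haveI := Fintype.ofFinite G
  have hinv : ∀ (χ : IrrCharacter G) (g : G), centralChar (H87.irrConj χ : G → ℂ) g =
      centralChar (χ : G → ℂ) g⁻¹ := fun χ g => by
    have : Subgroup.centralizer ({g⁻¹} : Set G) = Subgroup.centralizer {g} := by
      ext y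
      simp only [Subgroup.mem_centralizer_singleton_iff]
      exact Commute.inv_right_iff
    rw [centralChar, centralChar, this, H87.irrConj_apply, H87.irrConj_apply,
      char_inv (irr_isCharacter χ.2), H84.conj_irr_one]
  intro ψ hψ
  have h1 : H87.irrConj η ∈ b := H84.mem_of_reg_eq hM hb hη (H84.reg_ext fun g hg => by
    rw [H87.irrConj_apply, ← char_inv (irr_isCharacter η.2), hr g hg])
  refine ⟨H87.irrConj ψ, H84.mem_of_sameBlock hb h1 fun g => ?_, fun _ => rfl⟩
  rw [hinv, hinv]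
  exact H84.sameBlock_of_mem hb hη hψ g⁻¹

/-- A fixed character outside the principal block of the centralizer of a `2`-element gives one
outside the principal block of the group. -/
theorem exists_sfix_not_mem_of_centralizer (hM : IsPModular 2 M) {x : G} (hx : H35.IsPElt 2 x)
    {η : IrrCharacter (Subgroup.centralizer ({x} : Set G))} (hη : η ∉ principalBlock M _)
    (hr : ∀ g, ¬ 2 ∣ orderOf g → η.1 g⁻¹ = η.1 g) :
    ∃ χ : IrrCharacter G, χ ∉ principalBlock M G ∧ SFix (χ : G → ℂ) := by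
  haveI : Fact (Nat.Prime 2) := ⟨Nat.prime_two⟩
  haveI := Fintype.ofFinite G
  haveI := Fintype.ofFinite (Subgroup.centralizer ({x} : Set G))
  have hb := H84.isPBlock_blockOf (M := M) η
  obtain ⟨B, hind⟩ := H84.exists_induced hM hx (H84.isCen_singleton x) hb
  obtain ⟨χ, hχ, hf⟩ := exists_sfix_of_induced hM hx hind
    (conj_mem_of_real_reg hM hb (H84.mem_blockOf_self η) hr)
  refine ⟨χ, fun h0 => hη ?_, hf⟩
  rw [H84.block_eq_of_mem hind.2.1 H84.isPBlock_principal hχ h0, ← H84.mem_indBlocks,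
    H85.indBlocks_prin hM hx, Finset.mem_singleton] at hind
  rw [← hind]
  exact H84.mem_blockOf_self η

/-- The principal `2`-block of a group of even order has a nontrivial fixed member. -/
theorem exists_sfix_mem_ne_one (hM : IsPModular 2 M) (hG : 2 ∣ Nat.card G) :
    ∃ χ ∈ principalBlock M G, (χ : G → ℂ) ≠ (fun _ => 1) ∧ SFix (χ : G → ℂ) := by
  classical
  haveI : Fact (Nat.Prime 2) := ⟨Nat.prime_two⟩
  haveI := Fintype.ofFinite G
  obtain ⟨k, hk, hke, -, hks⟩ := exists_pow_eq_sg G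
  let X : Set (IrrCharacter G) :=
    {χ | χ ∈ principalBlock M G ∧ Odd (charDegree (χ : G → ℂ)) ∧ χ ≠ H84.irrOne G}
  have h1 : 2 ∣ ∑ χ ∈ H84.bset (principalBlock M G), charDegree (χ : G → ℂ) ^ 2 := by
    refine Nat.dvd_of_factorization_pos ?_
    rw [H84.factorization_sum_deg_sq hM H84.isPBlock_principal]
    have := Nat.prime_two.factorization_pos_of_dvd Nat.card_pos.ne' hG
    omega
  rw [← even_iff_two_dvd, Finset.even_sum_iff_even_card_odd] at h1
  have h2 : ((H84.bset (principalBlock M G)).filter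
      fun χ : IrrCharacter G => Odd (charDegree (χ : G → ℂ) ^ 2)) =
      insert (H84.irrOne G) X.toFinset := by
    ext χ
    simp only [Finset.mem_filter, H84.mem_bset, Finset.mem_insert, Set.mem_toFinset, X,
      Set.mem_setOf_eq, Nat.odd_pow_iff two_ne_zero]
    by_cases h : χ = H84.irrOne G
    · simp [h, H84.irrOne_mem_principal, H84.deg_irrOne]
    · simp [h]
  rw [h2, Finset.card_insert_of_notMem (by simp [X])] at h1
  obtain ⟨χ, hχ, hf⟩ := exists_fixed (p := 2) hk hke X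
    (fun χ hχ => ⟨(pw_mem_prin hM hk).2 hχ.1, by
      rw [H87.deg_congr (ψ := (χ : G → ℂ)) (by rw [pw_apply, one_pow])]; exact hχ.2.1,
      fun h => hχ.2.2 (pw_injective hk (h.trans (Subtype.ext rfl)))⟩) (by
      rw [Nat.card_coe_set_eq, Set.ncard_eq_toFinset_card', ← even_iff_two_dvd]
      exact fun h => Nat.not_even_iff_odd.2 h.add_one h1)
  exact ⟨χ, hχ.1, fun h => hχ.2.2 (Subtype.ext h), fun g => by rw [← hks, hf]⟩

end Sigma

end H34
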