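import Mathlib
import Cfsg.Agent.Base
import Cfsg.Agent.Lib.Block.Ab2B
import Cfsg.Agent.Lib.Block.RealBlk
import Cfsg.Agent.Lib.GL2Char.SLMore
import Cfsg.Agent.Lib.SL2Elt.Order
import Cfsg.Agent.Lib.GL.Simple
import Cfsg.Agent.Lib.GL.Basic
import Cfsg.Agent.S2302

/-!
# The principal 2-block of `PSL(2, q)` with abelian Sylow 2-subgroups
-/

set_option autoImplicit false
set_option linter.style.haveILetI false

open Cfsg ComplexConjugate
open scoped MatrixGroups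

namespace H34

section DZ
variable {G : Type*} [Group G] [Finite G] {p : ℕ} [Fact p.Prime] {M : Ideal AlgInt} [M.IsMaximal]

theorem vanish_of_dz (hM : IsPModular p M) {χ : IrrCharacter G}
    (h : ¬ p ∣ Nat.card G / charDegree (χ : G → ℂ)) {g : G} (hg : p ∣ orderOf g) :
    (χ : G → ℂ) g = 0 :=
  H33.irr_eq_zero_of_blockOf_eq_singleton hM
    (H33.blockOf_eq_singleton hM ((H33.not_dvd_card_div_iff χ).1 h)) hg

theorem not_mem_prin_of_dz (hM : IsPModular p M) (hG : p ∣ Nat.card G) {χ : IrrCharacter G}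
    (h : ¬ p ∣ Nat.card G / charDegree (χ : G → ℂ)) : χ ∉ principalBlock M G := by
  intro hχ
  have h1 := H33.blockOf_eq_singleton hM ((H33.not_dvd_card_div_iff χ).1 h)
  have h2 : H33.oneIrr G ∈ blockOf M (χ : G → ℂ) := H33.sameBlock_symm hχ
  rw [h1] at h2
  obtain rfl : H33.oneIrr G = χ := h2
  obtain ⟨g, hg⟩ := exists_prime_orderOf_dvd_card' p hG
  have h3 := vanish_of_dz hM h (g := g) (hg ▸ dvd_rfl)
  exact one_ne_zero h3

end DZ

/-- The facts about `L = PSL(2, q)` (`q = 2 ^ n ≥ 4` or `q ≡ ±3 mod 8`, `q ≥ 5`) that are used. -/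
structure LPk (M : Ideal AlgInt) (L : Type*) [Group L] [Finite L] : Prop where
  simple : IsSimpleGroup L
  four : 4 ∣ Nat.card L
  elem : ∀ x : L, H35.IsPElt 2 x → x ^ 2 = 1
  one : ∀ s t : L, orderOf s = 2 → orderOf t = 2 → IsConj s t
  npc : ∀ t : L, orderOf t = 2 → HasNormalPComplement 2 (Subgroup.centralizer ({t} : Set L))
  val : ∀ χ ∈ principalBlock M L, ∀ t : L, orderOf t = 2 →
    (χ : L → ℂ) t * (χ : L → ℂ) t = 1
  dz : ∃ φ : IrrCharacter L, φ ∉ principalBlock M L ∧ SFix (φ : L → ℂ)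

section SL
open H62.GL2
variable {F : Type*} [Field F] [Fintype F] [DecidableEq F]

omit [Fintype F] [DecidableEq F] in
theorem isConj_tg_inv (s : SL(2, F)) : IsConj (tg s) (tg s⁻¹) := by
  by_cases hs : IsSc (tg s).val
  · obtain ⟨a, ha⟩ := exists_eq_scalar _ hs
    have hd := det_tg s
    rw [ha, glDet_ut] at hd
    have h2 : tg s * tg s = 1 := by
      rw [ha, ut_mul, hd]; simp [ut_one]
    rw [map_inv, ← eq_inv_of_mul_eq_one_left h2]
  · have hs' : ¬ IsSc (tg s⁻¹).val := by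
      intro h
      obtain ⟨a, ha⟩ := exists_eq_scalar _ h
      apply hs
      have h3 : tg s = ut a⁻¹ 0 a⁻¹ := by
        rw [← inv_inv s, map_inv, ha]
        refine (eq_inv_of_mul_eq_one_left ?_).symm
        rw [ut_mul]; simp [ut_one]
      rw [h3, isSc_ut]; exact ⟨rfl, rfl⟩
    refine isConj_of_trace_det hs hs' ?_ ?_
    · show s.1.trace = (s⁻¹).1.trace
      rw [Matrix.SpecialLinearGroup.SL2_inv_expl, Matrix.trace_fin_two, Matrix.trace_fin_two]
      simp [add_comm]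
    · show s.1.det = (s⁻¹).1.det
      rw [s.2, (s⁻¹).2]

omit [Fintype F] [DecidableEq F] in
theorem res_inv {χ : GL (Fin 2) F → ℂ} (h : IsClassFunction _ χ) (s : SL(2, F)) :
    res χ s⁻¹ = res χ s := by
  obtain ⟨c, hc⟩ := isConj_iff.1 (isConj_tg_inv s)
  rw [res_apply, res_apply, ← hc]
  exact h _ _

theorem exists_real_psl {χ : SL(2, F) → ℂ} (h : IsIrrCharacter _ χ) (h1 : χ (-1) = χ 1)
    (hr : ∀ s, χ s⁻¹ = χ s) {n : ℕ} (hn : χ 1 = n) :
    ∃ ψ : IrrCharacter PSL(2, F), charDegree (ψ : PSL(2, F) → ℂ) = n ∧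
      ∀ g, (ψ : PSL(2, F) → ℂ) g⁻¹ = (ψ : PSL(2, F) → ℂ) g := by
  obtain ⟨ψ, h2, h3⟩ := H6.exists_irr_quotient h (Subgroup.center SL(2, F)) (fun z hz => by
    rcases mem_center_iff_neg.1 hz with rfl | rfl
    · rfl
    · exact h1)
  refine ⟨⟨ψ, h2⟩, charDegree_eq ((h3 1).trans hn), fun g => ?_⟩
  obtain ⟨s, rfl⟩ := QuotientGroup.mk_surjective g
  exact (h3 s⁻¹).trans ((hr s).trans (h3 s).symm)

theorem exists_real_q :
    ∃ ψ : IrrCharacter PSL(2, F), charDegree (ψ : PSL(2, F) → ℂ) = Fintype.card F ∧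
      ∀ g, (ψ : PSL(2, F) → ℂ) g⁻¹ = (ψ : PSL(2, F) → ℂ) g :=
  exists_real_psl isIrr_stS (by rw [stS_neg_one, stS_one])
    (fun s => res_inv (isClass_st 1) s) stS_one

theorem exists_real_q_add_one (h : ¬ Fintype.card F - 1 ∣ 4) :
    ∃ ψ : IrrCharacter PSL(2, F), charDegree (ψ : PSL(2, F) → ℂ) = Fintype.card F + 1 ∧
      ∀ g, (ψ : PSL(2, F) → ℂ) g⁻¹ = (ψ : PSL(2, F) → ℂ) g := by
  obtain ⟨α, h1, h2⟩ := exists_mulChar_sq_ne_one h
  exact exists_real_psl ((isIrr_psS_iff α).2 h1) (by rw [psS_neg_one, psS_one, h2, mul_one])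
    (fun s => by rw [psS_eq_res]; exact res_inv (isClass_ps α 1) s) (by rw [psS_one]; simp)

theorem exists_real_q_sub_one (h : ¬ Fintype.card F + 1 ∣ 4) :
    ∃ ψ : IrrCharacter PSL(2, F), charDegree (ψ : PSL(2, F) → ℂ) = Fintype.card F - 1 ∧
      ∀ g, (ψ : PSL(2, F) → ℂ) g⁻¹ = (ψ : PSL(2, F) → ℂ) g := by
  classical
  obtain ⟨K, _, _, _, _, ⟨ι⟩⟩ := exists_quad F
  obtain ⟨η, h1, h2⟩ := H62.exists_hom_sq_ne_inv (normOne F K) (by rwa [card_normOne])
  refine exists_real_psl (isIrr_cuS ι h1) ?_ (fun s => res_inv (isClass_cusp ι _) s)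
    (by rw [cuS_one, cast_q_sub])
  rw [cuS_neg_one, cuS_one, h2, Units.val_one, mul_one]
  apply Subtype.ext
  simp [← map_pow]

/-- In characteristic 2 every irreducible character other than `1` and the Steinberg character has
`χ(1) - χ(t) = q` and `χ(t) = ±1` on involutions. -/
theorem sl_even_val [CharP F 2] {χ : SL(2, F) → ℂ} (h : IsIrrCharacter _ χ) {t : SL(2, F)}
    (ht : orderOf t = 2) : χ = (fun _ => 1) ∨ χ 1 = Fintype.card F ∨
      (χ t * χ t = 1 ∧ χ 1 - χ t = Fintype.card F) := by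
  classical
  obtain ⟨K, _, _, _, _, ⟨ι⟩⟩ := exists_quad F
  have hu : orderOf (uS F) = 2 := by
    have : uS F = utS 1 1 := tg_injective (by rw [tg_uS, tg_utS]; simp [uu])
    rw [this]; exact orderOf_utS_one one_ne_zero
  obtain ⟨c, hc⟩ := isConj_iff.1 (Cfsg.Agent.S2302.result (uS F) t hu ht).1
  have h3 : χ t = χ (uS F) := by
    rw [← hc]; exact H6.irr_isClassFunction h _ _
  have hev : ¬ Odd (Fintype.card F) := by
    rw [Nat.not_odd_iff_even, Nat.even_iff]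
    exact FiniteField.even_card_of_char_two (ringChar.eq F 2)
  rcases irrS_cases_nat ι h (cast_charDegree h) with
    ⟨-, h1⟩ | ⟨-, h1⟩ | ⟨-, α, -, h1⟩ | ⟨-, η, -, h1⟩ | ⟨-, h1, -⟩ | ⟨-, h1, -⟩
  · exact .inl h1
  · exact .inr (.inl (by rw [h1, stS_one]))
  · refine .inr (.inr ?_)
    rw [h3, h1, psS_uS, psS_one]; constructor <;> ring
  · refine .inr (.inr ?_)
    rw [h3, h1, cuS_uS, cuS_one]; constructor <;> ring
  · exact absurd h1 hev
  · exact absurd h1 hev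

omit [DecidableEq F] in
theorem sl_even_elem [CharP F 2] {x : SL(2, F)} (hx : H35.IsPElt 2 x) : x ^ 2 = 1 := by
  have hq : 2 ∣ Nat.card F := by
    rw [Nat.card_eq_fintype_card]
    exact Nat.dvd_of_mod_eq_zero (FiniteField.even_card_of_char_two (ringChar.eq F 2))
  have hq0 : 0 < Nat.card F := Nat.card_pos
  have key : ∀ m, x ^ m = 1 → ¬ 2 ∣ m → x ^ 2 = 1 := fun m h1 h2 => by
    rw [hx.eq_one_of_not_dvd fun h => h2 (h.trans (orderOf_dvd_of_pow_eq_one h1)), one_pow]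
  by_cases h4 : H64.SL2.tr x ^ 2 = 4
  · have h5 := H64.SL2.pow_char_mem_center 2 h4
    have h2 : (2 : F) = 0 := CharP.cast_eq_zero F 2
    exact H64.SL2.proj_injective_of_two_eq_zero h2
      ((H64.SL2.proj_eq_one_iff.2 h5).trans (map_one _).symm)
  · by_cases hs : H64.SL2.Split x
    · exact key _ (H64.SL2.pow_eq_one_of_split h4 hs) (by omega)
    · exact key _ (H64.SL2.pow_eq_one_of_not_split hs) (by omega)

theorem sl_even_cent [CharP F 2] {t : SL(2, F)} (ht : orderOf t = 2) :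
    Nat.card (Subgroup.centralizer ({t} : Set SL(2, F))) = Fintype.card F := by
  have h1 := card_carrier_mul t
  rw [(Cfsg.Agent.S2302.result t t ht ht).2, card_SL_nat] at h1
  have h2 : 1 < Fintype.card F := Fintype.one_lt_card
  have h3 : 0 < Fintype.card F ^ 2 - 1 := by
    have : 1 < Fintype.card F ^ 2 := Nat.one_lt_pow two_ne_zero h2
    omega
  exact Nat.eq_of_mul_eq_mul_left h3 h1

end SL

section Pk
variable {M : Ideal AlgInt} [M.IsMaximal] {L : Type*} [Group L] [Finite L]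

theorem not_npc_of_simple [IsSimpleGroup L] (h : 4 ∣ Nat.card L) : ¬ HasNormalPComplement 2 L := by
  intro hn
  obtain ⟨N, hN, h1, k, hk⟩ := H4.hasNormalPComplement_iff_exists.1 hn
  rcases hN.eq_bot_or_eq_top with rfl | rfl
  · rw [Subgroup.index_bot] at hk
    have hp : IsPGroup 2 L := IsPGroup.of_card hk
    haveI := hp.isNilpotent
    have hc : ∀ a b : L, a * b = b * a := IsSimpleGroup.comm_iff_isSolvable.2 inferInstance
    haveI : IsMulCommutative L := ⟨⟨hc⟩⟩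
    have := IsSimpleGroup.prime_card (α := L)
    rcases (Nat.dvd_prime this).1 h with h | h
    · omega
    · rw [← h] at this; exact absurd this (by decide)
  · rw [Subgroup.card_top] at h1
    exact h1 ((by decide : 2 ∣ 4).trans h)

theorem exists_dz_of_equiv (hM : IsPModular 2 M) {H : Type*} [Group H] [Finite H] (e : L ≃* H)
    (h2 : 2 ∣ Nat.card H) {ψ : IrrCharacter H}
    (h : ¬ 2 ∣ Nat.card H / charDegree (ψ : H → ℂ)) (hr : ∀ g, (ψ : H → ℂ) g⁻¹ = (ψ : H → ℂ) g) :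
    ∃ φ : IrrCharacter L, φ ∉ principalBlock M L ∧ SFix (φ : L → ℂ) :=
  ⟨⟨_, H6.isIrrCharacter_comp_equiv e ψ.2⟩,
    fun h1 => not_mem_prin_of_dz hM h2 h ((H85.mem_prin_of_equiv hM e fun _ => rfl).1 h1),
    (sfix_of_real_of_vanish hr fun _ hg => vanish_of_dz hM h hg).comp e.toMonoidHom⟩

theorem lpk_odd (hM : IsPModular 2 M) {F : Type*} [Field F] [Fintype F]
    (h8 : Fintype.card F % 8 = 3 ∨ Fintype.card F % 8 = 5) (h5 : 5 ≤ Fintype.card F)
    (e : L ≃* PSL(2, F)) : LPk M L ∧ ∀ Q : Sylow 2 L, Nat.card Q = 4 := by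
  classical
  haveI := H10.isSimpleGroup_PSL_fin (F := F) 2 le_rfl fun _ => by
    rw [Nat.card_eq_fintype_card]; omega
  haveI : IsSimpleGroup L := e.isSimpleGroup
  have hc := H10.card_PSL_two (F := F)
  rw [Nat.card_eq_fintype_card (α := F), Nat.gcd_eq_left (by omega)] at hc
  obtain ⟨m, hm, hm2, ψ, hψ, hr⟩ : ∃ m, Nat.card PSL(2, F) = 4 * m ∧ ¬ 2 ∣ m ∧
      ∃ ψ : IrrCharacter PSL(2, F), ¬ 2 ∣ Nat.card PSL(2, F) / charDegree (ψ : PSL(2, F) → ℂ) ∧
        ∀ g, (ψ : PSL(2, F) → ℂ) g⁻¹ = (ψ : PSL(2, F) → ℂ) g := by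
    rcases h8 with h8 | h8
    · obtain ⟨j, hj⟩ : ∃ j, Fintype.card F = 8 * j + 3 := ⟨Fintype.card F / 8, by omega⟩
      obtain ⟨ψ, h1, h2⟩ := exists_real_q_add_one (F := F) fun h => by
        have := Nat.le_of_dvd (by norm_num) h; omega
      rw [hj] at hc h1
      rw [show 8 * j + 3 - 1 = 8 * j + 2 by omega] at hc
      have h3 : Nat.card PSL(2, F) = (8 * j + 3 + 1) * ((8 * j + 3) * (4 * j + 1)) := by
        nlinarith
      have h4 : ¬ 2 ∣ (8 * j + 3) * (4 * j + 1) := by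
        rw [Nat.prime_two.dvd_mul]; omega
      refine ⟨(2 * j + 1) * ((8 * j + 3) * (4 * j + 1)), by rw [h3]; ring, ?_, ψ, ?_, h2⟩
      · rw [Nat.prime_two.dvd_mul]; omega
      · rwa [h1, h3, Nat.mul_div_cancel_left _ (by omega)]
    · obtain ⟨j, hj⟩ : ∃ j, Fintype.card F = 8 * j + 5 := ⟨Fintype.card F / 8, by omega⟩
      obtain ⟨ψ, h1, h2⟩ := exists_real_q_sub_one (F := F) fun h => by
        have := Nat.le_of_dvd (by norm_num) h; omega
      rw [hj] at hc h1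
      rw [show 8 * j + 5 - 1 = 8 * j + 4 by omega] at hc h1
      have h3 : Nat.card PSL(2, F) = (8 * j + 4) * ((8 * j + 5) * (4 * j + 3)) := by
        nlinarith
      have h4 : ¬ 2 ∣ (8 * j + 5) * (4 * j + 3) := by
        rw [Nat.prime_two.dvd_mul]; omega
      refine ⟨(2 * j + 1) * ((8 * j + 5) * (4 * j + 3)), by rw [h3]; ring, ?_, ψ, ?_, h2⟩
      · rw [Nat.prime_two.dvd_mul]; omega
      · rwa [h1, h3, Nat.mul_div_cancel_left _ (by omega)]
  have hL : Nat.card L = 4 * m := (Nat.card_congr e.toEquiv).trans hm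
  have hQ : ∀ Q : Sylow 2 L, Nat.card Q = 4 := fun Q => by
    have hm0 : m ≠ 0 := by rintro rfl; exact hm2 (dvd_zero 2)
    rw [Q.card_eq_multiplicity, hL, Nat.factorization_mul (by norm_num) hm0, Finsupp.add_apply,
      Nat.factorization_eq_zero_of_not_dvd hm2, show (4 : ℕ) = 2 ^ 2 from rfl,
      Nat.prime_two.factorization_pow]
    simp
  have hn := not_npc_of_simple (L := L) ⟨m, hL⟩
  obtain ⟨Q⟩ : Nonempty (Sylow 2 L) := inferInstance
  have hK := isKleinFour_of_not_npc Q (hQ Q) hn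
  obtain ⟨-, -, -, ε, h1, h2⟩ := klein_pkg hM Q (hQ Q) hn
  refine ⟨⟨inferInstance, ⟨m, hL⟩, fun x hx => ?_,
    fun s t hs ht => H33.Klein.isConj_invol Q (hQ Q) hn hs ht, fun t ht => ?_, fun χ hχ t ht => ?_,
    exists_dz_of_equiv hM e (hm ▸ ⟨2 * m, by ring⟩) hψ hr⟩, hQ⟩
  · by_cases h : x = 1
    · rw [h, one_pow]
    · rw [← orderOf_eq_two_of_klein Q hK hx h, pow_orderOf_eq_one]
  · obtain ⟨R, hR⟩ := (show H35.IsPElt 2 t from ⟨1, by rw [ht, pow_one]⟩).exists_sylow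
    exact hasNormalPComplement_centralizer R
      (rk2_of_isKleinFour (isKleinFour_of_not_npc R (hQ R) hn)) hR fun h => by simp [h] at ht
  · rw [h2 χ hχ t (ht ▸ dvd_rfl)]
    exact_mod_cast h1 χ hχ

theorem lpk_even (hM : IsPModular 2 M) {F : Type*} [Field F] [Fintype F] {n : ℕ} (hn : 2 ≤ n)
    (hF : Fintype.card F = 2 ^ n) (e : L ≃* PSL(2, F)) :
    LPk M L ∧ ∀ χ ∈ principalBlock M L, (χ : L → ℂ) ≠ (fun _ => 1) → ∀ t : L, orderOf t = 2 →
      (χ : L → ℂ) 1 - (χ : L → ℂ) t = Fintype.card F := by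
  classical
  have h4 : 4 ∣ Fintype.card F := hF ▸ pow_dvd_pow 2 hn
  have hq : 4 ≤ Fintype.card F := Nat.le_of_dvd Fintype.card_pos h4
  haveI := H10.isSimpleGroup_PSL_fin (F := F) 2 le_rfl fun _ => by
    rwa [Nat.card_eq_fintype_card]
  haveI : IsSimpleGroup L := e.isSimpleGroup
  haveI : CharP F 2 := charP_of_card_eq_prime_pow hF
  have h2 : (2 : F) = 0 := CharP.cast_eq_zero F 2
  let f : L ≃* SL(2, F) := e.trans (H64.SL2.projEquiv h2).symm
  have hS := H62.GL2.card_SL_nat (F := F)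
  have hodd : ¬ 2 ∣ Fintype.card F ^ 2 - 1 := by
    have h5 : 2 ∣ Fintype.card F ^ 2 := dvd_pow ((by decide : 2 ∣ 4).trans h4) two_ne_zero
    have h6 : 0 < Fintype.card F ^ 2 := by positivity
    omega
  have hL : Nat.card L = (Fintype.card F ^ 2 - 1) * Fintype.card F :=
    (Nat.card_congr f.toEquiv).trans hS
  have hL2 : 2 ∣ Nat.card L := hL ▸ ((by decide : 2 ∣ 4).trans h4).mul_left _
  have ho : ∀ {t : L}, orderOf t = 2 → orderOf (f t) = 2 := fun ht => by
    rwa [MulEquiv.orderOf_eq]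
  have key : ∀ χ ∈ principalBlock M L, ∀ t : L, orderOf t = 2 → (χ : L → ℂ) = (fun _ => 1) ∨
      ((χ : L → ℂ) t * (χ : L → ℂ) t = 1 ∧ (χ : L → ℂ) 1 - (χ : L → ℂ) t = Fintype.card F) := by
    intro χ hχ t ht
    rcases sl_even_val (H6.isIrrCharacter_comp_equiv f.symm χ.2) (ho ht) with h | h | h
    · left
      funext x
      simpa using congrFun h (f x)
    · refine absurd hχ (not_mem_prin_of_dz hM hL2 ?_)
      rw [map_one] at h
      rwa [H62.GL2.charDegree_eq h, hL, Nat.mul_div_cancel _ Fintype.card_pos]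
    · right
      simpa using h
  obtain ⟨ψ, hψ, hr⟩ := exists_real_q (F := F)
  refine ⟨⟨inferInstance, hL ▸ h4.mul_left _, fun x hx => ?_, fun s t hs ht => ?_, fun t ht => ?_,
    fun χ hχ t ht => ?_, exists_dz_of_equiv hM e ?_ ?_ hr⟩, fun χ hχ h1 t ht => ?_⟩
  · apply f.injective
    rw [map_pow, map_one]
    exact sl_even_elem (hx.map f.toMonoidHom)
  · simpa using f.symm.toMonoidHom.map_isConj (Cfsg.Agent.S2302.result _ _ (ho hs) (ho ht)).1
  · refine H4.hasNormalPComplement_of_isPGroup (IsPGroup.of_card (n := n) ?_)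
    rw [← hF, ← sl_even_cent (ho ht)]
    refine Nat.card_congr (f.toEquiv.subtypeEquiv fun x => ?_)
    simp only [Subgroup.mem_centralizer_singleton_iff, MulEquiv.toEquiv_eq_coe, EquivLike.coe_coe,
      ← map_mul, EmbeddingLike.apply_eq_iff_eq]
  · rcases key χ hχ t ht with h | h
    · rw [h, mul_one]
    · exact h.1
  · rwa [← Nat.card_congr e.toEquiv]
  · rwa [hψ, ← Nat.card_congr e.toEquiv, hL, Nat.mul_div_cancel _ Fintype.card_pos]
  · exact ((key χ hχ t ht).resolve_left h1).2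

end Pk

end H34
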