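import Mathlib
import Cfsg.Agent.Base
import Cfsg.Agent.Lib.Block.BT1a
import Cfsg.Agent.S0999

/-! Simple groups of order `p q^b g₀` with `g₀ < p - 1` (Brauer–Tuan). -/

set_option autoImplicit false
set_option linter.unusedSectionVars false
set_option linter.style.haveILetI false

open Cfsg H17.Ord
open H86 (Cen Nor)
open scoped ComplexConjugate MatrixGroups

namespace H84

theorem two_pow_ne_one {p k j : ℕ} (hk : p = 2 ^ k + 1) (h0 : 0 < j) (hj : j < 2 * k) :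
    ¬ (2 : ℤ) ^ j ≡ 1 [ZMOD p] := by
  intro h
  have hk' : (p : ℤ) = 2 ^ k + 1 := by exact_mod_cast hk
  rcases le_or_gt j k with h1 | h1
  · have h2 : (2 : ℤ) ^ j ≤ 2 ^ k := pow_le_pow_right₀ one_le_two h1
    have h3 : (1 : ℤ) < 2 ^ j := one_lt_pow₀ one_lt_two h0.ne'
    have := Int.le_of_dvd (by omega) h.symm.dvd
    omega
  · obtain ⟨i, rfl⟩ : ∃ i, j = k + i := ⟨j - k, by omega⟩
    have h2 : (2 : ℤ) ^ i < 2 ^ k := pow_lt_pow_right₀ one_lt_two (by omega)
    have h3 : (p : ℤ) ∣ 2 ^ i + 1 := by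
      have h4 := h.symm.dvd
      have : (2 : ℤ) ^ i + 1 = p * 2 ^ i - (2 ^ (k + i) - 1) := by rw [hk']; ring
      rw [this]
      exact dvd_sub (dvd_mul_right _ _) h4
    have := Int.le_of_dvd (by positivity) h3
    omega

/-- an odd number below a Fermat prime which is `± 2^i` is `1` or above `p / 2` -/
theorem odd_fermat {p k m : ℕ} (hk : p = 2 ^ k + 1) (h0 : 0 < k) (hm : Odd m) (hmp : m < p)
    (a : ℕ) (h : (2 : ℤ) ^ a * m ≡ 1 [ZMOD p] ∨ (2 : ℤ) ^ a * m ≡ -1 [ZMOD p]) :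
    m = 1 ∨ p < 2 * m := by
  have hk' : (p : ℤ) = 2 ^ k + 1 := by exact_mod_cast hk
  have h1 : (2 : ℤ) ^ k ≡ -1 [ZMOD p] := Int.modEq_iff_dvd.2 ⟨-1, by rw [hk']; ring⟩
  have key : ∀ a : ℕ, ∃ i < k, (2 : ℤ) ^ a ≡ 2 ^ i [ZMOD p] ∨ (2 : ℤ) ^ a ≡ -2 ^ i [ZMOD p] := by
    intro a
    refine ⟨a % k, Nat.mod_lt _ h0, ?_⟩
    have h2 : (2 : ℤ) ^ a ≡ (-1) ^ (a / k) * 2 ^ (a % k) [ZMOD p] := by
      conv_lhs => rw [← Nat.div_add_mod a k, pow_add, pow_mul]
      exact (h1.pow _).mul_right _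
    rcases neg_one_pow_eq_or ℤ (a / k) with h3 | h3 <;> rw [h3] at h2 <;> simp at h2 <;> simp [h2]
  obtain ⟨i, hi, h2⟩ := key (a * (2 * k - 1))
  have h3 : (2 : ℤ) ^ (a * (2 * k - 1)) * (2 ^ a * m) ≡ m [ZMOD p] := by
    rw [← mul_assoc, ← pow_add, show a * (2 * k - 1) + a = k * (2 * a) by
      obtain ⟨l, rfl⟩ : ∃ l, k = l + 1 := ⟨k - 1, by omega⟩
      rw [show 2 * (l + 1) - 1 = 2 * l + 1 by omega]; ring, pow_mul]
    simpa [pow_mul] using ((h1.pow (2 * a)).mul_right (m : ℤ))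
  have h4 : (m : ℤ) ≡ 2 ^ i [ZMOD p] ∨ (m : ℤ) ≡ -2 ^ i [ZMOD p] := by
    rcases h with h | h <;> rcases h2 with h2 | h2 <;> have := h3.symm.trans (h2.mul h) <;>
      simp at this <;> simp [this]
  have h5 : (2 : ℤ) * 2 ^ i ≤ 2 ^ k := by
    rw [← pow_succ']; exact pow_le_pow_right₀ one_le_two hi
  have h6 : (0 : ℤ) < 2 ^ i := by positivity
  have h7 := hm.pos
  rcases h4 with h4 | h4
  · have h8 : (m : ℤ) = 2 ^ i := by
      have := Int.eq_zero_of_abs_lt_dvd h4.dvd (by rw [abs_lt]; omega)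
      omega
    have h9 : m = 2 ^ i := by exact_mod_cast h8
    rcases i with _ | i
    · exact Or.inl (by simpa using h9)
    · exact absurd hm (by rw [h9, pow_succ']; simp)
  · have h8 : (p : ℤ) ∣ m + 2 ^ i := by
      have := h4.symm.dvd
      rwa [sub_neg_eq_add] at this
    have := Int.le_of_dvd (by omega) h8
    omega

variable {G : Type*} [Group G] [Finite G] {p : ℕ} [hp : Fact p.Prime] {P : Subgroup G} {e : ℕ}

/-- block intersection with the principal `2`-block of a simple group -/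
theorem bt_two [IsSimpleGroup G] (hna : ∃ a b : G, a * b ≠ b * a) (B : PB G p P e)
    (hC : Cen P = P) (h2 : p ≠ 2) (h1 : triv G ∈ B.X) {θ : IrrCharacter G} (hθ : θ ∈ B.Y)
    {b d : ℕ} (hG : Nat.card G = p * 2 ^ b * d) (hd : Odd d) :
    ∃ S ⊆ B.X, triv G ∈ S ∧ (∀ χ ∈ S, ∀ k, dg χ = 2 ^ k → χ = triv G) ∧
      ((2 : ℤ) ^ b ∣ ∑ χ ∈ S, B.ε χ * (dg χ : ℤ) ∨
        (2 : ℤ) ^ b ∣ ∑ χ ∈ S, B.ε χ * (dg χ : ℤ) - B.δ * dg θ) := by
  classical
  obtain ⟨M, hM⟩ := H33.exists_isPModular 2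
  haveI := H33.isMaximal_of hM
  have h := PB_brauerTuan B h2 (no_elt_of_not_dvd B.card B.ind (by
    rw [show Subgroup.centralizer (P : Set G) = P from hC, B.card]
    exact fun h => h2 ((Nat.prime_dvd_prime_iff_eq Nat.prime_two hp.out).1 h).symm)) hM h1 hθ
  have hb : (Nat.card G).factorization 2 = b := by
    rw [hG, mul_right_comm, Nat.factorization_mul (Nat.mul_pos hp.out.pos hd.pos).ne'
      (by positivity), Finsupp.add_apply, Nat.factorization_eq_zero_of_not_dvd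
      (Odd.not_two_dvd_nat ((hp.out.odd_of_ne_two h2).mul hd)), Nat.factorization_pow_self
      Nat.prime_two, zero_add]
  rw [hb] at h
  refine ⟨_, Finset.filter_subset _ _, Finset.mem_filter.2 ⟨h1, irrOne_mem_principal⟩,
    fun χ hχ k hk => Subtype.ext (Cfsg.Agent.S0910.result 2 M hM hna χ (Finset.mem_filter.1 hχ).2 k
      (by rw [dg_cast, hk]; simp)), ?_⟩
  split_ifs at h
  · exact Or.inr h
  · exact Or.inl (by simpa using h)

theorem perfect_of_simple [IsSimpleGroup G] (hna : ∃ a b : G, a * b ≠ b * a) :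
    commutator G = ⊤ := (Subgroup.Normal.eq_bot_or_eq_top inferInstance).resolve_left fun h => by
  obtain ⟨a, b, hab⟩ := hna
  exact hab (((commutator_eq_bot_iff G).1 h).is_comm.comm a b)

theorem index_Nor_modEq (B : PB G p P e) : (Nor P).index ≡ 1 [MOD p] :=
  card_sylow_eq B ▸ card_sylow_modEq_one p G

theorem bt_delta_one [IsSimpleGroup G] (hna : ∃ a b : G, a * b ≠ b * a) (B : PB G p P e)
    (hC : Cen P = P) (he : e < p - 1) (hδ : B.δ = 1) {θ : IrrCharacter G} (hθ : θ ∈ B.Y)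
    (hd : dg θ = e) {q b g : ℕ} (hq : q.Prime) (hG : Nat.card G = p * q ^ b * g) (hg : g < p - 1)
    (heg : e ∣ g) (hqg : ¬ q ∣ g) (hX : ∀ χ ∈ B.X, χ ≠ triv G → q ∣ dg χ) :
    ∃ (m : ℕ) (F : Type) (_ : Field F) (_ : Fintype F), Fintype.card F = p ∧ p = 2 ^ m - 1 ∧
      Nonempty (G ≃* PSL(2, F)) := by
  classical
  have hperf := perfect_of_simple hna
  have he1 := e_ne_one B hperf
  have he0 := B.e_pos
  have h1 := triv_mem_X B he
  obtain ⟨hpe, hdeg⟩ := delta_one B hC he (by omega) (fun χ _ h => eq_triv_of_dg hna h) hδ hθ hd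
  obtain ⟨Xp, Xm, hp', hm', hs, hc⟩ := X_split B h1
  have hdp : ∀ χ ∈ Xp, dg χ = p + 1 := fun χ h => by
    obtain ⟨a, b, c⟩ := hp' χ h
    rcases hdeg χ a b with h | h <;> omega
  have hdm : ∀ χ ∈ Xm, dg χ = 2 * e := fun χ h => by
    obtain ⟨a, b, c⟩ := hm' χ h
    rcases hdeg χ a b with h | h <;> omega
  have h2 := hs fun χ => (χ : G → ℂ) 1
  rw [← B.rel θ hθ 1 PB.reg_one, sum_dg hdp, sum_dg hdm, hδ, dg_cast, hd, triv_apply, ← hpe] at h2
  have h3 : (e : ℤ) = 1 + Xp.card * (2 * e + 1 + 1) - Xm.card * (2 * e) := by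
    have : ((e : ℤ) : ℂ) = (1 + Xp.card * (2 * e + 1 + 1) - Xm.card * (2 * e) : ℤ) := by
      push_cast at h2 ⊢; linear_combination h2
    exact_mod_cast this
  have h4 : Xp.card = Xm.card := by
    have : ((Xp.card : ℤ) - Xm.card) * (2 * e + 1) = 0 := by zify at hc; linear_combination hc - h3
    have := (mul_eq_zero.1 this).resolve_right (by positivity)
    omega
  obtain ⟨χ, hχ⟩ := Finset.card_pos.1 (show 0 < Xp.card by omega)
  obtain ⟨ψ, hψ⟩ := Finset.card_pos.1 (show 0 < Xm.card by omega)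
  have h5 := hX χ (hp' χ hχ).1 (hp' χ hχ).2.1
  have h6 := hX ψ (hm' ψ hψ).1 (hm' ψ hψ).2.1
  rw [hdp χ hχ, ← hpe, add_assoc] at h5
  rw [hdm ψ hψ] at h6
  obtain rfl : q = 2 := (Nat.prime_dvd_prime_iff_eq hq Nat.prime_two).1 ((Nat.dvd_add_right h6).1 h5)
  obtain rfl : g = e := by
    obtain ⟨c, rfl⟩ := heg
    rcases c with _ | _ | c
    · simp at hqg
    · simp
    · nlinarith [show p - 1 = 2 * e by omega]
  have hodd : Odd g := Nat.odd_iff.2 (by omega)
  have hn : (Nor P).index = 2 ^ b := by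
    have := card_eq_of_selfcent B hC
    rw [hG, mul_assoc, mul_comm _ g] at this
    exact (Nat.eq_of_mul_eq_mul_left he0 (Nat.eq_of_mul_eq_mul_left hp.out.pos this)).symm
  have h7 := dvd_index_X B (hp' χ hχ).1
  rw [hdp χ hχ, show (Subgroup.centralizer (P : Set G)).index = _ from index_Cen B, hn] at h7
  obtain ⟨m, hmb, hm⟩ := (Nat.dvd_prime_pow Nat.prime_two).1 (Nat.Coprime.dvd_of_dvd_mul_left (by
    rw [show p + 1 = 2 * (g + 1) by omega]
    exact Nat.Coprime.mul_left (Nat.coprime_two_left.2 hodd) (by simp)) h7)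
  obtain ⟨c, rfl⟩ := Nat.exists_eq_add_of_le hmb
  obtain ⟨S, hS, hS1, hS2, hS3⟩ := bt_two hna B hC (by omega) h1 hθ hG hodd
  have h8 : ∑ χ ∈ S, B.ε χ * (dg χ : ℤ) = 1 - (S.erase (triv G)).card * (2 * g) := by
    rw [← Finset.add_sum_erase _ _ hS1, B.ε_triv h1, dg_triv, Finset.sum_congr rfl
      (g := fun _ => -(2 * g : ℤ)), Finset.sum_const]
    · simp; ring
    · intro χ hχ
      obtain ⟨a, b⟩ := Finset.mem_erase.1 hχ
      rcases hdeg χ (hS b) a with h | h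
      · exact absurd (hS2 χ b m (h.2.trans hm)) a
      · rw [h.1, show dg χ = 2 * g by omega]; simp
  have h9 : (S.erase (triv G)).card < g :=
    (Finset.card_erase_lt_of_mem hS1).trans_le (B.cardX ▸ Finset.card_le_card hS)
  generalize (S.erase (triv G)).card = γ at h8 h9
  have hm' : (2 : ℤ) ^ m = 2 * g + 2 := by zify at hm hpe; omega
  rw [h8, pow_add, hm', hδ, hd] at hS3
  have h10 : 2 ^ c < p := by
    rcases hS3 with h | h
    · obtain ⟨k, hk⟩ := h
      have : (1 : ℤ) = 2 * (γ * g + (g + 1) * 2 ^ c * k) := by linear_combination hk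
      omega
    · have h11 := Int.le_of_dvd (by
        have : (0 : ℤ) ≤ γ * (2 * g) := by positivity
        omega) (dvd_neg.2 h)
      zify at h9 hpe ⊢
      nlinarith
  have h11 := index_Nor_modEq B
  rw [hn, pow_add, ← hm, add_mul, one_mul] at h11
  have h12 : 2 ^ c = 1 := Nat.ModEq.eq_of_lt_of_lt
    (((Nat.modEq_zero_iff_dvd.2 (dvd_mul_right p _)).add_right _).symm.trans h11 |>.trans
      (Nat.ModEq.refl _) |> fun h => by simpa using h) h10 hp.out.one_lt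
  obtain ⟨F, _, _, hF, -, hi⟩ := psl2_of_card (G := G) (p := p) (e := g)
    (by rw [hG, pow_add, h12, ← hm]; ring) hpe he1
  exact ⟨m, F, _, _, hF, by omega, hi⟩

theorem sum_le_sq (B : PB G p P e) (he : e < p - 1) {θ : IrrCharacter G} (h : θ ∈ B.Y) :
    (∀ χ ∈ B.X, B.ε χ = -1 → dg χ ≤ dg θ * dg θ) ∧ ∀ S ⊆ B.X, (∀ χ ∈ S, B.ε χ = 1) →
      ∑ χ ∈ S, dg χ ≤ dg θ * dg θ := by
  classical
  obtain ⟨θ', h', hne⟩ := exists_ne_Y B he θ
  obtain ⟨m, hm⟩ := H6.char_eq_sum_irr (isCharacter_mul_conj (irr_chr θ) (irr_chr θ))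
  obtain ⟨m', hm'⟩ := H6.char_eq_sum_irr (isCharacter_mul_conj (irr_chr θ') (irr_chr θ))
  refine ⟨fun χ hχ hε => ?_, fun S hS hε => ?_⟩
  · have h1 := xi_trick B h h' hne hm hm' hχ
    have h2 := deg_mul_conj hm'
    rw [B.dgY h' h] at h2
    rw [← h2]
    exact (Nat.le_mul_of_pos_left _ (by omega)).trans (Finset.single_le_sum
      (f := fun χ => m' χ * dg χ) (fun _ _ => Nat.zero_le _) (Finset.mem_univ χ))
  · rw [← deg_mul_conj hm]
    refine (Finset.sum_le_sum fun χ hχ => Nat.le_mul_of_pos_left _ ?_).trans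
      (Finset.sum_le_sum_of_subset (f := fun χ => m χ * dg χ) (Finset.subset_univ S))
    have h1 := xi_trick B h h' hne hm hm' (hS hχ)
    rw [hε χ hχ] at h1
    omega

theorem bt_fermat [IsSimpleGroup G] (hna : ∃ a b : G, a * b ≠ b * a) (B : PB G p P e)
    (hC : Cen P = P) (he : e < p - 1) (hδ : B.δ = -1) {θ : IrrCharacter G} (hθ : θ ∈ B.Y)
    (hd : dg θ + e = p) {b c : ℕ} (hG : Nat.card G = p * 2 ^ b * dg θ) (hc : e = 2 ^ (c + 2)) :
    (∃ k, p = 2 ^ k + 1) ∧ Nat.card G < p ^ 3 := by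
  classical
  obtain ⟨t, ht⟩ := B.e_dvd
  have hp2 := hp.out.two_le
  have he0 := B.e_pos
  have h2t : 2 ≤ t := by
    by_contra h
    have : e * t ≤ e * 1 := Nat.mul_le_mul_left e (by omega)
    omega
  have h4 : 4 ∣ e := ⟨2 ^ c, by rw [hc]; ring⟩
  have h1 := dvd_of_delta_neg B hC (perfect_of_simple hna) hδ hθ hd h4
    (t := t) (by rw [mul_comm]; omega) h2t
  obtain ⟨s, -, hs⟩ := (Nat.dvd_prime_pow Nat.prime_two).1 (hc ▸ h1)
  obtain ⟨k, hk⟩ : ∃ k, k = c + 2 + s := ⟨_, rfl⟩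
  have hpk : p = 2 ^ k + 1 := by rw [hk, pow_add, ← hc, ← hs]; omega
  refine ⟨⟨k, hpk⟩, ?_⟩
  have he4 := Nat.le_of_dvd he0 h4
  have hodd : Odd (dg θ) := by
    have := hp.out.odd_of_ne_two (by omega)
    rw [Nat.odd_iff] at this ⊢
    omega
  have hdz : (dg θ : ℤ) ≡ -2 ^ (c + 2) [ZMOD p] :=
    Int.modEq_iff_dvd.2 ⟨-1, by zify at hd hc; rw [← hc, ← hd]; ring⟩
  have hi : (Cen P).index = 2 ^ b * dg θ := by
    have := (Cen P).card_mul_index
    rw [hG, mul_assoc, hC, B.card] at this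
    rw [hC]
    exact Nat.eq_of_mul_eq_mul_left hp.out.pos this
  obtain ⟨hm, hpl⟩ := sum_le_sq B he hθ
  obtain ⟨S, hS, hS1, hS2, hS3⟩ := bt_two hna B hC (by omega) (triv_mem_X B he) hθ hG hodd
  have hε : ∀ χ ∈ S, B.ε χ = 1 := fun χ hχ => (B.sgn χ (hS hχ)).resolve_right fun h => by
    obtain ⟨a, m, hmo, ha⟩ := Nat.exists_eq_two_pow_mul_odd (dg_pos χ).ne'
    have h5 := B.degX χ (hS hχ)
    have h6 : m ∣ dg θ := ((Nat.coprime_two_right.2 hmo).pow_right b).dvd_of_dvd_mul_left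
      (hi ▸ (Dvd.intro_left _ ha.symm).trans (dvd_index_X B (hS hχ)))
    have h7 := Nat.le_of_dvd hodd.pos h6
    rw [h, ha] at h5
    rcases odd_fermat hpk (by omega) hmo (by omega) a (Or.inr (by exact_mod_cast h5)) with h8 | h8
    · rw [hS2 χ hχ a (by rw [ha, h8, mul_one]), B.ε_triv (triv_mem_X B he)] at h
      omega
    · obtain rfl : m = dg θ := by
        obtain ⟨u, hu⟩ := h6
        rcases u with _ | _ | u
        · have := hodd.pos; omega
        · omega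
        · nlinarith
      have h9 := hm χ (hS hχ) h
      rw [ha] at h9
      have h10 : a < k := (pow_lt_pow_iff_right₀ one_lt_two).1
        (show 2 ^ a < 2 ^ k by have := Nat.le_of_mul_le_mul_right h9 hodd.pos; omega)
      refine two_pow_ne_one hpk (j := a + (c + 2)) (by omega) (by omega) ?_
      push_cast at h5
      rw [pow_add]
      simpa using ((hdz.mul_left _).symm.trans h5).neg
  have h5 : ∑ χ ∈ S, B.ε χ * (dg χ : ℤ) = (∑ χ ∈ S, dg χ : ℕ) := by
    push_cast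
    exact Finset.sum_congr rfl fun χ hχ => by rw [hε χ hχ, one_mul]
  have h6 := hpl S hS hε
  have h7 : 0 < ∑ χ ∈ S, dg χ := Finset.sum_pos (fun χ _ => dg_pos χ) ⟨_, hS1⟩
  rw [h5, hδ] at hS3
  generalize ∑ χ ∈ S, dg χ = σ at h6 h7 hS3
  have h8 : 2 ^ b ≤ dg θ * dg θ + dg θ := by
    rcases hS3 with h | h <;> have := Int.le_of_dvd (by omega) h <;> zify at h6 ⊢ <;> omega
  have h9 : b < 2 * k := (pow_lt_pow_iff_right₀ one_lt_two).1
    (show 2 ^ b < 2 ^ (2 * k) by rw [two_mul, pow_add]; nlinarith)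
  have hb : b ≤ k := by
    by_contra h
    obtain ⟨i, rfl⟩ : ∃ i, b = k + i := ⟨b - k, by omega⟩
    refine two_pow_ne_one hpk (j := i) (by omega) (by omega) ?_
    have h10 := (Int.natCast_modEq_iff.2 (index_Nor_modEq B)).mul_left e
    have h11 : (e : ℤ) * (Nor P).index = e * 2 ^ i + p * (2 ^ (k + i) - e * 2 ^ i) := by
      have := (index_Cen B).symm.trans hi
      zify at this hd hpk
      rw [this, pow_add, show (dg θ : ℤ) = p - e by omega, hpk]; ring
    rw [h11] at h10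
    have h12 : (e : ℤ) * 2 ^ i ≡ e * 1 [ZMOD p] := by simpa using h10
    have h13 := h12.dvd
    rw [← mul_sub] at h13
    exact Int.modEq_iff_dvd.2 (((Nat.prime_iff_prime_int.1 hp.out).dvd_or_dvd h13).resolve_left
      fun h => by have := Int.le_of_dvd (by omega) h; omega)
  have h10 : 2 ^ b ≤ 2 ^ k := Nat.pow_le_pow_right two_pos hb
  rw [hG, pow_succ, pow_two]
  exact Nat.mul_lt_mul_of_le_of_lt (Nat.mul_le_mul_left _ (by omega)) (by omega) (by positivity)

theorem psl_of_sl {m : ℕ} {F : Type} [Field F] [Fintype F] (hF : Fintype.card F = 2 ^ m)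
    (h : Nonempty (G ≃* SL(2, F))) : Nonempty (G ≃* PSL(2, F)) := by
  obtain ⟨f⟩ := h
  refine ⟨f.trans (H64.SL2.projEquiv ?_)⟩
  have := FiniteField.cast_card_eq_zero F
  rw [hF, Nat.cast_pow, Nat.cast_ofNat] at this
  exact (pow_eq_zero_iff'.1 this).1

theorem bt_delta_neg [IsSimpleGroup G] (hG' : ¬ IsCyclic G) (hna : ∃ a b : G, a * b ≠ b * a)
    {P : Sylow p G} (B : PB G p P e) (hC : Cen (P : Subgroup G) = P) (he : e < p - 1)
    (hδ : B.δ = -1) {θ : IrrCharacter G} (hθ : θ ∈ B.Y) (hd : dg θ + e = p) {q b g : ℕ}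
    (hq : q.Prime) (hG : Nat.card G = p * q ^ b * g) (hg : g < p - 1) (hdg : dg θ ∣ g)
    (hX : ∀ χ ∈ B.X, χ ≠ triv G → q ∣ dg χ) :
    (∃ (m : ℕ) (F : Type) (_ : Field F) (_ : Fintype F), Fintype.card F = p ∧ p = 2 ^ m + 1 ∧
      Nonempty (G ≃* PSL(2, F))) ∨ ∃ (m : ℕ) (F : Type) (_ : Field F) (_ : Fintype F),
      Fintype.card F = 2 ^ m ∧ p = 2 ^ m + 1 ∧ 3 < p ∧ Nonempty (G ≃* PSL(2, F)) := by
  classical
  have he1 := e_ne_one B (perfect_of_simple hna)
  have he0 := B.e_pos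
  have h1 := triv_mem_X B he
  have h2 := two_mul_le B he
  obtain rfl : g = dg θ := by
    obtain ⟨c, rfl⟩ := hdg
    rcases c with _ | _ | c
    · have := Nat.card_pos (α := G); simp at hG; omega
    · simp
    · nlinarith [show p - 1 < 2 * dg θ by omega]
  have h3 := B.deg_eq hθ
  rw [← Finset.add_sum_erase _ _ h1, B.ε_triv h1, dg_triv, hδ] at h3
  have h4 : (q : ℤ) ∣ dg θ + 1 := by
    have := Finset.dvd_sum (s := B.X.erase (triv G)) (f := fun χ => B.ε χ * (dg χ : ℤ)) (a := q)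
      fun χ hχ => (Int.natCast_dvd_natCast.2 (hX χ (Finset.mem_erase.1 hχ).2
        (Finset.mem_erase.1 hχ).1)).mul_left _
    rwa [← dvd_neg, show -∑ χ ∈ B.X.erase (triv G), B.ε χ * (dg χ : ℤ) = dg θ + 1 by
      push_cast at h3; linear_combination h3] at this
  have h5 : e ∣ q ^ b := by
    have := card_eq_of_selfcent B hC
    rw [hG, mul_assoc] at this
    refine Nat.Coprime.dvd_of_dvd_mul_right ?_
      (Dvd.intro _ (Nat.eq_of_mul_eq_mul_left hp.out.pos this).symm)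
    rw [← Nat.coprime_add_self_right, hd]
    exact ((Nat.Prime.coprime_iff_not_dvd hp.out).2 fun h => by
      have := Nat.le_of_dvd he0 h; omega).symm
  obtain ⟨c, -, hc⟩ := (Nat.dvd_prime_pow hq).1 h5
  obtain ⟨c, rfl⟩ : ∃ c', c = c' + 1 := ⟨c - 1, by rcases c with _ | c <;> simp_all⟩
  have h6 : q ∣ e := hc ▸ dvd_pow_self q c.succ_ne_zero
  obtain rfl : q = 2 := by
    have h7 := h6.trans B.e_dvd
    rw [show p - 1 = dg θ + 1 + (e - 2) by omega, Nat.dvd_add_right (by exact_mod_cast h4)] at h7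
    refine (Nat.prime_dvd_prime_iff_eq hq Nat.prime_two).1 ((Nat.dvd_add_right h7).1 ?_)
    rwa [show e - 2 + 2 = e by omega]
  rcases c with _ | c
  · obtain rfl : e = 2 := by simpa using hc
    obtain ⟨χ, hχ⟩ := Finset.card_eq_one.1 (show (B.X.erase (triv G)).card = 1 by
      rw [Finset.card_erase_of_mem h1, B.cardX])
    have hm := Finset.mem_erase.1 (hχ ▸ Finset.mem_singleton_self χ : χ ∈ B.X.erase (triv G))
    rw [hχ, Finset.sum_singleton] at h3
    have h7 : dg χ = p - 1 := by rcases B.sgn χ hm.2 with h | h <;> rw [h] at h3 <;> omega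
    obtain ⟨a, F, _, _, h8, hF, hi⟩ := sl2_of_degree (by omega) P (by
      rw [show Nat.card (Subgroup.normalizer _) = _ from card_Nor_eq B, hC, B.card, mul_comm])
      hC χ h7 fun g h => eq_one_of_apply_eq hm.1 (h.trans (dg_cast χ))
    exact Or.inr ⟨a, F, _, _, hF, h8, by omega, psl_of_sl hF hi⟩
  · obtain ⟨⟨k, hk⟩, h7⟩ := bt_fermat hna B hC he hδ hθ hd hG hc
    refine (Cfsg.Agent.S0999.result hG' p hp.out (by rw [hG, mul_assoc]; exact dvd_mul_right _ _)
      h7).imp ?_ id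
    rintro ⟨F, _, _, hF, -, hi⟩
    exact ⟨k, F, _, _, hF, hk, hi⟩

/-- Brauer–Tuan -/
theorem brauerTuan_one [IsSimpleGroup G] (hG' : ¬ IsCyclic G) {q b g : ℕ} (hq : q.Prime)
    (hpq : p ≠ q) (hG : Nat.card G = p * q ^ b * g) (hg : g < p - 1) :
    (∃ (m : ℕ) (F : Type) (_ : Field F) (_ : Fintype F), Fintype.card F = p ∧
      (p = 2 ^ m + 1 ∨ p = 2 ^ m - 1) ∧ Nonempty (G ≃* PSL(2, F))) ∨
    ∃ (m : ℕ) (F : Type) (_ : Field F) (_ : Fintype F),
      Fintype.card F = 2 ^ m ∧ p = 2 ^ m + 1 ∧ 3 < p ∧ Nonempty (G ≃* PSL(2, F)) := by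
  classical
  haveI := Fintype.ofFinite G
  have hg0 : g ≠ 0 := by rintro rfl; have := Nat.card_pos (α := G); omega
  wlog hqg : ¬ q ∣ g generalizing b g
  · obtain ⟨a, g', h1, rfl⟩ := Nat.exists_eq_pow_mul_and_not_dvd hg0 q hq.ne_one
    refine this (b := b + a) (g := g') (by rw [hG]; ring)
      ((Nat.le_mul_of_pos_left _ (pow_pos hq.pos a)).trans_lt hg) (by rintro rfl; simp at h1) h1
  have hna : ∃ a b : G, a * b ≠ b * a :=
    noncomm_of_not_prime fun h => hG' (haveI := Fact.mk h; isCyclic_of_prime_card rfl)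
  have hna' : ¬ IsMulCommutative G := fun h => by
    obtain ⟨a, b, hab⟩ := hna; exact hab (h.is_comm.comm a b)
  have hm : ¬ p ∣ q ^ b * g := fun h => ((Nat.Prime.dvd_mul hp.out).1 h).elim
    (fun h => hpq ((Nat.prime_dvd_prime_iff_eq hp.out hq).1 (hp.out.dvd_of_dvd_pow h)))
    fun h => by have := Nat.le_of_dvd (by omega) h; omega
  obtain ⟨P⟩ := (inferInstance : Nonempty (Sylow p G))
  have hP : Nat.card P = p := by
    rw [P.card_eq_multiplicity, hG, mul_assoc, Nat.factorization_mul hp.out.ne_zero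
      (by rintro h; simp [h] at hm), Finsupp.add_apply, Nat.factorization_eq_zero_of_not_dvd hm,
      hp.out.factorization_self, pow_one]
  obtain ⟨e, c, n, hc, hN, hn, hnm, -, -, he1, -, ⟨B⟩⟩ :=
    setup hna p (hG.trans (mul_assoc _ _ _)) hm P hP
  have hi : (Subgroup.centralizer ((P : Subgroup G) : Set G)).index ∣ q ^ b * g := by
    rw [show (Subgroup.centralizer ((P : Subgroup G) : Set G)).index = _ from index_Cen B, ← hnm,
      show (Nor (P : Subgroup G)).index = n from hn]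
    exact ⟨c, by ring⟩
  have hs : ∀ χ : IrrCharacter G, dg χ ∣ (Subgroup.centralizer ((P : Subgroup G) : Set G)).index →
      ¬ q ∣ dg χ → dg χ ∣ g := fun χ h1 h2 =>
    (((Nat.Prime.coprime_iff_not_dvd hq).2 h2).symm.pow_right b).dvd_of_dvd_mul_left (h1.trans hi)
  have hv : ∀ (χ : IrrCharacter G) (s : ℤ), s = 1 ∨ s = -1 →
      (∀ g, p ∣ orderOf g → (χ : G → ℂ) g = s) → χ ≠ triv G → q ∣ dg χ := fun χ s h1 h2 h3 => by
    by_contra h4
    have h5 := Nat.le_of_dvd (by omega) (hs χ (dvd_index_of_val B h1 h2) h4)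
    have h6 : dg χ ≠ 1 := fun h => h3 (eq_triv_of_dg hna h)
    obtain ⟨x, -, hx⟩ := B.exists_sing
    have h7 := (modEq_of_val (irr_chr χ) hp.out (k := 1) (g := x)
      (by rw [pow_one, ← hx, pow_orderOf_eq_one]) (h2 x hx.symm.dvd)).symm.dvd
    have h8 := dg_pos χ
    have := Int.le_of_dvd (by simp only [dg] at *; omega) h7
    simp only [dg] at *
    omega
  have hq1 : ¬ (q : ℤ) ∣ 1 := fun h => hq.one_lt.ne' (Nat.dvd_one.1 (by exact_mod_cast h))
  have he : e < p - 1 := by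
    refine lt_of_le_of_ne (Nat.le_of_dvd (by omega) B.e_dvd) fun he => hq1 ?_
    obtain ⟨Z, s, -, h0, -, h1, h2, h3⟩ := B.full he
    have h4 : ∑ χ ∈ Z, s χ * (dg χ : ℤ) = 0 := by
      have := h3 1 PB.reg_one
      simp only [dg_cast] at this
      exact_mod_cast this
    rw [← Finset.add_sum_erase _ _ h0, dg_triv, add_eq_zero_iff_eq_neg] at h4
    have h5 : (q : ℤ) ∣ s (triv G) * (1 : ℕ) := h4 ▸ dvd_neg.2 (Finset.dvd_sum fun χ hχ =>
      (Int.natCast_dvd_natCast.2 (hv χ _ ((h1 χ (Finset.mem_erase.1 hχ).2).imp And.left And.left)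
        (h2 χ (Finset.mem_erase.1 hχ).2) (Finset.mem_erase.1 hχ).1)).mul_left _)
    rcases h1 _ h0 with h | h <;> simpa [h.1] using h5
  have h1 := triv_mem_X B he
  have hX : ∀ χ ∈ B.X, χ ≠ triv G → q ∣ dg χ := fun χ h => hv χ _ (B.sgn χ h) (B.valX χ h)
  obtain ⟨θ, hθ⟩ := B.Y_nonempty
  have hd : dg θ ∣ g := hs θ (dvd_index_Y B hθ) fun h => hq1 (by
    have h3 := B.deg_eq hθ
    rw [← Finset.add_sum_erase _ _ h1, B.ε_triv h1, dg_triv, Nat.cast_one, mul_one,
      ← sub_eq_iff_eq_add] at h3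
    exact h3 ▸ dvd_sub ((Int.natCast_dvd_natCast.2 h).mul_left _) (Finset.dvd_sum fun χ hχ =>
      (Int.natCast_dvd_natCast.2 (hX χ (Finset.mem_erase.1 hχ).2
        (Finset.mem_erase.1 hχ).1)).mul_left _))
  have hd' := Nat.le_of_dvd (by omega) hd
  have hC : Cen (P : Subgroup G) = P := by
    obtain ⟨M, hM, hmem⟩ := B.blk
    obtain rfl : c = 1 := by
      by_contra h
      have := H4.stanton_principal hna' hM P hP hc h ((hmem θ).2 (Or.inr hθ))
        fun e : θ = triv G => Finset.disjoint_left.1 B.disj h1 (e ▸ hθ)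
      simp only [dg] at hd'
      omega
    exact (Subgroup.eq_of_le_of_card_ge (le_Cen_of_card hP) (hc.trans ((mul_one p).trans hP.symm)).le).symm
  have h2 := (B.degY θ hθ).dvd
  have h3 := dg_pos θ
  rcases B.dsgn with hδ | hδ <;> rw [hδ] at h2
  · have h4 : dg θ = e := by
      have := Int.eq_zero_of_abs_lt_dvd h2 (by rw [abs_lt]; omega)
      omega
    obtain ⟨m, F, _, _, hF, h5, h6⟩ := bt_delta_one hna B hC he hδ hθ h4 hq hG hg (h4 ▸ hd) hqg hX
    exact Or.inl ⟨m, F, _, _, hF, Or.inr h5, h6⟩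
  · have h4 : dg θ + e = p := by
      have := Int.eq_zero_of_abs_lt_dvd (h2.add (dvd_refl _)) (by rw [abs_lt]; omega)
      omega
    refine (bt_delta_neg hG' hna B hC he hδ hθ h4 hq hG hg hd hX).imp ?_ id
    rintro ⟨m, F, _, _, hF, h5, h6⟩
    exact ⟨m, F, _, _, hF, Or.inl h5, h6⟩

end H84
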