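import Mathlib
import Cfsg.Agent.Base
import Cfsg.Agent.Lib.Block.QuotRank
import Cfsg.Agent.Lib.Block.HeightBF
import Cfsg.Agent.Lib.Block.Induced
import Cfsg.Agent.Lib.H85.Contrib2

/-! Major subsections: existence, and bounds for the number of characters of a block in terms of
the minimum of the contribution form of the dominated block. -/

set_option autoImplicit false
set_option linter.unusedSectionVars false
set_option linter.style.haveILetI false

open Cfsg H33 H35 Finset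
open H86 (Cen Nor PQuot quotSet eS)
open H85 (lat qf)
open scoped ComplexConjugate

namespace H84

universe u

section exist

variable {G : Type*} [Group G] [Finite G] {p : ℕ} [hp : Fact p.Prime] {M : Ideal AlgInt}
  [M.IsMaximal] {B : Set (IrrCharacter G)} {D : Subgroup G}

/-- A subgroup containing `D C_G(D)` has a block with defect group `D` inducing `B`. -/
theorem exists_induced_defect (hM : IsPModular p M) (hB : IsPBlock M B)
    (hD : IsDefectGroup p M B D) {H : Subgroup G} (hDH : D ≤ H) (hCH : Cen D ≤ H) :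
    ∃ b : Set (IrrCharacter H), IsInducedBlock M H b B ∧
      IsDefectGroup p M b (D.subgroupOf H) := by
  have hDp := defect_isPGroup hD
  have hKN : D ⊔ Cen D ≤ Nor D := sup_le Subgroup.le_normalizer (Subgroup.centralizer_le_normalizer _)
  obtain ⟨e, he⟩ := (exists_induced_iff_br hM hDp le_sup_left le_sup_right hKN hB).2
    (defect_br_ne_zero hD)
  have hKH : D ⊔ Cen D ≤ H := sup_le hDH hCH
  have h1 : H ⊓ Cen D ≤ D ⊔ Cen D := inf_le_right.trans le_sup_right
  obtain ⟨f, hf⟩ := exists_inducedIn hM hDp le_sup_left h1 (le_inf hKH hKN) he.1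
  have hfB : IsInducedBlock M H f B := (isInducedBlock_iff_of_inducedIn hKH hf).1 he
  refine ⟨f, hfB, ?_⟩
  have hbr := (isInducedBlockIn_iff_br hM hDp le_sup_left h1 (le_inf hKH hKN) he.1 hfB.1).1 hf
  have hne : H86.br D (eS M H f) ≠ 0 := fun h0 => by
    rw [h0, zero_mul] at hbr
    exact (H86.isBlk_eS he.1).ne hbr.symm
  haveI := H33.charP hM
  obtain ⟨E, hE⟩ := exists_defectGroup p hfB.1
  have hE' := (H86.isDefectGroup_sub_iff hfB.1 E).1 hE
  rw [H86.isDefectGroup_subgroupOf_iff hfB.1 hDH]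
  refine hE'.of_card_le (H86.isBlk_eS hfB.1).inv hDH hDp hne ?_
  rw [Subgroup.card_map_of_injective H.subtype_injective, defect_card hM hfB.1 hE,
    defect_card hM hB hD]
  exact Nat.pow_le_pow_right hp.out.pos (blockDefect_le_of_induced hM hfB)

end exist

section latmin

variable {G : Type*} [Group G] [Fintype G] {p : ℕ} [hp : Fact p.Prime] {M : Ideal AlgInt}
  [M.IsMaximal] {B : Set (IrrCharacter G)}

/-- `μ` is a lower bound for the form `p ^ d [f, f]` on the nonzero vectors of the lattice. -/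
def LatMin (p : ℕ) {G : Type*} [Group G] [Fintype G] (B : Set (IrrCharacter G)) (μ : ℝ) : Prop :=
  ∀ f ∈ lat p B, f ≠ 0 → μ ≤ (qf p B f f).re

theorem latMin_one : LatMin p B 1 := fun _ hf h0 => H85.one_le_qf hf h0

theorem LatMin.of_quotSet {Z : Subgroup G} [Z.Normal] [Fintype (G ⧸ Z)] {μ : ℝ}
    (h : LatMin p (quotSet Z B) μ) (hM : IsPModular p M) (hB : IsPBlock M B)
    (hZ : IsPGroup p Z) (hc : PQuot p (Cen Z) ⊤) : LatMin p B μ := by
  have key : ∀ f ∈ lat p B, ∃ f' ∈ lat p (quotSet Z B), rinf p Z f' = f := by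
    intro f hf
    refine H85.lat_induction (P := fun f => ∃ f' ∈ lat p (quotSet Z B), rinf p Z f' = f)
      ⟨0, zero_mem _, map_zero _⟩ ?_ ?_ ?_ hf
    · intro χ hχ
      obtain ⟨n, hn⟩ := exists_reg_eq_sum_infl hM hB hZ hc hχ
      refine ⟨_, H85.mem_lat_iff.2 ⟨n, rfl⟩, ?_⟩
      rw [hn, map_sum]
      refine sum_congr rfl fun ψ _ => ?_
      rw [map_smul, rinf_reg, rinf_irr]
    · rintro _ _ _ _ ⟨f, hf, rfl⟩ ⟨f', hf', rfl⟩
      exact ⟨f + f', add_mem hf hf', map_add _ _ _⟩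
    · rintro _ _ ⟨f, hf, rfl⟩
      exact ⟨-f, neg_mem hf, map_neg _ _⟩
  intro f hf h0
  obtain ⟨f', hf', rfl⟩ := key f hf
  have h0' : f' ≠ 0 := fun h => h0 (by rw [h, map_zero])
  have := h f' hf' h0'
  have e1 := card_mul_inner_rinf_rinf hZ hc f' f'
  rw [reg_eq_self_of_mem (H85.mem_regSpan_of_lat hf')] at e1
  have e2 : ((p : ℂ)) ^ blockDefect p B = Nat.card Z * (p : ℂ) ^ blockDefect p (quotSet Z B) := by
    exact_mod_cast pow_defect_quotSet hM hB hZ hc
  rw [H85.qf_apply] at this ⊢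
  rw [e2, mul_comm (Nat.card Z : ℂ), mul_assoc, e1]
  exact this

variable {C : Subgroup G} [Fintype C] {b : Set (IrrCharacter C)} {u : G}

theorem LatMin.mul_card_le {μ : ℝ} (h : LatMin p b μ) (hμ : 0 ≤ μ) (hM : IsPModular p M)
    (hu : IsPElt p u) (hC : IsCen u C) (hind : IsInducedBlock M C b B)
    (hd : blockDefect p b = blockDefect p B) :
    μ * Nat.card B ≤ (p : ℝ) ^ blockDefect p B * blockRank p b := by
  have := H85.mul_card_le_form hM hu hC hind (qf p b) hμ h (bset B) subset_rfl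
    fun χ hχ => H85.sub_ne_zero_of_major hM hu hC hind hd (mem_bset.1 hχ)
  rw [H85.sum_qf_reg hM hind.1, card_bset, hd] at this
  exact_mod_cast this

theorem card_sq_le_of_heights (hM : IsPModular p M) (hu : IsPElt p u) (hC : IsCen u C)
    (hind : IsInducedBlock M C b B) (hh : ∀ χ ∈ B, blockHeight p B (χ : G → ℂ) = 0) :
    Nat.card B ^ 2 ≤ p ^ (2 * blockDefect p b) * blockRank p b := by
  obtain ⟨a, w, h⟩ := H85.exists_avg hM hu hC hind
  have h1 : ((Nat.card B : ℝ)) ^ 2 ≤ ∑ χ' ∈ bset B, ∑ χ ∈ bset B, w χ χ' := by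
    calc ((Nat.card B : ℝ)) ^ 2 = ∑ _χ' ∈ bset B, ∑ _χ ∈ bset B, (1 : ℝ) := by
          simp [card_bset, sq]
      _ ≤ _ := sum_le_sum fun χ' hχ' => sum_le_sum fun χ hχ =>
          h.one_le_w_of_height hM hu hC hind (mem_bset.1 hχ) (mem_bset.1 hχ')
            (hh _ (mem_bset.1 hχ)) (hh _ (mem_bset.1 hχ'))
  simp only [h.sum_w] at h1
  rw [← mul_sum, h.sum_a, ← mul_assoc, ← pow_add, ← two_mul] at h1
  exact_mod_cast h1

end latmin

section reduction

variable {G : Type u} [Group G] [Finite G] {p : ℕ} [hp : Fact p.Prime] {M : Ideal AlgInt}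
  [M.IsMaximal] {B : Set (IrrCharacter G)} {D : Subgroup G}

/-- The block of `C_G(y) / ⟨y⟩` dominated by a major subsection. -/
theorem exists_reduction (hM : IsPModular p M) (hB : IsPBlock M B) (hD : IsDefectGroup p M B D)
    (y : D) (hy : y ∈ Subgroup.center D) :
    ∃ (K : Type u) (_ : Group K) (_ : Fintype K) (c : Set (IrrCharacter K)) (φ : D →* K),
      IsPBlock M c ∧ IsDefectGroup p M c φ.range ∧ φ.ker = Subgroup.zpowers y ∧
      (∀ μ : ℝ, 0 ≤ μ → LatMin p c μ →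
        μ * Nat.card B ≤ (p : ℝ) ^ blockDefect p B * blockRank p c) ∧
      ((∀ χ ∈ B, blockHeight p B (χ : G → ℂ) = 0) →
        Nat.card B ^ 2 ≤ p ^ (2 * blockDefect p B) * blockRank p c) := by
  classical
  letI := Fintype.ofFinite G
  have hDp := defect_isPGroup hD
  have hu : IsPElt p (y : G) := by
    obtain ⟨k, hk⟩ := IsPGroup.iff_orderOf.1 hDp y
    exact ⟨k, by rw [Subgroup.orderOf_coe, hk]⟩
  obtain ⟨C, hC⟩ : ∃ C : Subgroup G, IsCen (y : G) C := ⟨_, isCen_singleton _⟩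
  letI := Fintype.ofFinite C
  have hDC : D ≤ C := fun g hg => (hC g).2 (by
    have := Subgroup.mem_center_iff.1 hy ⟨g, hg⟩
    exact (congrArg Subtype.val this).symm)
  have hCC : Cen D ≤ C := fun g hg => (hC g).2 (Subgroup.mem_centralizer_iff.1 hg y y.2)
  obtain ⟨b, hb, hbD⟩ := exists_induced_defect hM hB hD hDC hCC
  have hd := H85.defect_eq_of_subgroupOf hM hb hD hDC hbD
  let y' : C := ⟨y, hDC y.2⟩
  have hy' : Subgroup.zpowers y' ≤ Subgroup.center C := by
    rw [Subgroup.zpowers_le, Subgroup.mem_center_iff]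
    exact fun g => Subtype.ext ((hC g).1 g.2).symm
  haveI : (Subgroup.zpowers y').Normal := ⟨fun n hn g => by
    rwa [Subgroup.mem_center_iff.1 (hy' hn) g, mul_inv_cancel_right]⟩
  have hZ : IsPGroup p (Subgroup.zpowers y') := by
    obtain ⟨k, hk⟩ := hu
    refine IsPGroup.of_card (n := k) ?_
    rw [Nat.card_zpowers, ← Subgroup.orderOf_coe, hk]
  have hc := H86.pQuot_of_le_center (p := p) hy'
  letI := Fintype.ofFinite (C ⧸ Subgroup.zpowers y')
  refine ⟨C ⧸ Subgroup.zpowers y', inferInstance, inferInstance, quotSet _ b,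
    (QuotientGroup.mk' _).comp (Subgroup.inclusion hDC), H86.isPBlock_quotSet hM hb.1 hZ hc, ?_, ?_,
    ?_, ?_⟩
  · rw [MonoidHom.range_comp, Subgroup.inclusion_range]
    exact H86.isDefectGroup_quotSet hM hb.1 hZ hc hbD
  · ext g
    rw [MonoidHom.mem_ker, MonoidHom.comp_apply, QuotientGroup.mk'_apply, QuotientGroup.eq_one_iff]
    constructor
    · rintro ⟨n, hn⟩
      exact ⟨n, Subtype.ext (by simpa using congrArg Subtype.val hn)⟩
    · rintro ⟨n, rfl⟩
      exact ⟨n, Subtype.ext (by simp [y'])⟩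
  · intro μ hμ h
    rw [blockRank_quotSet hM hb.1 hZ hc]
    exact (h.of_quotSet hM hb.1 hZ hc).mul_card_le hμ hM hu hC hb hd
  · intro hh
    rw [blockRank_quotSet hM hb.1 hZ hc, ← hd]
    exact card_sq_le_of_heights hM hu hC hb hh

end reduction

section signs

theorem le_form_int {ι : Type*} (X : Finset ι) (a : ι → ℤ) {t : ℤ} (ht : 1 ≤ t) {i : ι}
    (hi : i ∈ X) (h0 : a i ≠ 0) :
    (X.card : ℤ) ≤ (X.card * t + 1) * ∑ j ∈ X, a j ^ 2 - t * (∑ j ∈ X, a j) ^ 2 := by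
  classical
  have e1 : ∑ j ∈ X, a j = ∑ j ∈ X.filter (a · ≠ 0), a j := by
    rw [sum_filter_ne_zero]
  have e2 : ∑ j ∈ X, a j ^ 2 = ∑ j ∈ X.filter (a · ≠ 0), a j ^ 2 := by
    rw [sum_filter]; exact sum_congr rfl fun j _ => by by_cases h : a j = 0 <;> simp [h]
  have h1 := sq_sum_le_card_mul_sum_sq (s := X.filter (a · ≠ 0)) (f := a)
  have h2 : ((X.filter (a · ≠ 0)).card : ℤ) ≤ ∑ j ∈ X.filter (a · ≠ 0), a j ^ 2 := by
    rw [card_eq_sum_ones, Nat.cast_sum]
    refine sum_le_sum fun j hj => ?_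
    have := (mem_filter.1 hj).2
    have : 0 < a j ^ 2 := by positivity
    push_cast; omega
  have h3 : ((X.filter (a · ≠ 0)).card : ℤ) ≤ X.card := by exact_mod_cast card_filter_le _ _
  have h4 : (1 : ℤ) ≤ (X.filter (a · ≠ 0)).card := by
    exact_mod_cast card_pos.2 ⟨i, mem_filter.2 ⟨hi, h0⟩⟩
  rw [← e1, ← e2] at h1
  rw [← e2] at h2
  generalize ∑ j ∈ X, a j ^ 2 = Q at *
  generalize (∑ j ∈ X, a j) ^ 2 = A at *
  generalize ((X.filter (a · ≠ 0)).card : ℤ) = s at *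
  generalize (X.card : ℤ) = e at *
  have h5 : 0 ≤ t * (s * Q - A) := mul_nonneg (by omega) (by omega)
  have h6 : 1 ≤ t * Q := by nlinarith
  have h7 : 0 ≤ (e - s) * (t * Q - 1) := mul_nonneg (by omega) (by omega)
  nlinarith

variable {G : Type*} [Group G] [Fintype G] {p : ℕ} [hp : Fact p.Prime] {M : Ideal AlgInt}
  [M.IsMaximal] {B : Set (IrrCharacter G)}

/-- The shape of a block with cyclic defect group gives the minimum of the form. -/
theorem latMin_of_signs (hM : IsPModular p M) (hB : IsPBlock M B) {X Y : Set (IrrCharacter G)}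
    (hXY : B = X ∪ Y) (hdis : Disjoint X Y) (hY : Y.Nonempty)
    (hcard : Nat.card X * Nat.card Y + 1 = p ^ blockDefect p B)
    (hrank : blockRank p B = Nat.card X) {δ : IrrCharacter G → ℤ} {δ₀ : ℤ}
    (hδ : ∀ χ ∈ X, δ χ = 1 ∨ δ χ = -1) (hδ₀ : δ₀ = 1 ∨ δ₀ = -1)
    (hrel : ∀ ψ ∈ Y, ∀ g : G, ¬ p ∣ orderOf g →
      (δ₀ : ℂ) * (ψ : G → ℂ) g + ∑ χ ∈ bset X, (δ χ : ℂ) * (χ : G → ℂ) g = 0) :
    LatMin p B (Nat.card X) := by
  classical
  have hXB : ∀ χ ∈ X, χ ∈ B := fun χ h => hXY ▸ Or.inl h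
  have hYB : ∀ χ ∈ Y, χ ∈ B := fun χ h => hXY ▸ Or.inr h
  have hδ2 : ∀ χ ∈ bset X, (δ χ : ℂ) * δ χ = 1 := fun χ h => by
    rcases hδ χ (mem_bset.1 h) with h | h <;> simp [h]
  have hδ₀2 : (δ₀ : ℂ) * δ₀ = 1 := by rcases hδ₀ with h | h <;> simp [h]
  have hsplit : ∀ F : IrrCharacter G → G → ℂ,
      ∑ χ ∈ bset B, F χ = ∑ χ ∈ bset X, F χ + ∑ χ ∈ bset Y, F χ := by
    intro F
    rw [← sum_union]
    · congr 1; ext χ; simp [mem_bset, hXY]
    · rw [Finset.disjoint_left]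
      exact fun χ h h' => Set.disjoint_left.1 hdis (mem_bset.1 h) (mem_bset.1 h')
  generalize hr : (fun χ : IrrCharacter G => pRegularPart p (χ : G → ℂ)) = r
  have hr' : ∀ χ : IrrCharacter G, pRegularPart p (χ : G → ℂ) = r χ := fun χ => congrFun hr χ
  have h1 : ∀ ψ ∈ Y, r ψ = ∑ χ ∈ bset X, (-(δ₀ : ℂ) * δ χ) • r χ := by
    intro ψ hψ
    simp only [← hr', ← reg_smul, ← reg_sum]
    refine reg_ext fun g hg => ?_
    have := hrel ψ hψ g hg
    simp only [Finset.sum_apply, Pi.smul_apply, smul_eq_mul, mul_assoc, ← mul_sum]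
    linear_combination (δ₀ : ℂ) * this - (ψ : G → ℂ) g * hδ₀2
  have hcomb : ∀ c : IrrCharacter G → ℂ, ∑ χ ∈ bset B, c χ • r χ =
      ∑ χ ∈ bset X, (c χ - δ₀ * δ χ * ∑ ψ ∈ bset Y, c ψ) • r χ := by
    intro c
    rw [hsplit, sum_congr rfl fun ψ hψ => congrArg (c ψ • ·) (h1 ψ (mem_bset.1 hψ)),
      ← sum_smul, smul_sum, ← sum_add_distrib]
    refine sum_congr rfl fun χ _ => ?_
    rw [smul_smul, ← add_smul]; congr 1; ring
  have hli : LinearIndependent ℂ fun χ : bset X => r χ := by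
    rw [linearIndependent_iff_card_eq_finrank_span, Fintype.card_coe, card_bset, ← hrank,
      blockRank_eq_finrank, Set.finrank]
    refine congrArg (fun S : Submodule ℂ (G → ℂ) => Module.finrank ℂ S) ?_
    refine le_antisymm (Submodule.span_le.2 ?_) (Submodule.span_le.2 ?_)
    · rintro _ ⟨χ, hχ, rfl⟩
      rcases hXY ▸ hχ with h | h
      · exact Submodule.subset_span ⟨⟨χ, mem_bset.2 h⟩, (hr' χ).symm⟩
      · change pRegularPart p (χ : G → ℂ) ∈ _
        rw [hr', h1 χ h]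
        exact Submodule.sum_mem _ fun ξ hξ => Submodule.smul_mem _ _
          (Submodule.subset_span ⟨⟨ξ, hξ⟩, rfl⟩)
    · rintro _ ⟨χ, rfl⟩
      change r χ ∈ _
      rw [← hr']
      exact reg_mem_regSpan (hXB _ (mem_bset.1 χ.2))
  have hinj : ∀ c c' : IrrCharacter G → ℂ, ∑ χ ∈ bset X, c χ • r χ = ∑ χ ∈ bset X, c' χ • r χ →
      ∀ χ ∈ bset X, c χ = c' χ := by
    intro c c' h χ hχ
    rw [← sum_coe_sort, ← sum_coe_sort (bset X)] at h
    exact Fintype.linearIndependent_iffₛ.1 hli (fun χ => c χ) (fun χ => c' χ) h ⟨χ, hχ⟩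
  intro f hf h0
  obtain ⟨n, hn⟩ := H85.mem_lat_iff.1 hf
  simp only [hr'] at hn
  obtain ⟨a, ha⟩ : ∃ a : IrrCharacter G → ℤ, f = ∑ χ ∈ bset X, ((δ χ : ℂ) * a χ) • r χ := by
    refine ⟨fun χ => δ χ * n χ - δ₀ * ∑ ψ ∈ bset Y, n ψ, ?_⟩
    rw [hn, hcomb]
    refine sum_congr rfl fun χ hχ => ?_
    congr 1
    push_cast
    linear_combination -(n χ : ℂ) * hδ2 χ hχ
  have hfs := H85.mem_regSpan_of_lat hf
  have hin : ∀ χ : IrrCharacter G, classInner f (r χ) = classInner f χ := fun χ => by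
    rw [← hr', ← inner_reg_comm, reg_eq_self_of_mem hfs]
  have hf2 : f = ∑ χ ∈ bset B, classInner f χ • r χ := by
    simp only [← hr']
    rw [← reg_blockPart_eq_sum, (mem_regSpan_iff hM hB).1 hfs]
  generalize hc : (fun χ : IrrCharacter G => classInner f χ) = c
  have hc' : ∀ χ : IrrCharacter G, classInner f χ = c χ := fun χ => congrFun hc χ
  simp only [hc'] at hf2 hin
  rw [hcomb] at hf2
  have h2 := hinj _ _ (hf2.symm.trans ha)
  generalize hT : ∑ ψ ∈ bset Y, c ψ = T at h2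
  have h3 : ∀ ψ ∈ bset Y, c ψ = -δ₀ * ((∑ χ ∈ bset X, a χ : ℤ) + Nat.card X * δ₀ * T) := by
    intro ψ hψ
    rw [← hin, h1 ψ (mem_bset.1 hψ), H6.classInner_sum_right, ← card_bset]
    push_cast
    rw [mul_assoc, ← nsmul_eq_mul, ← sum_const, ← sum_add_distrib, mul_sum]
    refine sum_congr rfl fun χ hχ => ?_
    rw [H6.classInner_smul_right, hin, map_mul, map_neg, map_intCast, map_intCast]
    linear_combination (-(δ₀ : ℂ) * δ χ) * h2 χ hχ - δ₀ * (a χ + δ₀ * T) * hδ2 χ hχ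
  have h4 : T = Nat.card Y * (-δ₀ * ((∑ χ ∈ bset X, a χ : ℤ) + Nat.card X * δ₀ * T)) := by
    conv_lhs => rw [← hT, sum_congr rfl h3, sum_const, card_bset, nsmul_eq_mul]
  have h5 : classInner f f = (∑ χ ∈ bset X, a χ ^ 2 : ℤ) + δ₀ * T * (∑ χ ∈ bset X, a χ : ℤ) := by
    conv_lhs => arg 2; rw [ha]
    rw [H6.classInner_sum_right]
    push_cast
    rw [mul_sum, ← sum_add_distrib]
    refine sum_congr rfl fun χ hχ => ?_
    rw [H6.classInner_smul_right, hin, map_mul, map_intCast, map_intCast]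
    linear_combination ((δ χ : ℂ) * a χ) * h2 χ hχ + (a χ) * (a χ + δ₀ * T) * hδ2 χ hχ
  have h6 : qf p B f f = (((bset X).card * (Nat.card Y : ℤ) + 1) * ∑ χ ∈ bset X, a χ ^ 2 -
      (Nat.card Y : ℤ) * (∑ χ ∈ bset X, a χ) ^ 2 : ℤ) := by
    have e : (p : ℂ) ^ blockDefect p B = Nat.card X * Nat.card Y + 1 := by exact_mod_cast hcard.symm
    rw [H85.qf_apply, h5, e, card_bset]
    generalize (∑ χ ∈ bset X, a χ ^ 2 : ℤ) = Q at *
    generalize (∑ χ ∈ bset X, a χ : ℤ) = A at *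
    push_cast
    linear_combination (δ₀ : ℂ) * A * h4 -
      ((Nat.card Y : ℂ) * A * A + Nat.card X * Nat.card Y * δ₀ * T * A) * hδ₀2
  obtain ⟨i, hi, hi0⟩ : ∃ i ∈ bset X, a i ≠ 0 := by
    by_contra! h
    exact h0 (ha.trans (sum_eq_zero fun χ hχ => by simp [h χ hχ]))
  have ht : (1 : ℤ) ≤ Nat.card Y := by
    have := hY.to_subtype
    exact_mod_cast Nat.card_pos
  have := le_form_int (bset X) a ht hi hi0
  rw [h6, Complex.intCast_re, ← card_bset]
  exact_mod_cast this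

end signs

end H84
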