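import Mathlib
import Cfsg.Agent.Base
import Cfsg.Agent.Lib.Block.Major
import Cfsg.Agent.Lib.Block.Inert
import Cfsg.Agent.S4695
import Cfsg.Agent.S4696

/-! Consequences of the structure of blocks with cyclic defect group for `k(B)`. -/

set_option autoImplicit false
set_option linter.unusedSectionVars false
set_option linter.style.haveILetI false

open Cfsg H33 H35 Finset
open H86 (Cen Nor)

namespace H84

universe u

variable {p : ℕ} [hp : Fact p.Prime] {M : Ideal AlgInt} [M.IsMaximal]

/-- The stabilizer of a block of `C_G(D)` in `N_G(D)`, in the form used by the statements. -/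
theorem exists_inertial {G : Type*} [Group G] [Finite G] {D : Subgroup G}
    {b : Set (IrrCharacter (Cen D))} (hb : IsPBlock M b) :
    ∃ T : Subgroup G, ∀ g : G, g ∈ T ↔ (g ∈ Subgroup.normalizer (D : Set G) ∧
      ∀ θ ∈ b, ∀ θ' : IrrCharacter (Cen D), (∀ h h' : Cen D, (h' : G) = g * h * g⁻¹ →
        (θ' : Cen D → ℂ) h' = (θ : Cen D → ℂ) h) → θ' ∈ b) :=
  ⟨H86.stab (Nor D) (H86.eS M (Cen D) b), fun _ => H86.mem_stab.trans <| and_congr_right fun hg =>
    (stab_iff_cj hb (H86.mem_Nor_iff_cs.1 (H86.Nor_le_Nor_Cen D hg))).symm⟩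

theorem latMin_of_cyclic {G : Type*} [Group G] [Fintype G] (hM : IsPModular p M)
    {B : Set (IrrCharacter G)} (hB : IsPBlock M B) {D : Subgroup G} (hD : IsDefectGroup p M B D)
    (hc : IsCyclic D) : LatMin p B (blockRank p B) := by
  rcases Nat.eq_zero_or_pos (blockDefect p B) with h0 | h0
  · rw [blockRank_eq_one_of_defect_zero hM hB h0, Nat.cast_one]
    exact latMin_one
  have hDC : D ≤ Cen D := by
    letI := hc.commGroup
    exact fun x hx => Subgroup.mem_centralizer_iff.2 fun y hy =>
      congrArg Subtype.val (mul_comm (⟨y, hy⟩ : D) ⟨x, hx⟩)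
  obtain ⟨b, hb, -⟩ := exists_induced_defect hM hB hD hDC le_rfl
  obtain ⟨T, hT⟩ := exists_inertial hb.1
  have hcard := defect_card hM hB hD
  have hl := Cfsg.Agent.S4695.result p M hM D hc _ h0 hcard B hB hD b hb T hT _ rfl
  obtain ⟨he, -, X, Y, hXY, hdis, hX, hY, -, δ, δ₀, hδ, hδ₀, hrel, -⟩ :=
    Cfsg.Agent.S4696.result p M hM D hc _ h0 hcard B hB hD b hb T hT _ rfl
  rw [← hX] at hl he hY
  have hdvd : Nat.card X ∣ p ^ blockDefect p B - 1 := by
    simpa using he.trans (Nat.sub_dvd_pow_sub_pow p 1 (blockDefect p B))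
  have hlt : 1 < p ^ blockDefect p B := Nat.one_lt_pow h0.ne' hp.out.one_lt
  have hmul : Nat.card X * Nat.card Y + 1 = p ^ blockDefect p B := by
    rw [hY, Nat.mul_div_cancel' hdvd]; omega
  have hYne : Y.Nonempty := by
    rw [← Set.nonempty_coe_sort]
    refine (Nat.card_pos_iff.1 (Nat.pos_of_ne_zero fun h => ?_)).1
    rw [h] at hmul; omega
  rw [hl]
  refine latMin_of_signs hM hB hXY hdis hYne hmul hl hδ hδ₀ fun ψ hψ g hg => ?_
  rw [← finsum_mem_eq]
  exact hrel ψ hψ g hg

variable {G : Type u} [Group G] [Finite G] {B : Set (IrrCharacter G)} {D : Subgroup G}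

/-- If `D / ⟨y⟩` is cyclic for some central `y`, then `k(B) ≤ |D|`. -/
theorem card_le_of_cyclic_quot (hM : IsPModular p M) (hB : IsPBlock M B)
    (hD : IsDefectGroup p M B D) (y : D) (hy : y ∈ Subgroup.center D)
    (h : ∀ (K : Type u) [Group K] (φ : D →* K), φ.ker = Subgroup.zpowers y → IsCyclic φ.range) :
    Nat.card B ≤ p ^ blockDefect p B := by
  obtain ⟨K, _, _, c, φ, hc, hcD, hker, h1, -⟩ := exists_reduction hM hB hD y hy
  have := h1 _ (Nat.cast_nonneg _) (latMin_of_cyclic hM hc hcD (h K φ hker))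
  have h0 : (0 : ℝ) < blockRank p c := by exact_mod_cast blockRank_pos (block_nonempty hc)
  rw [mul_comm] at this
  exact_mod_cast le_of_mul_le_mul_right this h0

theorem card_le_of_two_gen (hM : IsPModular p M) (hB : IsPBlock M B)
    (hD : IsDefectGroup p M B D) (x y : D) (hy : y ∈ Subgroup.center D)
    (h : Subgroup.closure {x, y} = ⊤) : Nat.card B ≤ p ^ blockDefect p B := by
  refine card_le_of_cyclic_quot hM hB hD y hy fun K _ φ hker => ?_
  have h1 : φ y = 1 := by rw [← MonoidHom.mem_ker, hker]; exact Subgroup.mem_zpowers y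
  have : φ.range = Subgroup.zpowers (φ x) := by
    rw [MonoidHom.range_eq_map, ← h, MonoidHom.map_closure, Set.image_pair, h1,
      Set.pair_comm, Subgroup.closure_insert_one, Subgroup.zpowers_eq_closure]
  rw [this]; infer_instance

theorem card_range_mul {K : Type*} [Group K] {φ : D →* K} {y : D}
    (h : φ.ker = Subgroup.zpowers y) : Nat.card φ.range * orderOf y = Nat.card D := by
  rw [← Nat.card_zpowers, ← h, ← Nat.card_congr (QuotientGroup.quotientKerEquivRange φ).toEquiv,
    ← Subgroup.card_eq_card_quotient_mul_card_subgroup]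

theorem exists_center_order (hM : IsPModular p M) (hB : IsPBlock M B)
    (hD : IsDefectGroup p M B D) (h : blockDefect p B ≠ 0) :
    ∃ y : D, y ∈ Subgroup.center D ∧ orderOf y = p := by
  have hDp := defect_isPGroup hD
  have : Nontrivial D := by
    rw [← Finite.one_lt_card_iff_nontrivial, defect_card hM hB hD]
    exact Nat.one_lt_pow h hp.out.one_lt
  have := hDp.center_nontrivial
  obtain ⟨k, hk⟩ := IsPGroup.iff_card.1 (hDp.to_subgroup (Subgroup.center D))
  have hk0 : k ≠ 0 := by
    rintro rfl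
    exact (Finite.one_lt_card (α := Subgroup.center D)).ne' (by simpa using hk)
  obtain ⟨z, hz⟩ := exists_prime_orderOf_dvd_card' (G := Subgroup.center D) p
    (hk ▸ dvd_pow_self p hk0)
  exact ⟨z, z.2, by rw [Subgroup.orderOf_coe, hz]⟩

theorem card_le_of_defect_le_two (hM : IsPModular p M) (hB : IsPBlock M B)
    (h : blockDefect p B ≤ 2) : Nat.card B ≤ p ^ blockDefect p B := by
  obtain ⟨D, hD⟩ := exists_defectGroup p hB
  rcases eq_or_ne (blockDefect p B) 0 with h0 | h0
  · obtain ⟨χ, hχ⟩ := block_nonempty hB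
    rw [h0, (blockDefect_eq_zero_iff_singleton hM hB hχ).1 h0]; simp
  obtain ⟨y, hy, ho⟩ := exists_center_order hM hB hD h0
  refine card_le_of_cyclic_quot hM hB hD y hy fun K _ φ hker => ?_
  have := card_range_mul hker
  rw [ho, defect_card hM hB hD] at this
  refine isCyclic_of_card_dvd_prime (p := p) ?_
  refine Nat.dvd_of_mul_dvd_mul_right hp.out.pos ?_
  rw [this, ← sq]
  exact pow_dvd_pow p h

theorem card_le_of_two_le_defect (hM : IsPModular p M) (d : ℕ) :
    ∀ (G : Type u) [Group G] [Finite G] (B : Set (IrrCharacter G)), IsPBlock M B →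
      blockDefect p B = d + 2 → Nat.card B ≤ p ^ (2 * d + 2) := by
  induction d with
  | zero =>
    intro G _ _ B hB hd
    have := card_le_of_defect_le_two hM hB hd.le
    rwa [hd] at this
  | succ d ih =>
    intro G _ _ B hB hd
    by_cases hh : ∀ χ ∈ B, blockHeight p B (χ : G → ℂ) = 0
    swap
    · push Not at hh
      obtain ⟨χ, hχ, h⟩ := hh
      have := two_mul_card_le_of_height hM hB hχ h
      rw [hd, show 2 * (d + 1 + 2) - 2 = 2 * (d + 1) + 2 by omega] at this
      omega
    obtain ⟨D, hD⟩ := exists_defectGroup p hB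
    obtain ⟨y, hy, ho⟩ := exists_center_order hM hB hD (by omega)
    obtain ⟨K, _, _, c, φ, hc, hcD, hker, -, h2⟩ := exists_reduction hM hB hD y hy
    have h3 := card_range_mul hker
    rw [ho, defect_card hM hB hD, defect_card hM hc hcD, hd, ← pow_succ] at h3
    have h4 : blockDefect p c = d + 2 := by
      have := Nat.pow_right_injective hp.out.two_le h3
      omega
    have h5 := (h2 hh).trans (Nat.mul_le_mul_left _ ((blockRank_le_card c).trans (ih K c hc h4)))
    rw [hd, ← pow_add, show 2 * (d + 1 + 2) + (2 * d + 2) = (2 * (d + 1) + 2) * 2 by ring,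
      pow_mul] at h5
    exact (Nat.pow_le_pow_iff_left two_ne_zero).1 h5

theorem card_mul_orderOf_le (hM : IsPModular p M) (hB : IsPBlock M B)
    (hD : IsDefectGroup p M B D) [IsMulCommutative D] (x y z : D)
    (h : Subgroup.closure {x, y, z} = ⊤) :
    Nat.card B * orderOf z ≤ p ^ (2 * blockDefect p B) := by
  have hz : z ∈ Subgroup.center D := Subgroup.mem_center_iff.2 fun g => mul_comm' g z
  obtain ⟨K, _, _, c, φ, hc, hcD, hker, h1, -⟩ := exists_reduction hM hB hD z hz
  have h2 := h1 1 zero_le_one latMin_one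
  rw [one_mul] at h2
  have h3 : Nat.card B ≤ p ^ blockDefect p B * blockRank p c := by exact_mod_cast h2
  have hz1 : φ.rangeRestrict z = 1 := by
    rw [← MonoidHom.mem_ker, MonoidHom.ker_rangeRestrict, hker]; exact Subgroup.mem_zpowers z
  have h4 := card_le_of_two_gen hM hc hcD (φ.rangeRestrict x) (φ.rangeRestrict y) ?_ ?_
  · have h5 := card_range_mul hker
    rw [defect_card hM hB hD, defect_card hM hc hcD] at h5
    calc Nat.card B * orderOf z ≤ p ^ blockDefect p B * p ^ blockDefect p c * orderOf z :=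
          Nat.mul_le_mul_right _
            (h3.trans (Nat.mul_le_mul_left _ ((blockRank_le_card c).trans h4)))
      _ = _ := by rw [mul_assoc, h5, ← pow_add, two_mul]
  · refine Subgroup.mem_center_iff.2 fun g => ?_
    obtain ⟨g, rfl⟩ := φ.rangeRestrict_surjective g
    rw [← map_mul, ← map_mul, mul_comm']
  · refine Eq.trans ?_ (φ.rangeRestrict.range_eq_top_of_surjective φ.rangeRestrict_surjective)
    rw [φ.rangeRestrict.range_eq_map, ← h, MonoidHom.map_closure, Set.image_insert_eq, Set.image_pair, hz1,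
      Set.pair_comm _ 1, Set.insert_comm, Subgroup.closure_insert_one]

end H84
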