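import Mathlib
import Cfsg.Agent.Base
import Cfsg.Agent.Lib.Block.E2
import Cfsg.Agent.Lib.Block.BT1b
import Cfsg.Agent.S3784
import Cfsg.Agent.S3968
import Cfsg.Agent.S4508
import Cfsg.Agent.S1011

/-! Simple groups of order `9 * 2 ^ a * q ^ b` with two consecutive degrees prime to three. -/

set_option autoImplicit false
set_option linter.unusedSectionVars false
set_option linter.style.haveILetI false

open Cfsg H17.Ord
open H86 (Cen Nor)
open scoped ComplexConjugate MatrixGroups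

namespace H84.K9

theorem consec_arith {q a b m : ℕ} (hq : q.Prime) (h3 : q ≠ 3) (h1 : 1 < m)
    (d1 : m ∣ 2 ^ a * q ^ b) (d2 : m + 1 ∣ 2 ^ a * q ^ b) :
    (m = q ∧ ∃ i, q + 1 = 2 ^ i) ∨ (m + 1 = q ∧ ∃ i, q = 2 ^ i + 1) := by
  obtain ⟨u, v, hu, hv, e⟩ := Nat.dvd_mul.1 d1
  obtain ⟨u', v', hu', hv', e'⟩ := Nat.dvd_mul.1 d2
  obtain ⟨i, -, rfl⟩ := (Nat.dvd_prime_pow Nat.prime_two).1 hu
  obtain ⟨j, -, rfl⟩ := (Nat.dvd_prime_pow hq).1 hv
  obtain ⟨i', -, rfl⟩ := (Nat.dvd_prime_pow Nat.prime_two).1 hu'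
  obtain ⟨j', -, rfl⟩ := (Nat.dvd_prime_pow hq).1 hv'
  have key : ∀ r : ℕ, r.Prime → r ∣ m → r ∣ m + 1 → False := fun r hr d d' =>
    hr.one_lt.ne' (Nat.dvd_one.1 ((Nat.dvd_add_right d).1 d'))
  have n9 : ∀ k, q ^ k ≠ 9 := fun k h => h3 ((Nat.prime_dvd_prime_iff_eq Nat.prime_three hq).1
    (Nat.prime_three.dvd_of_dvd_pow (h ▸ by norm_num : 3 ∣ q ^ k))).symm
  rcases Nat.eq_zero_or_pos i with rfl | hi
  · have hj : 0 < j := Nat.pos_of_ne_zero fun h => by subst h; simp at e; omega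
    obtain rfl : j' = 0 := by_contra fun h => key q hq (e ▸ Dvd.dvd.mul_left (dvd_pow_self q hj.ne') _)
      (e' ▸ Dvd.dvd.mul_left (dvd_pow_self q h) _)
    simp only [pow_zero, mul_one, one_mul] at e e'
    have hi' : 0 < i' := Nat.pos_of_ne_zero fun h => by subst h; omega
    rcases Cfsg.Agent.S3784.result 2 q i' j Nat.prime_two hq hi' hj (by omega) with
      ⟨-, rfl, -, h⟩ | ⟨rfl, rfl, -, h⟩ | ⟨h, -⟩
    · exact Or.inl ⟨by rw [← e, pow_one], _, h⟩
    · omega
    · exact absurd (h ▸ dvd_pow_self 2 hi'.ne' : 2 ∣ 9) (by norm_num)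
  · obtain rfl : i' = 0 := by_contra fun h => key 2 Nat.prime_two
      (e ▸ Dvd.dvd.mul_right (dvd_pow_self 2 hi.ne') _) (e' ▸ Dvd.dvd.mul_right (dvd_pow_self 2 h) _)
    have hj' : 0 < j' := Nat.pos_of_ne_zero fun h => by subst h; simp at e'; omega
    obtain rfl : j = 0 := by_contra fun h => key q hq (e ▸ Dvd.dvd.mul_left (dvd_pow_self q h) _)
      (e' ▸ Dvd.dvd.mul_left (dvd_pow_self q hj'.ne') _)
    simp only [pow_zero, mul_one, one_mul] at e e'
    rcases Cfsg.Agent.S3784.result q 2 j' i hq Nat.prime_two hj' hi (by omega) with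
      ⟨rfl, rfl, -, h⟩ | ⟨-, rfl, -, h⟩ | ⟨h, -⟩
    · exact absurd (h ▸ dvd_pow_self 2 hj'.ne' : 2 ∣ 2 + 1) (by norm_num)
    · exact Or.inr ⟨by rw [← e', pow_one], _, h⟩
    · exact absurd h (n9 _)

variable {G : Type*} [Group G] [Finite G] [IsSimpleGroup G]

theorem not_sq_dvd (hna : ∃ a b : G, a * b ≠ b * a) {q : ℕ} (hq : q.Prime) {χ : IrrCharacter G}
    (hd : dg χ = q) : ¬ q ^ 2 ∣ Nat.card G := fun h => by
  have h1 : χ ≠ triv G := fun e => hq.ne_one (by rw [← hd, e, dg_triv])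
  refine Cfsg.Agent.S3968.result q hq χ (by rw [← hd]; exact dg_cast χ)
    (fun g hg => eq_one_of_apply_eq h1 (hg.trans (dg_cast χ))) h ?_
  refine (Subgroup.Normal.eq_bot_or_eq_top inferInstance).resolve_right fun e => ?_
  obtain ⟨a, b, hab⟩ := hna
  exact hab (Subgroup.mem_center_iff.1 (e ▸ Subgroup.mem_top b) a)

/-- a character of degree `p` forces `C(P) = P` -/
theorem selfcent_of_prime (hna : ∃ a b : G, a * b ≠ b * a) {p e : ℕ} [hp : Fact p.Prime]
    {P : Subgroup G} (B : PB G p P e) {χ : IrrCharacter G} (hd : dg χ = p) : Cen P = P := by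
  classical
  haveI := Fintype.ofFinite P
  have h1 : χ ≠ triv G := fun e => hp.out.ne_one (by rw [← hd, e, dg_triv])
  have p0 : (p : ℂ) ≠ 0 := Nat.cast_ne_zero.2 hp.out.ne_zero
  have key : ∀ y ∈ Cen P, ¬ p ∣ orderOf y → (p : ℂ) * avg P y χ = (χ : G → ℂ) y := fun y hy hr => by
    rw [← B.card, card_mul_avg, Finset.sum_eq_single 1]
    · simp
    · intro k _ hk
      have c := H84.commute_of_mem_Cen k.2 hy
      rw [← c.eq]
      exact van_of_dvd hp.out B.not_sq_dvd (hd ▸ dvd_rfl) (H35.dvd_orderOf_mul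
        (H35.isPElt_of_mem (H84.isPGroup_of_card B.card) k.2) (fun h => hk (Subtype.ext h)) hr c)
    · simp
  obtain ⟨l, hl⟩ := H6.exists_hom_of_char_one_eq_one (isCharacter_avg (K := P) (H := Cen P)
    (Subgroup.centralizer_le_normalizer _) (irr_chr χ)) (mul_left_cancel₀ p0 (by
      rw [mul_one]; exact (key 1 (one_mem _) PB.reg_one).trans (by rw [dg_cast, hd])))
  refine B.selfcent_of fun y hy hr => eq_one_of_norm_eq hna h1 ?_
  rw [← key y hy hr, show avg P y χ = _ from congrFun hl ⟨y, hy⟩, norm_mul, hd,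
    Complex.norm_eq_one_of_pow_eq_one (n := Nat.card (Cen P)) (ζ := (l ⟨y, hy⟩ : ℂ))
      (by rw [← Units.val_pow_eq_pow_val, ← map_pow, pow_card_eq_one', map_one, Units.val_one])
      Nat.card_pos.ne']
  simp

omit [IsSimpleGroup G] in
theorem exists_central_invol (h : 2 ∣ Nat.card G) : ∃ t : G, orderOf t = 2 ∧
    2 ^ (Nat.card G).factorization 2 ∣ Nat.card (Subgroup.centralizer ({t} : Set G)) := by
  let T : Sylow 2 G := default
  haveI : Nontrivial T := (T : Subgroup G).nontrivial_iff_ne_bot.2 (T.ne_bot_of_dvd_card h)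
  haveI := T.isPGroup'.center_nontrivial
  obtain ⟨n, n0, hn⟩ := (T.isPGroup'.to_subgroup (Subgroup.center T)).nontrivial_iff_card.1 this
  obtain ⟨z, hz⟩ := exists_prime_orderOf_dvd_card' (G := Subgroup.center T) 2
    (hn ▸ dvd_pow_self 2 n0.ne')
  refine ⟨z, by rw [Subgroup.orderOf_coe, Subgroup.orderOf_coe, hz], ?_⟩
  rw [← T.card_eq_multiplicity]
  exact Subgroup.card_dvd_of_le fun x hx => Subgroup.mem_centralizer_singleton_iff.2
    (congrArg Subtype.val (Subgroup.mem_center_iff.1 z.2 ⟨x, hx⟩))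

theorem case_five (hna : ∃ a b : G, a * b ≠ b * a) {a : ℕ} (hG : Nat.card G = 5 * (9 * 2 ^ a))
    {χ ψ : IrrCharacter G} (hχ : dg χ = 5) (hψ : dg ψ = 4) : False := by
  haveI : Fact (Nat.Prime 5) := ⟨by norm_num⟩
  have hm : ¬ 5 ∣ 9 * 2 ^ a := fun h => by
    have := (Nat.Prime.dvd_mul (by norm_num)).1 h
    have := fun h => Nat.Prime.dvd_of_dvd_pow (p := 5) (m := 2) (n := a) (by norm_num) h
    omega
  obtain ⟨P, hP⟩ := exists_subgroup_prime (G := G) 5 ⟨_, hG⟩
  obtain ⟨e, k, n, c1, c2, -, -, -, -, e1, -, ⟨B⟩⟩ := setup hna 5 hG hm P hP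
  have hC := selfcent_of_prime hna B hχ
  obtain ⟨x, hx, ox⟩ := B.exists_sing
  have x1 : x ≠ 1 := fun h => by simp [h] at ox
  have eP := eq_zpowers_of_card hP hx x1
  have sc : SC 5 x := ⟨ox, by
    rw [← Subgroup.centralizer_closure, ← Subgroup.zpowers_eq_closure, ← eP]; exact hC⟩
  have h1 := sc.card_classes
  have he := B.he
  rw [show Subgroup.centralizer (P : Set G) = P from hC] at he c1
  rw [← eP, he] at h1
  have h2 := (Cfsg.Agent.S4508.result 5 (by norm_num) x ox sc.cen _ rfl ψ (by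
    rw [show charDegree _ = 4 from hψ])).resolve_right (by
      rw [show commutator G = ⊤ from perfect_of_simple hna]; simp)
  obtain rfl : e = 2 := by
    obtain ⟨r, hr⟩ := h2
    rw [hr] at h1
    have : r ≠ 0 := by rintro rfl; omega
    nlinarith [Nat.pos_of_ne_zero this]
  obtain ⟨S, rfl⟩ := H84.exists_sylow_eq hP B.ind
  have h1 : ψ ≠ triv G := fun e => by simp [e, dg_triv] at hψ
  obtain ⟨m, F, _, _, hm, hF, ⟨φ⟩⟩ := sl2_of_degree (by norm_num) S (by omega) hC ψ hψ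
    fun g hg => eq_one_of_apply_eq h1 (hg.trans (dg_cast ψ))
  have := H10.card_SL_two (F := F)
  rw [← Nat.card_congr φ.toEquiv, Nat.card_eq_fintype_card (α := F), hF, hG,
    show 2 ^ m = 4 by omega] at this
  omega

theorem case_seven (hna : ∃ a b : G, a * b ≠ b * a) {a : ℕ} (hG : Nat.card G = 7 * (9 * 2 ^ a))
    {χ ψ : IrrCharacter G} (hχ : dg χ = 8) (hψ : dg ψ = 7) : Nat.card G = 504 := by
  classical
  haveI : Fact (Nat.Prime 7) := ⟨by norm_num⟩
  have hm : ¬ 7 ∣ 9 * 2 ^ a := fun h => by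
    have := (Nat.Prime.dvd_mul (by norm_num)).1 h
    have := fun h => Nat.Prime.dvd_of_dvd_pow (p := 7) (m := 2) (n := a) (by norm_num) h
    omega
  obtain ⟨P, hP⟩ := exists_subgroup_prime (G := G) 7 ⟨_, hG⟩
  obtain ⟨e, k, n, c1, c2, -, -, -, -, e1, e2, ⟨B⟩⟩ := setup hna 7 hG hm P hP
  have hC := selfcent_of_prime hna B hψ
  have odd : ∀ η, η ∈ B.X ∨ η ∈ B.Y → dg η % 2 = 1 → η = triv G ∨ dg η = 9 := fun η h h2 => by
    have d : dg η ∣ 3 ^ 2 := Nat.Coprime.dvd_of_dvd_mul_right (Nat.Coprime.pow_right a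
      (Odd.coprime_two_right (Nat.odd_iff.2 h2))) (B.dvd_cof hG h)
    obtain ⟨i, hi, h3⟩ := (Nat.dvd_prime_pow Nat.prime_three).1 d
    interval_cases i
    · exact Or.inl (eq_triv_of_dg hna h3)
    · exact absurd (show 3 ^ 2 ∣ Nat.card G from ⟨7 * 2 ^ a, by rw [hG]; ring⟩)
        (not_sq_dvd hna Nat.prime_three h3)
    · exact Or.inr h3
  have ev : ∀ η ∈ B.X.erase (triv G), (2 : ℤ) ∣ B.ε η * dg η := fun η h => by
    obtain ⟨h1, h2⟩ := Finset.mem_erase.1 h
    have := B.modX h2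
    have := fun h => (odd η (Or.inl h2) h).resolve_left h1
    exact Dvd.dvd.mul_left (by omega) _
  obtain ⟨θ, hθ⟩ := B.Y_nonempty
  have h0 : triv G ∈ B.X := B.one_mem.resolve_right fun h => by
    have h4 := B.deg_eq h
    rw [← Finset.erase_eq_of_notMem (Finset.disjoint_right.1 B.disj h), dg_triv] at h4
    have := Finset.dvd_sum ev
    rcases B.dsgn with h | h <;> rw [h] at h4 <;> omega
  obtain rfl : e = 2 := by
    have h4 := B.deg_eq hθ
    rw [← Finset.add_sum_erase _ _ h0, B.ε_triv h0, dg_triv] at h4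
    have := Finset.dvd_sum ev
    have h5 : dg θ = 9 := (odd θ (Or.inr hθ) (by
      rcases B.dsgn with h | h <;> rw [h] at h4 <;> omega)).resolve_left
        fun e => Finset.disjoint_left.1 B.disj h0 (e ▸ hθ)
    have := B.modY hθ
    have := Nat.le_of_dvd (by norm_num) e2
    interval_cases e <;> omega
  have hX : χ ∈ B.X := (B.mem_of_not_dvd hC (by omega)).resolve_right fun h => by
    have := B.modY h; omega
  have hε : B.ε χ = 1 := by have := B.modX hX; omega
  have a3 : 3 ≤ a := by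
    have d : 2 ^ 3 ∣ 2 ^ a := Nat.Coprime.dvd_of_dvd_mul_left (m := 9) (by norm_num)
      (show 8 ∣ _ from hχ ▸ B.dvd_cof hG (Or.inl hX))
    exact (Nat.pow_dvd_pow_iff_le_right one_lt_two).1 d
  obtain ⟨t, ht, m, hm⟩ := exists_central_invol (G := G) (by
    rw [hG]; exact Dvd.dvd.mul_left (Dvd.dvd.mul_left (dvd_pow_self 2 (by omega)) _) _)
  have fa : (Nat.card G).factorization 2 = a := by
    rw [hG, ← mul_assoc, Nat.factorization_mul (by norm_num) (by positivity)]
    simp [Nat.factorization_eq_zero_of_not_dvd (show ¬ 2 ∣ 7 * 9 by norm_num),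
      Nat.prime_two.factorization_self]
  obtain ⟨c, hc, c1, c2, c3⟩ := invol_val hna (χ := χ) (by omega) ht
  have f := (E2.two_order hna B hC (by norm_num) hX (fun e => by simp [e, dg_triv] at hχ) ht hc).2
  rw [hm, fa, hG, hχ, hε] at f
  rw [hχ] at c1 c2 c3
  obtain ⟨b, rfl⟩ := Nat.exists_eq_add_of_le a3
  have f' : (8 - c) ^ 2 = 64 * (2 ^ b * m ^ 2) :=
    mul_left_cancel₀ (a := (504 * 2 ^ b : ℤ)) (by positivity) (by push_cast at f; linear_combination f)
  obtain rfl : b = 0 := by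
    rcases b with _ | b
    · rfl
    · have : (8 - c) ^ 2 = 128 * (2 ^ b * m ^ 2) := by linear_combination f'
      generalize (2 : ℤ) ^ b * m ^ 2 = w at this
      obtain rfl | rfl | rfl : c = -4 ∨ c = 0 ∨ c = 4 := by omega
      all_goals omega
  rw [hG]; rfl

/-- two consecutive degrees prime to three -/
theorem consec_final (hG : ¬ IsMulCommutative G) {q a b : ℕ} (hq : q.Prime) (hq2 : q ≠ 2)
    (hq3 : q ≠ 3) (hcard : Nat.card G = 9 * 2 ^ a * q ^ b) {χ ψ : IrrCharacter G}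
    (h1 : ψ ≠ triv G) (hd : dg χ = dg ψ + 1) (hχ : ¬ 3 ∣ dg χ) (hψ : ¬ 3 ∣ dg ψ) :
    (∃ (F : Type) (_ : Field F) (_ : Fintype F), Fintype.card F = 8 ∧ Nonempty (G ≃* PSL(2, F))) ∨
      Nonempty (G ≃* PSL(2, ZMod 17)) := by
  have hna : ∃ a b : G, a * b ≠ b * a := by
    by_contra h
    push Not at h
    exact hG ⟨⟨h⟩⟩
  have dv : ∀ η : IrrCharacter G, ¬ 3 ∣ dg η → dg η ∣ 2 ^ a * q ^ b := fun η h =>
    Nat.Coprime.dvd_of_dvd_mul_left (m := 3 ^ 2) (Nat.Coprime.pow_right 2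
      ((Nat.Prime.coprime_iff_not_dvd Nat.prime_three).2 h).symm)
      (by rw [← mul_assoc]; exact hcard ▸ dg_dvd η)
  have m1 : 1 < dg ψ := by
    have := dg_pos ψ
    have : dg ψ ≠ 1 := fun h => h1 (eq_triv_of_dg hna h)
    omega
  have ar := consec_arith hq hq3 m1 (dv ψ hψ) (hd ▸ dv χ hχ)
  obtain ⟨η, hη⟩ : ∃ η : IrrCharacter G, dg η = q := by
    rcases ar with h | h
    · exact ⟨ψ, h.1⟩
    · exact ⟨χ, hd.trans h.1⟩
  have q5 : 5 ≤ q := hq.five_le_of_ne_two_of_ne_three hq2 hq3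
  obtain rfl : b = 1 := by
    rcases b with _ | _ | b
    · have := dv η (hη ▸ fun h => hq3 ((Nat.prime_dvd_prime_iff_eq Nat.prime_three hq).1 h).symm)
      rw [hη, pow_zero, mul_one] at this
      exact absurd ((Nat.prime_dvd_prime_iff_eq hq Nat.prime_two).1 (hq.dvd_of_dvd_pow this)) hq2
    · rfl
    · exact absurd ⟨9 * 2 ^ a * q ^ b, by rw [hcard]; ring⟩ (not_sq_dvd hna hq hη)
  by_cases h10 : 10 < q
  · haveI := Fact.mk hq
    have nc : ¬ IsCyclic G := fun h => hG inferInstance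
    rcases brauerTuan_one (p := q) nc Nat.prime_two hq2 (g := 9) (b := a) (by rw [hcard]; ring)
      (by omega) with ⟨m, F, _, _, hF, hm, ⟨φ⟩⟩ | ⟨m, F, _, _, hF, hm, -, ⟨φ⟩⟩
    · have c := H10.card_PSL_two (F := F)
      obtain ⟨r, hr⟩ := hq.odd_of_ne_two hq2
      rw [← Nat.card_congr φ.toEquiv, Nat.card_eq_fintype_card (α := F), hF, hcard, hr,
        Nat.add_sub_cancel, Nat.gcd_mul_right_right] at c
      have c' : r * (r + 1) * 2 = 9 * 2 ^ a :=
        Nat.eq_of_mul_eq_mul_left (show 0 < 2 * (2 * r + 1) by omega) (by linear_combination -c)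
      obtain rfl : q = 17 := by
        have r0 : ∀ s k, 4 < s → s % 2 = 1 → s * k = 9 * 2 ^ a → s = 9 := fun s k h1 h2 h3 => by
          have d : s ∣ 3 ^ 2 := Nat.Coprime.dvd_of_dvd_mul_right (Nat.Coprime.pow_right a
            (Odd.coprime_two_right (Nat.odd_iff.2 h2))) ⟨k, h3.symm⟩
          obtain ⟨i, hi, h3⟩ := (Nat.dvd_prime_pow Nat.prime_three).1 d
          interval_cases i <;> omega
        rcases Nat.mod_two_eq_zero_or_one r with h | h
        · have := r0 (r + 1) (r * 2) (by omega) (by omega) (by linear_combination c')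
          omega
        · obtain rfl := r0 r ((r + 1) * 2) (by omega) h (by linear_combination c')
          have : 5 ∣ 2 ^ a := by omega
          exact absurd (Nat.Prime.dvd_of_dvd_pow (by norm_num) this) (by norm_num)
      exact Or.inr ⟨φ.trans (H10.pslCongr (FiniteField.ringEquivOfCardEq (by rw [ZMod.card, hF])))⟩
    · exfalso
      have c := H10.card_PSL_two (F := F)
      obtain ⟨r, hr⟩ : ∃ r, 2 ^ m = 2 * r + 2 := by
        rcases m with _ | m
        · omega
        · exact ⟨2 ^ m - 1, by have := Nat.one_le_two_pow (n := m); rw [pow_succ]; omega⟩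
      rw [← Nat.card_congr φ.toEquiv, Nat.card_eq_fintype_card (α := F), hF, hcard, hm, hr,
        show 2 * r + 2 - 1 = 2 * r + 1 from rfl, Nat.gcd_mul_left_add_right, Nat.gcd_one_right] at c
      have c' : (2 * r + 1) * (2 * r + 2) = 9 * 2 ^ a :=
        Nat.eq_of_mul_eq_mul_left (show 0 < 2 * r + 2 + 1 by omega) (by linear_combination -c)
      have d : 2 * r + 1 ∣ 3 ^ 2 := Nat.Coprime.dvd_of_dvd_mul_right (Nat.Coprime.pow_right a
        (Odd.coprime_two_right ⟨r, rfl⟩)) ⟨_, c'.symm⟩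
      have := Nat.le_of_dvd (by norm_num) d
      obtain rfl : r = 4 := by omega
      have : 5 ∣ 2 ^ m := by omega
      exact absurd (Nat.Prime.dvd_of_dvd_pow (by norm_num) this) (by norm_num)
  have np : ∀ i, 2 ^ i ≠ 6 := fun i h =>
    absurd (Nat.prime_three.dvd_of_dvd_pow (show 3 ∣ 2 ^ i by omega)) (by norm_num)
  obtain rfl | rfl : q = 5 ∨ q = 7 := by
    have : q < 11 := by omega
    interval_cases q <;> first | omega | norm_num at hq
  · rcases ar with ⟨-, i, h⟩ | ⟨h, -⟩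
    · exact absurd h.symm (np i)
    · exact (case_five hna (a := a) (χ := χ) (ψ := ψ) (by rw [hcard]; ring) (by omega) (by omega)).elim
  · rcases ar with ⟨h, -⟩ | ⟨-, i, h⟩
    · haveI := Fintype.ofFinite (GaloisField 2 3)
      have hF : Fintype.card (GaloisField 2 3) = 8 := by
        rw [← Nat.card_eq_fintype_card, GaloisField.card 2 3 (by norm_num)]; rfl
      exact Or.inl ⟨GaloisField 2 3, inferInstance, this, hF, Cfsg.Agent.S1011.result
        (case_seven hna (a := a) (χ := χ) (ψ := ψ) (by rw [hcard]; ring) (by omega) h) hF⟩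
    · exact absurd (by omega) (np i)

end H84.K9
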