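import Mathlib
import Cfsg.Agent.Base
import Cfsg.Agent.Lib.Block.PPart
import Cfsg.Agent.Lib.Char.Ortho
import Cfsg.Agent.Lib.Transfer.Control

/-! Sizes of `p`-sections, and the fusion in a Sylow subgroup of order nine with three classes. -/

set_option autoImplicit false
set_option linter.unusedSectionVars false
set_option linter.style.haveILetI false

open Cfsg H35 Finset Subgroup

namespace H84.K9

variable {G : Type*} [Group G]

section count
variable [Fintype G] (p : ℕ) [hp : Fact p.Prime]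

open Classical in
/-- elements commuting with `x` whose `p`-part is `y` -/
noncomputable def nn (x y : G) : Finset G := univ.filter fun g => Commute x g ∧ pPart p g = y

open Classical in
/-- the `p`-section of `x` -/
noncomputable def sec (x : G) : Finset G := univ.filter fun g => IsConj x (pPart p g)

theorem mem_nn {x y g : G} : g ∈ nn p x y ↔ Commute x g ∧ pPart p g = y := by simp [nn]

theorem mem_sec {x g : G} : g ∈ sec p x ↔ IsConj x (pPart p g) := by simp [sec]

theorem mem_nn_self {x g : G} : g ∈ nn p x x ↔ pPart p g = x := by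
  rw [mem_nn]
  exact ⟨fun h => h.2, fun h => ⟨h ▸ commute_pPart p g, h⟩⟩

theorem card_sec (x : G) : (sec p x).card = (centralizer ({x} : Set G)).index * (nn p x x).card := by
  classical
  have key : ∀ a y : G, (nn p y y).card ≤ (nn p (a * y * a⁻¹) (a * y * a⁻¹)).card := fun a y =>
    card_le_card_of_injOn (fun g => a * g * a⁻¹) (fun g hg => by
      rw [mem_coe, mem_nn_self] at hg ⊢
      rw [pPart_conj, hg]) fun g _ h _ e => by simpa using e
  rw [card_eq_sum_card_fiberwise (f := pPart p) (t := univ.filter (IsConj x ·))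
    (fun g hg => by simpa using (mem_sec p).1 hg), ← H6.card_isConj_eq_index,
    Nat.card_eq_fintype_card, Fintype.card_subtype, ← smul_eq_mul, ← sum_const]
  refine sum_congr (by congr) fun y hy => ?_
  obtain ⟨a, rfl⟩ := isConj_iff.1 (mem_filter.1 hy).2
  rw [show {g ∈ sec p x | pPart p g = a * x * a⁻¹} = nn p (a * x * a⁻¹) (a * x * a⁻¹) from
    Finset.ext fun g => by
      rw [mem_filter, mem_sec, mem_nn_self]
      exact ⟨fun h => h.2, fun h => ⟨h ▸ isConj_iff.2 ⟨a, rfl⟩, h⟩⟩]
  refine le_antisymm ((key a⁻¹ _).trans_eq ?_) (key a x)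
  congr 2 <;> group

theorem card_nn_le {x y : G} (hx : IsPElt p x) : (nn p x y).card ≤ (nn p x (x⁻¹ * y)).card :=
  card_le_card_of_injOn (fun g => x⁻¹ * g) (fun g hg => by
    rw [mem_coe, mem_nn] at hg ⊢
    exact ⟨(Commute.refl x).inv_right.mul_right hg.1, by
      rw [pPart_pElt_mul hx.inv hg.1.inv_left, hg.2]⟩) fun g _ h _ e => mul_left_cancel e

theorem sum_nn_le (x : G) (t : Finset G) :
    ∑ y ∈ t, (nn p x y).card ≤ Nat.card (centralizer ({x} : Set G)) := by
  classical
  have := sum_card_fiberwise_eq_card_filter (univ.filter fun g => Commute x g) t (pPart p)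
  simp only [filter_filter] at this
  refine (Eq.trans_le ?_ (this.trans_le (card_le_card
    (t := univ.filter (· ∈ centralizer ({x} : Set G))) fun g hg => ?_))).trans_eq ?_
  · exact sum_congr rfl fun y _ => by rw [nn]
  · simpa [mem_centralizer_singleton_iff] using (mem_filter.1 hg).2.1.eq.symm
  · rw [Nat.card_eq_fintype_card, Fintype.card_subtype]

theorem three_sec_lt {x k : G} (hx : IsPElt p x) (hk : IsPElt p k) (hc : Commute x k) (x1 : x ≠ 1)
    (x2 : x ≠ x⁻¹) (k1 : k ≠ 1) (k2 : k ≠ x) (k3 : k ≠ x⁻¹) : 3 * (sec p x).card < Nat.card G := by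
  classical
  have h := sum_nn_le p x {k, x, 1, x⁻¹}
  rw [sum_insert (by simp [k1, k2, k3]), sum_insert (by simp [x1, x2]),
    sum_pair (inv_ne_one.2 x1).symm] at h
  have h1 := card_nn_le p (y := x) hx
  have h2 := card_nn_le p (y := 1) hx
  rw [inv_mul_cancel] at h1
  rw [mul_one] at h2
  have h3 : 0 < (nn p x k).card := card_pos.2 ⟨k, (mem_nn p).2 ⟨hc, pPart_eq_self hk⟩⟩
  rw [card_sec, ← index_mul_card (centralizer ({x} : Set G)), mul_left_comm]
  exact Nat.mul_lt_mul_of_pos_left (by omega) (Nat.pos_of_ne_zero index_ne_zero_of_finite)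

theorem sec_le_of_compl (P : Sylow p G) {x : G} (hx : IsPElt p x)
    (hP : (P : Subgroup G) ≤ centralizer {x})
    (h : ∀ n ∈ normalizer ((P : Subgroup G) : Set G), Commute x n →
      n ∈ centralizer ((P : Subgroup G) : Set G)) : Nat.card P * (sec p x).card ≤ Nat.card G := by
  classical
  have hc := H4.hasNormalPComplement_of_normalizer_le_centralizer (P.subtype hP) fun n hn => by
    have : n ∈ (normalizer ((P : Subgroup G) : Set G)).subgroupOf (centralizer {x}) :=
      (subgroupOf_normalizer_eq hP).symm ▸ hn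
    exact fun y hy => Subtype.ext
      (h n this (mem_centralizer_singleton_iff.1 n.2).symm y hy)
  have h1 := (H4.isComplement'_pResidual hc (P.subtype hP)).card_mul_card
  rw [show Nat.card (P.subtype hP : Subgroup (centralizer ({x} : Set G))) = Nat.card P from
    Nat.card_congr (subgroupOfEquivOfLe hP).toEquiv] at h1
  have h2 : (nn p x x).card ≤ Nat.card (pResidual p (centralizer ({x} : Set G))) := by
    rw [← Fintype.card_coe, ← Nat.card_eq_fintype_card]
    refine Nat.card_le_card_of_injective (fun g => ⟨⟨x⁻¹ * g, mem_centralizer_singleton_iff.2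
      ((Commute.refl x).inv_right.mul_right ((mem_nn p).1 g.2).1).eq.symm⟩, ?_⟩) fun g h e => ?_
    · rw [H4.mem_pResidual_iff_of_hasNormalPComplement hc, ← orderOf_coe]
      exact (hp.out.coprime_iff_not_dvd.2 ((pPart_eq_iff p hx).1 ((mem_nn p).1 g.2).2).2).symm
    · exact Subtype.ext (mul_left_cancel (congrArg (fun z => (z.1.1 : G)) e))
  rw [card_sec, ← index_mul_card (centralizer ({x} : Set G)), mul_left_comm, ← h1, mul_comm (Nat.card P)]
  gcongr

end count

theorem three_cases {a b : G} (ha : orderOf a = 3) (hb : b ∈ zpowers a) :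
    b = 1 ∨ b = a ∨ b = a⁻¹ := by
  classical
  obtain ⟨i, hi, rfl⟩ := mem_image.1
    ((orderOf_pos_iff.1 (by omega : 0 < orderOf a)).mem_zpowers_iff_mem_range_orderOf.1 hb)
  rw [ha, mem_range] at hi
  interval_cases i
  · simp
  · simp
  · exact Or.inr (Or.inr (eq_inv_of_mul_eq_one_left (by
      rw [← pow_succ, show 2 + 1 = orderOf a from ha.symm, pow_orderOf_eq_one])))

/-- the fusion pattern in a Sylow subgroup of order nine with at least three classes -/
structure Loc (P : Sylow 3 G) (k : G) : Prop where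
  card : Nat.card P = 9
  mem : k ∈ (P : Subgroup G)
  ord : orderOf k = 3
  inv : ∀ n ∈ normalizer ((P : Subgroup G) : Set G), n * k * n⁻¹ = k ∨ n * k * n⁻¹ = k⁻¹
  real : ∀ x ∈ (P : Subgroup G), IsConj x x⁻¹

variable [Finite G] {P : Sylow 3 G}

theorem comm_of_nine (h : Nat.card P = 9) : IsMulCommutative P :=
  IsPGroup.isMulCommutative_of_card_eq_prime_sq (p := 3) h

theorem fix_eq_one (h : Nat.card P = 9) (hG : commutator G = ⊤) {z : G} (hz : z ∈ (P : Subgroup G))
    (hf : ∀ n ∈ normalizer ((P : Subgroup G) : Set G), n * z * n⁻¹ = z) : z = 1 := by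
  haveI := comm_of_nine h
  have h1 := H4.commutator_inf_eq_commutator_normalizer P
  rw [hG, top_inf_eq] at h1
  have h2 := H4.commutator_inf_centralizer_of_hall (A := (P : Subgroup G)) this le_normalizer (by
    rw [show Nat.card (P : Subgroup G) = 3 ^ 2 from h]
    exact Nat.Coprime.pow_left 2 ((Nat.Prime.coprime_iff_not_dvd Nat.prime_three).2
      (H4.not_dvd_relIndex_sylow P le_normalizer)))
  exact mem_bot.1 (h2 ▸ ⟨commutator_mono le_normalizer le_rfl (h1 ▸ hz), hz,
    fun n hn => mul_inv_eq_iff_eq_mul.1 (hf n hn)⟩)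

theorem exists_loc (h : Nat.card P = 9) (hG : commutator G = ⊤) {a b c : G}
    (ha : a ∈ (P : Subgroup G)) (hb : b ∈ (P : Subgroup G)) (hc : c ∈ (P : Subgroup G))
    (a1 : a ≠ 1) (b1 : b ≠ 1) (c1 : c ≠ 1) (ab : ¬ IsConj a b) (ac : ¬ IsConj a c)
    (bc : ¬ IsConj b c) : ∃ k, Loc P k := by
  classical
  haveI := Fintype.ofFinite G
  haveI := comm_of_nine h
  set N := normalizer ((P : Subgroup G) : Set G)
  have cm : ∀ x ∈ (P : Subgroup G), ∀ y ∈ (P : Subgroup G), x * y = y * x := fun x hx y hy =>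
    congrArg Subtype.val (this.is_comm.comm (⟨x, hx⟩ : (P : Subgroup G)) ⟨y, hy⟩)
  let cl : G → Finset G := fun x => univ.filter fun y => y ∈ (P : Subgroup G) ∧ IsConj x y
  have mcl : ∀ {x y}, y ∈ cl x ↔ y ∈ (P : Subgroup G) ∧ IsConj x y := by simp [cl]
  have cj : ∀ x ∈ (P : Subgroup G), ∀ n ∈ N, n * x * n⁻¹ ∈ cl x := fun x hx n hn =>
    mcl.2 ⟨(mem_normalizer_iff.1 hn x).1 hx, isConj_iff.2 ⟨n, rfl⟩⟩
  have n3 : ∀ x ∈ (P : Subgroup G), ¬ 3 ∣ (cl x).card := fun x hx d => by
    letI : MulAction N G := MulAction.compHom G ((MulAut.conj (G := G)).comp N.subtype)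
    have e : MulAction.orbit N x = cl x := Set.ext fun y => ⟨by
      rintro ⟨n, rfl⟩; exact cj x hx n n.2, fun hy => by
      obtain ⟨g, rfl⟩ := isConj_iff.1 (mcl.1 hy).2
      obtain ⟨n, hn, e⟩ := H4.normalizer_controls_fusion_of_isMulCommutative P x hx g (mcl.1 hy).1
      exact ⟨⟨n, hn⟩, e⟩⟩
    refine H4.not_dvd_relIndex_sylow P (K := N) le_normalizer (d.trans ?_)
    rw [← Set.ncard_coe_finset, ← e, ← MulAction.index_stabilizer]
    exact index_dvd_of_le fun n hn => mul_inv_eq_iff_eq_mul.2 (cm _ hn _ hx)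
  have two : ∀ x ∈ (P : Subgroup G), x ≠ 1 → (cl x).card ≤ 3 → cl x = {x, x⁻¹} := fun x hx x1 h3 => by
    have hxx : x ∈ cl x := mcl.2 ⟨hx, IsConj.refl x⟩
    obtain ⟨n, hn, e⟩ : ∃ n ∈ N, n * x * n⁻¹ ≠ x := by
      by_contra! hh
      exact x1 (fix_eq_one h hG hx hh)
    have e2 : cl x = {x, n * x * n⁻¹} := (eq_of_subset_of_card_le (by
      simp [insert_subset_iff, hxx, cj x hx n hn]) (by
      rw [card_pair e.symm]; have := n3 x hx; omega)).symm
    have hy : n * x * n⁻¹ ∈ (P : Subgroup G) := (mcl.1 (cj x hx n hn)).1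
    rw [e2, eq_inv_of_mul_eq_one_right (fix_eq_one h hG (mul_mem hx hy) fun m hm => ?_)]
    have u1 := cj x hx m hm
    have u2 := cj x hx (m * n) (mul_mem hm hn)
    rw [e2, mem_insert, mem_singleton] at u1 u2
    have u3 : m * x * m⁻¹ ≠ m * n * x * (m * n)⁻¹ := fun u => e (by
      rw [mul_inv_rev] at u
      exact (mul_left_cancel (a := m) (mul_right_cancel (b := m⁻¹) (by rw [u]; group))).symm)
    rw [show m * (x * (n * x * n⁻¹)) * m⁻¹ = m * x * m⁻¹ * (m * n * x * (m * n)⁻¹) by group]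
    rcases u1 with u1 | u1 <;> rcases u2 with u2 | u2
    · exact absurd (u1.trans u2.symm) u3
    · rw [u1, u2]
    · rw [u1, u2, cm _ hx _ hy]
    · exact absurd (u1.trans u2.symm) u3
  have sum3 : ∀ a b c : G, a ≠ 1 → b ≠ 1 → c ≠ 1 → ¬ IsConj a b → ¬ IsConj a c → ¬ IsConj b c →
      (cl a).card + (cl b).card + (cl c).card ≤ 8 := fun a b c a1 b1 c1 ab ac bc => by
    have dj : ∀ {u v}, ¬ IsConj u v → Disjoint (cl u) (cl v) := fun huv =>
      disjoint_left.2 fun y h1 h2 => huv ((mcl.1 h1).2.trans (mcl.1 h2).2.symm)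
    rw [← card_union_of_disjoint (dj ab), ← card_union_of_disjoint (disjoint_union_left.2 ⟨dj ac, dj bc⟩)]
    refine (card_le_card (t := (univ.filter (· ∈ (P : Subgroup G))).erase 1) fun y hy => ?_).trans_eq ?_
    · have : ∀ u, u ≠ 1 → y ∈ cl u → y ∈ (univ.filter (· ∈ (P : Subgroup G))).erase 1 :=
        fun u u1 hu => mem_erase.2 ⟨fun e => u1 (isConj_one_left.1 (e ▸ (mcl.1 hu).2)), by
          simpa using (mcl.1 hu).1⟩
      rcases mem_union.1 hy with hy | hy
      · rcases mem_union.1 hy with hy | hy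
        exacts [this a a1 hy, this b b1 hy]
      · exact this c c1 hy
    · rw [card_erase_of_mem (by simp), ← Fintype.card_subtype, ← Nat.card_eq_fintype_card]
      exact congrArg (· - 1) h
  obtain ⟨y, hy, y1, y2⟩ : ∃ y ∈ (P : Subgroup G), y ≠ 1 ∧ (cl y).card ≤ 3 := by
    have := sum3 a b c a1 b1 c1 ab ac bc
    by_contra! hh
    have := hh a ha a1
    have := hh b hb b1
    have := hh c hc c1
    omega
  have ry : ∀ x ∈ (P : Subgroup G), x ≠ 1 → (cl x).card ≤ 3 → IsConj x x⁻¹ := fun x hx x1 h3 =>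
    (mcl.1 (by rw [two x hx x1 h3]; simp)).2
  have real : ∀ x ∈ (P : Subgroup G), IsConj x x⁻¹ := fun x hx => by
    by_contra hr
    have x1 : x ≠ 1 := by rintro rfl; simp at hr
    have inv : ∀ {u v : G}, IsConj u v → IsConj u⁻¹ v⁻¹ := fun huv => by
      obtain ⟨g, rfl⟩ := isConj_iff.1 huv
      exact isConj_iff.2 ⟨g, by group⟩
    have r := ry y hy y1 y2
    have s := sum3 x x⁻¹ y x1 (inv_ne_one.2 x1) y1 hr (fun u => hr (u.trans (r.trans (inv u).symm)))
      fun u => hr ((inv_inv x ▸ inv u).trans (r.symm.trans u.symm))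
    have p0 : 0 < (cl y).card := card_pos.2 ⟨y, mcl.2 ⟨hy, IsConj.refl y⟩⟩
    rcases (by omega : (cl x).card ≤ 3 ∨ (cl x⁻¹).card ≤ 3) with u | u
    · exact hr (ry x hx x1 u)
    · exact hr (by simpa using (ry _ (inv_mem hx) (inv_ne_one.2 x1) u).symm)
  have iy : ∀ i : ℕ, ∀ n ∈ N, n * y ^ i * n⁻¹ = y ^ i ∨ n * y ^ i * n⁻¹ = (y ^ i)⁻¹ := fun i n hn => by
    have u := cj y hy n hn
    rw [two y hy y1 y2, mem_insert, mem_singleton] at u
    rw [← conj_pow]
    exact u.imp (fun u => by rw [u]) fun u => by rw [u, inv_pow]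
  obtain ⟨i, hi, o⟩ := (Nat.dvd_prime_pow Nat.prime_three).1
    (show orderOf y ∣ 3 ^ 2 from (show Nat.card (P : Subgroup G) = 3 ^ 2 from h) ▸
      (P : Subgroup G).orderOf_dvd_natCard hy)
  interval_cases i
  · exact absurd (orderOf_eq_one_iff.1 o) y1
  · exact ⟨y, h, hy, o, fun n hn => by simpa using iy 1 n hn, real⟩
  · exact ⟨y ^ 3, h, pow_mem hy 3, by rw [orderOf_pow' _ (by norm_num), o]; rfl, iy 3, real⟩

end H84.K9
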