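import Mathlib
import Cfsg.Agent.Base
import Cfsg.Agent.Lib.Block.K9a
import Cfsg.Agent.Lib.Block.K9b
import Cfsg.Agent.Lib.Block.Split
import Cfsg.Agent.Lib.Block.Rank2
import Cfsg.Agent.Lib.Block.Strong
import Cfsg.Agent.S4499

/-! A generalized character of norm three for a Sylow subgroup of order nine. -/

set_option autoImplicit false
set_option linter.unusedSectionVars false
set_option linter.style.haveILetI false

open Cfsg H35 Finset Subgroup H17.Ord
open scoped ComplexConjugate

namespace H84.K9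

variable {G : Type*} [Group G] [Finite G] {P : Sylow 3 G} {k : G}

/-- conjugate to an element of `P` outside `⟨k⟩` -/
def Out (P : Sylow 3 G) (k g : G) : Prop := ∃ x ∈ (P : Subgroup G), x ∉ zpowers k ∧ IsConj x g

namespace Loc
variable (h : Loc P k)
include h

theorem cm {x y : G} (hx : x ∈ (P : Subgroup G)) (hy : y ∈ (P : Subgroup G)) : Commute x y :=
  congrArg Subtype.val ((comm_of_nine h.card).is_comm.comm (⟨x, hx⟩ : (P : Subgroup G)) ⟨y, hy⟩)

theorem le : zpowers k ≤ P := zpowers_le.2 h.mem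

theorem normal : ((zpowers k).subgroupOf P).Normal :=
  ⟨fun a ha b => by rw [(comm_of_nine h.card).is_comm.comm b a, mul_inv_cancel_right]; exact ha⟩

theorem index : ((zpowers k).subgroupOf P).index = 3 := by
  have := ((zpowers k).subgroupOf P).card_mul_index
  rw [Nat.card_congr (subgroupOfEquivOfLe h.le).toEquiv, Nat.card_zpowers, h.ord,
    show Nat.card (P : Subgroup G) = 9 from h.card] at this
  omega

theorem out_iff {y : G} (hy : y ∈ (P : Subgroup G)) : Out P k y ↔ y ∉ zpowers k := by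
  refine ⟨fun ⟨x, hx, hx', c⟩ hk => hx' ?_, fun hk => ⟨y, hy, hk, IsConj.refl y⟩⟩
  haveI := comm_of_nine h.card
  obtain ⟨g, rfl⟩ := isConj_iff.1 c.symm
  obtain ⟨n, hn, e⟩ := H4.normalizer_controls_fusion_of_isMulCommutative P y hy g hx
  obtain ⟨i, rfl⟩ := hk
  rw [← e, ← conj_zpow]
  rcases h.inv n hn with u | u <;> rw [u]
  exacts [zpow_mem (mem_zpowers k) i, zpow_mem (inv_mem (mem_zpowers k)) i]

theorem cases {x y : G} (hx : x ∈ (P : Subgroup G)) (hx' : x ∉ zpowers k)
    (hy : y ∈ (P : Subgroup G)) :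
    y ∈ zpowers k ∨ x⁻¹ * y ∈ zpowers k ∨ x⁻¹ * y⁻¹ ∈ zpowers k := by
  haveI := h.normal
  let f := QuotientGroup.mk' ((zpowers k).subgroupOf P)
  have c : Nat.card ((P : Subgroup G) ⧸ (zpowers k).subgroupOf P) = 3 := h.index
  have x1 : f ⟨x, hx⟩ ≠ 1 := fun e => hx' (mem_subgroupOf.1 ((QuotientGroup.eq_one_iff _).1 e))
  rcases three_cases (b := f ⟨y, hy⟩) (orderOf_eq_prime ((congrArg (_ ^ ·) c.symm).trans pow_card_eq_one') x1)
    (mem_zpowers_of_prime_card c x1) with u | u | u
  · exact Or.inl (mem_subgroupOf.1 ((QuotientGroup.eq_one_iff _).1 u))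
  · exact Or.inr (Or.inl (mem_subgroupOf.1 (QuotientGroup.eq.1 u.symm)))
  · exact Or.inr (Or.inr (mem_subgroupOf.1 (QuotientGroup.eq.1
      (show f _ = f (⟨y, hy⟩ : (P : Subgroup G))⁻¹ from (inv_eq_iff_eq_inv.2 u).symm))))

theorem out_cases {x g : G} (hx : x ∈ (P : Subgroup G)) (hx' : x ∉ zpowers k) (hg : Out P k g) :
    IsConj x g ∨ IsConj (x * k) g ∨ IsConj (x * k⁻¹) g := by
  obtain ⟨y, hy, hy', c⟩ := hg
  have key : ∀ z, IsConj z g → x⁻¹ * z ∈ zpowers k →
      IsConj x g ∨ IsConj (x * k) g ∨ IsConj (x * k⁻¹) g := fun z c hz => by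
    rcases three_cases h.ord hz with u | u | u <;> rw [inv_mul_eq_iff_eq_mul] at u <;> subst u
    exacts [Or.inl (by simpa using c), Or.inr (Or.inl c), Or.inr (Or.inr c)]
  rcases h.cases hx hx' hy with u | u | u
  exacts [absurd u hy', key y c u, key y⁻¹ ((h.real y hy).symm.trans c) u]

theorem exists_out : ∃ x ∈ (P : Subgroup G), x ∉ zpowers k := by
  by_contra! hh
  have := card_le_of_le (show (P : Subgroup G) ≤ zpowers k from hh)
  rw [Nat.card_zpowers, h.ord, show Nat.card (P : Subgroup G) = 9 from h.card] at this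
  omega

open Classical in
theorem three_lt [Fintype G] :
    3 * (univ.filter fun g => Out P k (pPart 3 g)).card < 2 * Nat.card G := by
  have pe : ∀ {x}, x ∈ (P : Subgroup G) → IsPElt 3 x := isPElt_of_mem P.isPGroup'
  have k1 : k ≠ 1 := fun e => by simpa [e] using h.ord
  have nk : ∀ {x u}, x ∉ zpowers k → u ∈ zpowers k → x * u ∉ zpowers k := fun hx hu e =>
    hx ((mul_mem_cancel_right hu).1 e)
  by_cases hb : ∃ x ∈ (P : Subgroup G), x ∉ zpowers k ∧
      ∃ n ∈ normalizer ((P : Subgroup G) : Set G), Commute x n ∧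
        n ∉ centralizer ((P : Subgroup G) : Set G)
  · obtain ⟨x, hx, hx', n, hn, c, hn'⟩ := hb
    have e : n * k * n⁻¹ = k⁻¹ := (h.inv n hn).resolve_left fun e => hn' fun y hy => by
      have ck : ∀ z ∈ zpowers k, Commute z n := by
        rintro _ ⟨i, rfl⟩
        exact (show Commute k n from (mul_inv_eq_iff_eq_mul.1 e).symm).zpow_left i
      rcases h.cases hx hx' hy with u | u | u
      · exact ck y u
      · simpa using (c.mul_left (ck _ u)).eq
      · exact (by simpa using (c.mul_left (ck _ u)).inv_left : Commute y n)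
    have cj : IsConj (x * k) (x * k⁻¹) := isConj_iff.2 ⟨n, by rw [← e, ← mul_assoc, ← c.eq]; group⟩
    have key : ∀ z ∈ (P : Subgroup G), z ∉ zpowers k → 3 * (sec 3 z).card < Nat.card G :=
      fun z hz hz' => three_sec_lt 3 (pe hz) (pe h.mem) (h.cm hz h.mem)
        (fun e => hz' (e ▸ one_mem _)) (fun e => hz' (by
          have o : orderOf z ∣ 2 := orderOf_dvd_of_pow_eq_one (by rw [sq]; exact mul_eq_one_iff_eq_inv.2 e)
          rw [(pe hz).eq_one_of_not_dvd fun d => absurd (d.trans o) (by norm_num)]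
          exact one_mem _)) k1 (fun e => hz' (e ▸ mem_zpowers k))
        fun e => hz' (inv_mem_iff.1 (e ▸ mem_zpowers k))
    have := key x hx hx'
    have := key _ (mul_mem hx h.mem) (nk hx' (mem_zpowers k))
    have := (card_le_card (s := univ.filter fun g => Out P k (pPart 3 g))
      (t := sec 3 x ∪ sec 3 (x * k)) fun g hg => by
        simp only [mem_union, mem_sec]
        exact (h.out_cases hx hx' (mem_filter.1 hg).2).imp_right fun u => u.elim id cj.trans).trans
      (card_union_le _ _)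
    omega
  · push Not at hb
    obtain ⟨x, hx, hx'⟩ := h.exists_out
    have key : ∀ z ∈ (P : Subgroup G), z ∉ zpowers k → 9 * (sec 3 z).card ≤ Nat.card G :=
      fun z hz hz' => h.card ▸ sec_le_of_compl 3 P (pe hz)
        (fun y hy => mem_centralizer_singleton_iff.2 (h.cm hy hz)) (hb z hz hz')
    have := key x hx hx'
    have := key _ (mul_mem hx h.mem) (nk hx' (mem_zpowers k))
    have := key _ (mul_mem hx (inv_mem h.mem)) (nk hx' (inv_mem (mem_zpowers k)))
    have := (card_le_card (s := univ.filter fun g => Out P k (pPart 3 g))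
      (t := sec 3 x ∪ (sec 3 (x * k) ∪ sec 3 (x * k⁻¹))) fun g hg => by
        simp only [mem_union, mem_sec]
        exact h.out_cases hx hx' (mem_filter.1 hg).2).trans
      ((card_union_le _ _).trans (Nat.add_le_add_left (card_union_le _ _) _))
    have := Nat.card_pos (α := G)
    omega

open Classical in
theorem isGen : IsGeneralizedCharacter G fun g => if Out P k (pPart 3 g) then (3 : ℂ) else 0 := by
  refine isGen_comp_pPart_of (η := fun g => if Out P k g then (3 : ℂ) else 0) (fun g a => ?_)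
    fun Q hQ => ?_
  · have c : IsConj g (a * g * a⁻¹) := isConj_iff.2 ⟨a, rfl⟩
    exact if_congr ⟨fun ⟨x, h1, h2, h3⟩ => ⟨x, h1, h2, h3.trans c.symm⟩,
      fun ⟨x, h1, h2, h3⟩ => ⟨x, h1, h2, h3.trans c⟩⟩ rfl rfl
  haveI := h.normal
  obtain ⟨a, -, ha⟩ := H4.exists_conj_le_sylow_of_le P le_top hQ le_top
  let f : Q →* (P : Subgroup G) := ((MulAut.conj a).toMonoidHom.comp Q.subtype).codRestrict _
    fun q => ha q q.2
  have := H6.isGen_sub (H6.isGen_nsmul 3 H6.isGen_one) (H6.isGen_comp
    ((QuotientGroup.mk' ((zpowers k).subgroupOf P)).comp f) (H6.char_isGen H6.isCharacter_regChar))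
  convert this using 2 with q
  have c : IsConj (q : G) (f q) := isConj_iff.2 ⟨a, rfl⟩
  have e : Out P k q ↔ (f q : G) ∉ zpowers k :=
    ⟨fun ⟨x, h1, h2, h3⟩ => (h.out_iff (f q).2).1 ⟨x, h1, h2, h3.trans c⟩,
      fun u => ⟨_, (f q).2, u, c.symm⟩⟩
  by_cases u : (f q : G) ∈ zpowers k
  · rw [if_neg fun v => e.1 v u, Pi.sub_apply, MonoidHom.comp_apply, QuotientGroup.mk'_apply,
      (QuotientGroup.eq_one_iff _).2 (mem_subgroupOf.2 u), H6.regChar_one,
      show Nat.card ((P : Subgroup G) ⧸ (zpowers k).subgroupOf P) = 3 from h.index]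
    simp
  · rw [if_pos (e.2 u), Pi.sub_apply, MonoidHom.comp_apply, QuotientGroup.mk'_apply,
      H6.regChar_ne fun v => u
      (mem_subgroupOf.1 ((QuotientGroup.eq_one_iff _).1 v))]
    simp

/-- two consecutive degrees prime to three -/
theorem exists_consec [IsSimpleGroup G] (hna : ∃ a b : G, a * b ≠ b * a) :
    ∃ χ ψ : IrrCharacter G, ψ ≠ triv G ∧ dg χ = dg ψ + 1 ∧ ¬ 3 ∣ dg χ ∧ ¬ 3 ∣ dg ψ := by
  classical
  haveI := Fintype.ofFinite G
  set Ξ : G → ℂ := fun g => if Out P k (pPart 3 g) then (3 : ℂ) else 0 with hΞ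
  have hg : IsGeneralizedCharacter G Ξ := h.isGen
  have g0 : (Nat.card G : ℂ) ≠ 0 := H6.card_ne_zero
  obtain ⟨m, hm⟩ := H6.gen_inner_int hg H6.isGen_one
  have e1 : (Nat.card G : ℂ) * m = 3 * (univ.filter fun g => Out P k (pPart 3 g)).card := by
    rw [← hm, H6.card_mul_classInner]
    simp [Ξ, ← sum_filter, mul_comm]
  obtain rfl : m = 1 := by
    have e2 : (Nat.card G : ℤ) * m = 3 * (univ.filter fun g => Out P k (pPart 3 g)).card := by
      exact_mod_cast e1
    have h1 := h.three_lt
    obtain ⟨x, hx, hx'⟩ := h.exists_out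
    have h2 : 0 < (univ.filter fun g => Out P k (pPart 3 g)).card := card_pos.2 ⟨x, by
      rw [mem_filter, pPart_eq_self (isPElt_of_mem P.isPGroup' hx)]
      exact ⟨mem_univ _, (h.out_iff hx).2 hx'⟩⟩
    have h3 : (0 : ℤ) < Nat.card G := by exact_mod_cast Nat.card_pos
    have h4 : 0 < m := pos_of_mul_pos_left (b := (Nat.card G : ℤ)) (by rw [mul_comm]; omega) h3.le
    have h5 : m < 2 := lt_of_mul_lt_mul_left (a := (Nat.card G : ℤ)) (by omega) h3.le
    omega
  have n3 : classInner Ξ Ξ = 3 := by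
    rw [show classInner Ξ Ξ = 3 * classInner Ξ fun _ => 1 by
      simp only [H6.classInner_def, mul_sum]
      exact sum_congr rfl fun g _ => by simp only [Ξ]; split_ifs <;> simp [map_ofNat]; ring, hm]
    simp
  have hm' : classInner (fun _ => 1) Ξ = 1 := by rw [← H6.conj_classInner, hm]; simp
  obtain ⟨α, β, a, b, ne, ha, hb, e⟩ := H34.exists_of_inner_self_eq_two (H6.isGen_sub hg H6.isGen_one)
    (by rw [H6.classInner_sub_left, H6.classInner_sub_right, H6.classInner_sub_right, n3, hm, hm',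
      H6.classInner_one_one]; norm_num)
  have inn : ∀ γ : IrrCharacter G, classInner Ξ γ - classInner (fun _ => 1) (γ : G → ℂ) =
      a * (if α = γ then 1 else 0) + b * (if β = γ then 1 else 0) := fun γ => by
    rw [← H6.classInner_sub_left, e, H6.classInner_add_left, H6.classInner_smul_left,
      H6.classInner_smul_left, H6.irr_inner', H6.irr_inner']
  have a0 : (a : ℂ) ≠ 0 := by rcases ha with rfl | rfl <;> simp
  have b0 : (b : ℂ) ≠ 0 := by rcases hb with rfl | rfl <;> simp
  have t0 := inn (triv G)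
  rw [show classInner Ξ (triv G) = _ from hm, show classInner (fun _ => 1) (triv G : G → ℂ) = _ from
    H6.classInner_one_one] at t0
  have α1 : α ≠ triv G := fun u => a0 (by simpa [u, show β ≠ triv G from u ▸ ne.symm] using t0.symm)
  have β1 : β ≠ triv G := fun u => b0 (by simpa [u, show α ≠ triv G from u ▸ ne] using t0.symm)
  obtain ⟨M, hM⟩ := H33.exists_isPModular 3
  haveI := hM.2.1
  have fac : (Nat.card G).factorization 3 = 2 :=
    Nat.pow_right_injective (show 2 ≤ 3 by norm_num) (P.card_eq_multiplicity.symm.trans h.card)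
  have nd : ∀ γ : IrrCharacter G, γ ≠ triv G →
      (a : ℂ) * (if α = γ then 1 else 0) + b * (if β = γ then 1 else 0) ≠ 0 → ¬ 3 ∣ dg γ :=
    fun γ γ1 h0 d => by
    have hγ : γ ∈ principalBlock M G := by
      by_contra hγ
      have := H34.sum_section_eq_zero hM (principalBlock M G)
        (fun g => H33.mem_O.1 (H33.blockCoeff_mem_O H33.isPBlock_principalBlock g))
        {g | Out P k (pPart 3 g)} (fun g g' hc ⟨x, h1, h2, h3⟩ => ⟨x, h1, h2, h3.trans hc⟩)
        irrOne_mem_principal hγ
      refine h0 ?_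
      rw [← inn, show classInner (fun _ => 1) (γ : G → ℂ) = 0 from
        H6.irr_inner_ne (triv G).2 γ.2 fun u => γ1 (Subtype.ext u.symm), sub_zero,
        H6.classInner_def, show ∑ g, Ξ g * conj ((γ : G → ℂ) g) = 3 * 0 by
          rw [← this, mul_sum]
          exact sum_congr rfl fun g _ => by
            simp only [Ξ, Set.mem_ofPred_eq]; split_ifs <;> simp [triv_apply], mul_zero, mul_zero]
    have := Cfsg.Agent.S4499.result 3 M hM (by
      refine dvd_trans ?_ (P : Subgroup G).card_subgroup_dvd_card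
      rw [show Nat.card (P : Subgroup G) = 9 from h.card]; norm_num) _ isPBlock_principal γ hγ
      (by rwa [fac]) (triv G) irrOne_mem_principal
    rw [fac, show charDegree (triv G : G → ℂ) = 1 from dg_triv] at this
    norm_num at this
  have nα := nd α α1 (by simpa [ne.symm] using a0)
  have nβ := nd β β1 (by simpa [ne] using b0)
  have v := congrFun e 1
  simp only [Ξ, pPart_one, Pi.sub_apply, Pi.add_apply, Pi.smul_apply, smul_eq_mul, dg_cast,
    if_neg fun u => (h.out_iff (one_mem _)).1 u (one_mem _)] at v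
  have v' : (0 : ℤ) - 1 = a * dg α + b * dg β := by exact_mod_cast v
  have d1 : dg α ≠ 1 := fun u => α1 (eq_triv_of_dg hna u)
  have := dg_pos α
  have := dg_pos β
  rcases ha with rfl | rfl <;> rcases hb with rfl | rfl
  · omega
  · exact ⟨β, α, α1, by omega, nβ, nα⟩
  · exact ⟨α, β, β1, by omega, nα, nβ⟩
  · omega

end Loc

end H84.K9
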